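import Cfsg.Agent.Lib.PGroup.AltAut
import Cfsg.Agent.Lib.SymMax.IndexSix

/-!
# An exotic automorphism of the alternating group of degree six, and extensions of degree two
-/

set_option autoImplicit false
set_option linter.style.haveILetI false

namespace CfsgLib.Characterizations.AltSixExotic

open Equiv Equiv.Perm

/-- The even permutations without fixed point of order three are conjugate. -/
theorem double_conj : ∀ x : alternatingGroup (Fin 6), x ^ 3 = 1 →
    (x : Perm (Fin 6)).support.card = 6 → ∃ c : alternatingGroup (Fin 6),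
      c * x * c⁻¹ = ⟨swap 0 1 * swap 1 2 * (swap 3 4 * swap 4 5),
        mem_alternatingGroup.2 (by decide)⟩ := by
  decide +kernel

theorem three_cases (x : alternatingGroup (Fin 6)) (hx : x ^ 3 = 1) (hx1 : x ≠ 1) :
    (x : Perm (Fin 6)).IsThreeCycle ∨ (x : Perm (Fin 6)).support.card = 6 := by
  rcases CfsgLib.PGroup.AltAut.six_counts.2.2 (x : Perm (Fin 6)) (congrArg Subtype.val hx) with h | h | h
  · exact absurd (Subtype.ext h) hx1
  · exact Or.inl (card_support_eq_three_iff.1 h)
  · exact Or.inr h.1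

theorem threeCycle_map (ψ : MulAut (alternatingGroup (Fin 6))) {u v : alternatingGroup (Fin 6)}
    (hu : (u : Perm (Fin 6)).IsThreeCycle) (hv : (v : Perm (Fin 6)).IsThreeCycle)
    (h : (ψ u : Perm (Fin 6)).IsThreeCycle) : (ψ v : Perm (Fin 6)).IsThreeCycle := by
  obtain ⟨c, hc⟩ := isConj_iff.1 (alternatingGroup.isThreeCycle_isConj (by simp) hu hv)
  rw [← hc, map_mul, map_mul, map_inv, Subgroup.coe_mul, Subgroup.coe_mul, Subgroup.coe_inv]
  unfold Perm.IsThreeCycle
  rw [cycleType_conj]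
  exact h

/-- Some automorphism of `A₆` moves three-cycles off three-cycles. -/
theorem exists_exotic : ∃ ψ : MulAut (alternatingGroup (Fin 6)),
    ∀ u : alternatingGroup (Fin 6), (u : Perm (Fin 6)).IsThreeCycle →
      ¬ (ψ u : Perm (Fin 6)).IsThreeCycle := by
  obtain ⟨φ, hφ, -⟩ := CfsgLib.SymMax.IndexSix.classify (Ω := Fin 6) (by simp)
  have hmap : ∀ x : Perm (Fin 6), φ x ∈ alternatingGroup (Fin 6) ↔ x ∈ alternatingGroup (Fin 6) := by
    have hs : Perm.sign.comp φ.toMonoidHom = (Perm.sign : Perm (Fin 6) →* ℤˣ) :=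
      Equiv.Perm.eq_sign_of_surjective_hom
        ((Perm.sign_surjective (Fin 6)).comp φ.surjective)
    intro x
    rw [mem_alternatingGroup, mem_alternatingGroup]
    have := congrArg (fun f : Perm (Fin 6) →* ℤˣ => f x) hs
    simp only [MonoidHom.comp_apply, MulEquiv.toMonoidHom_eq_coe, MonoidHom.coe_coe] at this
    rw [this]
  let ψ : MulAut (alternatingGroup (Fin 6)) :=
    { toFun := fun x => ⟨φ x, (hmap x).2 x.2⟩
      invFun := fun x => ⟨φ.symm x, (hmap _).1 (by rw [φ.apply_symm_apply]; exact x.2)⟩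
      left_inv := fun x => Subtype.ext (φ.symm_apply_apply x)
      right_inv := fun x => Subtype.ext (φ.apply_symm_apply x)
      map_mul' := fun x y => Subtype.ext (map_mul φ (x : Perm (Fin 6)) (y : Perm (Fin 6))) }
  refine ⟨ψ, fun u hu hψu => ?_⟩
  obtain ⟨σ, hσ⟩ := CfsgLib.PGroup.AltAut.exists_conjNormal 6 (by norm_num) ψ
    fun v hv => threeCycle_map ψ hu hv hψu
  have hval : ∀ x : alternatingGroup (Fin 6), φ (x : Perm (Fin 6)) = σ * x * σ⁻¹ := by
    intro x
    rw [← MulAut.conjNormal_apply, hσ]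
    rfl
  have hall : ∀ g : Perm (Fin 6), φ g = σ * g * σ⁻¹ := by
    intro g
    have h1 : MulAut.conjNormal (σ⁻¹ * φ g * σ) =
        (MulAut.conjNormal g : MulAut (alternatingGroup (Fin 6))) := by
      refine MulEquiv.ext fun x => Subtype.ext ?_
      rw [MulAut.conjNormal_apply, MulAut.conjNormal_apply]
      have h2 := hval ⟨g * x * g⁻¹, (inferInstance : (alternatingGroup (Fin 6)).Normal).conj_mem _ x.2 g⟩
      simp only [map_mul, map_inv, hval x] at h2
      calc σ⁻¹ * φ g * σ * (x : Perm (Fin 6)) * (σ⁻¹ * φ g * σ)⁻¹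
          = σ⁻¹ * (φ g * (σ * x * σ⁻¹) * (φ g)⁻¹) * σ := by group
        _ = g * x * g⁻¹ := by rw [h2]; group
    have h3 := CfsgLib.PGroup.AltAut.conjNormal_injective 6 (by norm_num) h1
    calc φ g = σ * (σ⁻¹ * φ g * σ) * σ⁻¹ := by group
      _ = σ * g * σ⁻¹ := by rw [h3]
  refine hφ 0 (σ⁻¹ 0) ?_
  ext g
  simp only [Subgroup.mem_comap, MulAction.mem_stabilizer_iff, Equiv.Perm.smul_def,
    MulEquiv.toMonoidHom_eq_coe, MonoidHom.coe_coe, hall, Perm.mul_apply]
  constructor
  · intro h
    exact σ.injective (h.trans (σ.apply_symm_apply 0).symm)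
  · intro h
    rw [h]
    exact σ.apply_symm_apply 0

variable {G : Type*} [Group G]

/-- An isomorphism onto `A₆` sending a given element of order three to a three-cycle. -/
theorem exists_equiv_threeCycle (f : G ≃* alternatingGroup (Fin 6)) {k : G} (hk : k ^ 3 = 1)
    (hk1 : k ≠ 1) :
    ∃ f' : G ≃* alternatingGroup (Fin 6), (f' k : Perm (Fin 6)).IsThreeCycle := by
  have hne : f k ≠ 1 := fun h => hk1 (f.injective (h.trans (map_one f).symm))
  rcases three_cases (f k) (by rw [← map_pow, hk, map_one]) hne with h | h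
  · exact ⟨f, h⟩
  obtain ⟨ψ, hψ⟩ := exists_exotic
  let u : alternatingGroup (Fin 6) := ⟨swap 0 1 * swap 1 2, mem_alternatingGroup.2 (by decide)⟩
  have hu : (u : Perm (Fin 6)).IsThreeCycle := card_support_eq_three_iff.1 (by decide)
  refine ⟨f.trans ψ, ?_⟩
  by_contra hn
  have hd : ∀ x : alternatingGroup (Fin 6), x ^ 3 = 1 → x ≠ 1 →
      ¬ (x : Perm (Fin 6)).IsThreeCycle → (x : Perm (Fin 6)).support.card = 6 :=
    fun x h1 h2 h3 => (three_cases x h1 h2).resolve_left h3
  have hu3 : u ^ 3 = 1 := by decide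
  obtain ⟨a, ha⟩ := double_conj (ψ u) (by rw [← map_pow, hu3, map_one])
    (hd _ (by rw [← map_pow, hu3, map_one])
      (fun h' => (by decide : u ≠ 1) (ψ.injective (h'.trans (map_one ψ).symm))) (hψ u hu))
  obtain ⟨b, hb⟩ := double_conj (ψ (f k)) (by rw [← map_pow, ← map_pow, hk, map_one, map_one])
    (hd _ (by rw [← map_pow, ← map_pow, hk, map_one, map_one])
      (fun h' => hne (ψ.injective (h'.trans (map_one ψ).symm))) hn)
  have h1 : ψ (f k) = b⁻¹ * a * ψ u * (b⁻¹ * a)⁻¹ := by
    calc ψ (f k) = b⁻¹ * (b * ψ (f k) * b⁻¹) * b := by group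
      _ = b⁻¹ * (a * ψ u * a⁻¹) * b := by rw [hb, ha]
      _ = _ := by group
  have h2 : f k = ψ.symm (b⁻¹ * a) * u * (ψ.symm (b⁻¹ * a))⁻¹ := by
    refine ψ.injective ?_
    rw [map_mul, map_mul, map_inv, MulEquiv.apply_symm_apply, h1]
  have h3 : (f k : Perm (Fin 6)).IsThreeCycle := by
    rw [h2, Subgroup.coe_mul, Subgroup.coe_mul, Subgroup.coe_inv]
    unfold Perm.IsThreeCycle
    rw [cycleType_conj]
    exact hu
  rw [h3.card_support] at h
  omega

/-- An extension of `A₆` of degree two with trivial centralizer in which an outer element fixes an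
element of order three is the symmetric group of degree six. -/
theorem equiv_perm_six [Finite G] (N : Subgroup G) [N.Normal] (hN : N.index = 2)
    (hiso : Nonempty (N ≃* alternatingGroup (Fin 6))) {t : G} (ht : t ∉ N)
    {k : G} (hk : k ∈ N) (hk3 : k ^ 3 = 1) (hk1 : k ≠ 1) (htk : t * k = k * t)
    (hcent : ∀ g : G, (∀ x ∈ N, g * x = x * g) → g = 1) :
    Nonempty (G ≃* Perm (Fin 6)) := by
  obtain ⟨f0⟩ := hiso
  obtain ⟨f, hf⟩ := exists_equiv_threeCycle f0 (k := (⟨k, hk⟩ : N)) (Subtype.ext hk3)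
    (fun h => hk1 (congrArg Subtype.val h))
  let Ψ : G →* MulAut (alternatingGroup (Fin 6)) :=
    (MulAut.congr f).toMonoidHom.comp MulAut.conjNormal
  let j : Perm (Fin 6) →* MulAut (alternatingGroup (Fin 6)) := MulAut.conjNormal
  have hj : Function.Injective j := CfsgLib.PGroup.AltAut.conjNormal_injective 6 (by norm_num)
  have hNle : ∀ g ∈ N, Ψ g ∈ j.range := by
    intro g hg
    refine ⟨(f ⟨g, hg⟩ : Perm (Fin 6)), MulEquiv.ext fun x => Subtype.ext ?_⟩
    obtain ⟨y, rfl⟩ := f.surjective x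
    have : Ψ g (f y) = f (⟨g, hg⟩ * y * ⟨g, hg⟩⁻¹) := by
      show f (MulAut.conjNormal g (f.symm (f y))) = _
      rw [f.symm_apply_apply]
      exact congrArg f (Subtype.ext (MulAut.conjNormal_apply g y))
    rw [this, MulAut.conjNormal_apply, map_mul, map_mul, map_inv]
    rfl
  have htR : Ψ t ∈ j.range := by
    obtain ⟨σ, hσ⟩ := CfsgLib.PGroup.AltAut.exists_conjNormal 6 (by norm_num) (Ψ t) fun v hv => by
      refine threeCycle_map (Ψ t) hf hv ?_
      have : Ψ t (f ⟨k, hk⟩) = f ⟨k, hk⟩ := by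
        show f (MulAut.conjNormal t (f.symm (f ⟨k, hk⟩))) = _
        rw [f.symm_apply_apply]
        refine congrArg f (Subtype.ext ?_)
        rw [MulAut.conjNormal_apply]
        show t * k * t⁻¹ = k
        rw [htk, mul_inv_cancel_right]
      rwa [this]
    exact ⟨σ, hσ⟩
  have hall : ∀ g, Ψ g ∈ j.range := by
    intro g
    by_cases hg : g ∈ N
    · exact hNle g hg
    · have hgt : g * t ∈ N :=
        (Subgroup.mul_mem_iff_of_index_two hN).2 (iff_of_false hg ht)
      have := mul_mem (hNle _ hgt) (inv_mem htR)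
      rwa [← map_inv, ← map_mul, mul_inv_cancel_right] at this
  let Φ : G →* Perm (Fin 6) :=
    (MonoidHom.ofInjective hj).symm.toMonoidHom.comp (Ψ.codRestrict j.range hall)
  have hΦ : Function.Injective Φ := by
    rw [injective_iff_map_eq_one]
    intro g hg
    have h1 : Ψ g = 1 := by
      have h : (MonoidHom.ofInjective hj).symm (Ψ.codRestrict j.range hall g) = 1 := hg
      have h' := (MulEquiv.map_eq_one_iff _).1 h
      exact congrArg Subtype.val h'
    refine hcent g fun x hx => ?_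
    have h2 : MulAut.conjNormal g (⟨x, hx⟩ : N) = ⟨x, hx⟩ := by
      have := congrArg (fun φ : MulAut (alternatingGroup (Fin 6)) => f.symm (φ (f ⟨x, hx⟩))) h1
      simp only [MulAut.one_apply, f.symm_apply_apply] at this
      have h' : Ψ g (f ⟨x, hx⟩) = f (MulAut.conjNormal g (f.symm (f ⟨x, hx⟩))) := rfl
      rwa [h', f.symm_apply_apply, f.symm_apply_apply] at this
    have h3 := congrArg Subtype.val h2
    rw [MulAut.conjNormal_apply] at h3
    exact mul_inv_eq_iff_eq_mul.1 h3
  have hcard : Nat.card G = Nat.card (Perm (Fin 6)) := by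
    rw [← N.index_mul_card, hN, Nat.card_congr f.toEquiv, nat_card_alternatingGroup,
      Nat.card_perm, Nat.card_fin]
    rfl
  exact ⟨MulEquiv.ofBijective Φ ((Nat.bijective_iff_injective_and_card Φ).2 ⟨hΦ, hcard⟩)⟩

end CfsgLib.Characterizations.AltSixExotic
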