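import Cfsg.Agent.Lib.Involution.Count
import Cfsg.Agent.Lib.Char.Orth
import Mathlib.GroupTheory.FixedPointFree

/-!
# The Brauer–Suzuki–Wall configuration: elementary facts and counting of involution pairs
-/

set_option autoImplicit false

namespace CfsgLib.Characterizations.BSW

open CfsgLib.Involution.Count CfsgLib.Involution.Dihedral

variable {G : Type*} [Group G]

/-- The configuration of the abstract Brauer–Suzuki–Wall theorem. -/
structure Hyp (t : G) (K : Subgroup G) (s : G) : Prop where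
  ht : orderOf t = 2
  hKab : IsMulCommutative ↥K
  hKH : K ≤ Subgroup.centralizer ({t} : Set G)
  htK : t ∈ K
  hs : orderOf s = 2
  hsH : s ∈ Subgroup.centralizer ({t} : Set G)
  hsK : s ∉ K
  hH : K ⊔ Subgroup.zpowers s = Subgroup.centralizer ({t} : Set G)
  hCK : K ⊓ Subgroup.centralizer ({s} : Set G) = Subgroup.zpowers t
  hinv : ∀ x ∈ K, s * x * s⁻¹ = x⁻¹
  hTI : ∀ g : G, g ∉ Subgroup.centralizer ({t} : Set G) → K ⊓ K.map (MulAut.conj g).toMonoidHom = ⊥
  hconj : ∀ x y : G, orderOf x = 2 → orderOf y = 2 → IsConj x y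

/-- `g` is a non-identity element conjugate into `K`. -/
def Ins (K : Subgroup G) (g : G) : Prop := g ≠ 1 ∧ ∃ x : G, x * g * x⁻¹ ∈ K

/-- `g` is a non-identity element not conjugate into `K`. -/
def Out (K : Subgroup G) (g : G) : Prop := g ≠ 1 ∧ ¬ Ins K g

/-- The number of pairs of involutions with product `g`. -/
noncomputable def beta (g : G) : ℕ :=
  Nat.card {p : G × G // orderOf p.1 = 2 ∧ orderOf p.2 = 2 ∧ p.1 * p.2 = g}

lemma mul_eq_one_of_zpow_involution {u x : G} (hu : orderOf u = 2) (hx : x ∈ Subgroup.zpowers u) :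
    x = 1 ∨ x = u := by
  obtain ⟨m, rfl⟩ := Subgroup.mem_zpowers_iff.1 hx
  rcases Int.even_or_odd m with ⟨j, rfl⟩ | ⟨j, rfl⟩
  · left
    rw [← two_mul, zpow_mul, show (2 : ℤ) = ((2 : ℕ) : ℤ) from rfl, zpow_natCast, ← hu,
      pow_orderOf_eq_one, one_zpow]
  · right
    rw [zpow_add, zpow_mul, show (2 : ℤ) = ((2 : ℕ) : ℤ) from rfl, zpow_natCast, ← hu,
      pow_orderOf_eq_one, one_zpow, one_mul, zpow_one]

namespace Hyp

variable {t s : G} {K : Subgroup G}

lemma comm (h : Hyp t K s) {x y : G} (hx : x ∈ K) (hy : y ∈ K) : x * y = y * x := by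
  haveI := h.hKab
  exact congrArg Subtype.val (mul_comm' (⟨x, hx⟩ : K) ⟨y, hy⟩)

lemma inv_left (h : Hyp t K s) {x : G} (hx : x ∈ K) : s * x = x⁻¹ * s := by
  have h1 := h.hinv x hx
  rw [mul_inv_eq_iff_eq_mul] at h1
  exact h1

lemma mem_H_cases (h : Hyp t K s) {g : G} (hg : g ∈ Subgroup.centralizer ({t} : Set G)) :
    g ∈ K ∨ g * s ∈ K := by
  have hs1 : s * s = 1 := mul_self h.hs
  let L : Subgroup G :=
    { carrier := {g | g ∈ K ∨ g * s ∈ K}
      one_mem' := Or.inl K.one_mem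
      mul_mem' := by
        intro a b ha hb
        rcases ha with ha | ha <;> rcases hb with hb | hb
        · exact Or.inl (mul_mem ha hb)
        · refine Or.inr ?_
          rw [mul_assoc]
          exact mul_mem ha hb
        · refine Or.inr ?_
          have : a * b * s = a * s * b⁻¹ := by
            rw [mul_assoc a s, h.inv_left (inv_mem hb), inv_inv, ← mul_assoc]
          rw [this]
          exact mul_mem ha (inv_mem hb)
        · refine Or.inl ?_
          have : a * b = a * s * (b * s)⁻¹ := by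
            have h1 := h.inv_left (inv_mem hb)
            rw [inv_inv] at h1
            rw [mul_assoc a s, h1, mul_assoc b s, hs1, mul_one]
          rw [this]
          exact mul_mem ha (inv_mem hb)
      inv_mem' := by
        intro a ha
        rcases ha with ha | ha
        · exact Or.inl (inv_mem ha)
        · refine Or.inr ?_
          have h1 := h.inv_left (inv_mem ha)
          have this : a⁻¹ * s = a * s := by
            rw [inv_inv, mul_inv_rev, inv_eq h.hs, ← mul_assoc, hs1, one_mul] at h1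
            rw [h1, mul_assoc a s s, hs1, mul_one]
          rw [this]
          exact ha }
  have hle : K ⊔ Subgroup.zpowers s ≤ L := by
    refine sup_le (fun x hx => Or.inl hx) ?_
    rw [Subgroup.zpowers_le]
    exact Or.inr (by rw [hs1]; exact K.one_mem)
  exact hle (h.hH.symm ▸ hg)

lemma of_notMem (h : Hyp t K s) {g : G} (hg : g ∈ Subgroup.centralizer ({t} : Set G)) (hgK : g ∉ K) :
    orderOf g = 2 ∧ ∀ x ∈ K, g * x * g⁻¹ = x⁻¹ := by
  have hk := (h.mem_H_cases hg).resolve_left hgK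
  set c := g * s with hc
  have hg' : g = c * s := by rw [hc, mul_assoc, mul_self h.hs, mul_one]
  refine ⟨orderOf_eq_two ?_ (fun e => hgK (e ▸ K.one_mem)), fun x hx => ?_⟩
  · rw [hg', mul_assoc, ← mul_assoc s c s, h.inv_left hk, mul_assoc c⁻¹ s s, mul_self h.hs, mul_one,
      mul_inv_cancel]
  · rw [hg', mul_inv_rev]
    calc c * s * x * (s⁻¹ * c⁻¹) = c * (s * x * s⁻¹) * c⁻¹ := by group
      _ = x⁻¹ := by rw [h.hinv x hx, h.comm hk (inv_mem hx), mul_inv_cancel_right]

lemma eq_one_or_t (h : Hyp t K s) {x : G} (hx : x ∈ K) (hx2 : x * x = 1) : x = 1 ∨ x = t := by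
  refine mul_eq_one_of_zpow_involution h.ht ?_
  rw [← h.hCK]
  refine ⟨hx, Subgroup.mem_centralizer_singleton_iff.2 ?_⟩
  rw [h.inv_left hx, inv_eq_of_mul_eq_one_left hx2]

lemma ti (h : Hyp t K s) {x y : G} (hy : y ∈ K) (hy1 : y ≠ 1) (hxy : x * y * x⁻¹ ∈ K) :
    x ∈ Subgroup.centralizer ({t} : Set G) := by
  by_contra hx
  have h1 : x * y * x⁻¹ ∈ K ⊓ K.map (MulAut.conj x).toMonoidHom := ⟨hxy, ⟨y, hy, rfl⟩⟩
  rw [h.hTI x hx, Subgroup.mem_bot, conj_eq_one_iff] at h1
  exact hy1 h1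

lemma cent_le (h : Hyp t K s) {y g : G} (hy : y ∈ K) (hy1 : y ≠ 1) (hg : g * y = y * g) :
    g ∈ Subgroup.centralizer ({t} : Set G) :=
  h.ti hy hy1 (by rw [hg, mul_inv_cancel_right]; exact hy)

lemma cent_eq (h : Hyp t K s) {y g : G} (hy : y ∈ K) (hy2 : y * y ≠ 1) (hg : g * y = y * g) : g ∈ K := by
  by_contra hgK
  have hy1 : y ≠ 1 := fun e => hy2 (by rw [e, one_mul])
  have h1 := (h.of_notMem (h.cent_le hy hy1 hg) hgK).2 y hy
  rw [hg, mul_inv_cancel_right] at h1
  exact hy2 (mul_eq_one_iff_eq_inv.2 h1)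

lemma ins_of_mem (h : Hyp t K s) {g : G} (hg : g ∈ Subgroup.centralizer ({t} : Set G)) (hg1 : g ≠ 1) :
    Ins K g := by
  refine ⟨hg1, ?_⟩
  by_cases hgK : g ∈ K
  · exact ⟨1, by simpa using hgK⟩
  · obtain ⟨c, hc⟩ := isConj_iff.1 (h.hconj g t (h.of_notMem hg hgK).1 h.ht)
    exact ⟨c, by rw [hc]; exact h.htK⟩

lemma ins_of_involution (h : Hyp t K s) {g : G} (hg : orderOf g = 2) : Ins K g := by
  obtain ⟨c, hc⟩ := isConj_iff.1 (h.hconj g t hg h.ht)
  exact ⟨ne_one hg, c, by rw [hc]; exact h.htK⟩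

lemma ins_of_comm (h : Hyp t K s) {g y : G} (hy : Ins K y) (hgy : g * y = y * g) (hg1 : g ≠ 1) :
    Ins K g := by
  obtain ⟨hy1, x, hx⟩ := hy
  have h1 : x * g * x⁻¹ ∈ Subgroup.centralizer ({t} : Set G) :=
    h.cent_le hx (by rwa [ne_eq, conj_eq_one_iff]) (by
      rw [show x * g * x⁻¹ * (x * y * x⁻¹) = x * (g * y) * x⁻¹ by group, hgy]; group)
  obtain ⟨-, z, hz⟩ := h.ins_of_mem h1 (by rwa [ne_eq, conj_eq_one_iff])
  exact ⟨hg1, z * x, by rw [show z * x * g * (z * x)⁻¹ = z * (x * g * x⁻¹) * z⁻¹ by group]; exact hz⟩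

end Hyp

lemma ins_conj {K : Subgroup G} {g : G} (c : G) (h : Ins K g) : Ins K (c * g * c⁻¹) := by
  obtain ⟨h1, x, hx⟩ := h
  exact ⟨by rwa [ne_eq, conj_eq_one_iff], x * c⁻¹, by
    rwa [show x * c⁻¹ * (c * g * c⁻¹) * (x * c⁻¹)⁻¹ = x * g * x⁻¹ by group]⟩

lemma out_conj {K : Subgroup G} {g : G} (c : G) (h : Out K g) : Out K (c * g * c⁻¹) :=
  ⟨by rw [ne_eq, conj_eq_one_iff]; exact h.1, fun hi => h.2 (by simpa [mul_assoc] using ins_conj c⁻¹ hi)⟩

lemma out_inv {K : Subgroup G} {g : G} (h : Out K g) : Out K g⁻¹ :=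
  ⟨inv_ne_one.2 h.1, fun ⟨_, x, hx⟩ => h.2 ⟨h.1, x, by
    have := inv_mem hx
    rwa [show (x * g⁻¹ * x⁻¹)⁻¹ = x * g * x⁻¹ by group] at this⟩⟩

section TI

variable [Finite G]

/-- Counting the conjugates of the non-identity elements of a trivial intersection subgroup. -/
lemma card_conj_TI (A N : Subgroup G) (hTI : ∀ x y : G, y ∈ A → y ≠ 1 → x * y * x⁻¹ ∈ A → x ∈ N)
    (hnorm : ∀ n ∈ N, ∀ a ∈ A, n * a * n⁻¹ ∈ A) :
    Nat.card {g : G // g ≠ 1 ∧ ∃ x : G, x * g * x⁻¹ ∈ A} * Nat.card N =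
      Nat.card G * (Nat.card A - 1) := by
  classical
  cases nonempty_fintype G
  have hA : Nat.card {y : A // y ≠ 1} = Nat.card A - 1 := by
    rw [Nat.card_eq_fintype_card, Nat.card_eq_fintype_card, Fintype.card_subtype_compl,
      Fintype.card_subtype_eq]
  rw [← hA, ← Nat.card_prod, ← Nat.card_prod]
  let pick : {g : G // g ≠ 1 ∧ ∃ x : G, x * g * x⁻¹ ∈ A} → G := fun g => g.2.2.choose
  have hpick : ∀ g, pick g * g.1 * (pick g)⁻¹ ∈ A := fun g => g.2.2.choose_spec
  refine Nat.card_eq_of_bijective (fun p => ((p.2 : G) * pick p.1,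
    ⟨⟨(p.2 : G) * (pick p.1 * p.1.1 * (pick p.1)⁻¹) * (p.2 : G)⁻¹, hnorm _ p.2.2 _ (hpick p.1)⟩,
      fun e => p.1.2.1 (by simpa [conj_eq_one_iff] using congrArg Subtype.val e)⟩)) ⟨?_, ?_⟩
  · rintro ⟨g, n⟩ ⟨g', n'⟩ e
    obtain ⟨e1, e2⟩ := Prod.ext_iff.1 e
    simp only at e1 e2
    have e3 : (n : G) * (pick g * g.1 * (pick g)⁻¹) * (n : G)⁻¹ =
        (n' : G) * (pick g' * g'.1 * (pick g')⁻¹) * (n' : G)⁻¹ :=
      congrArg (fun z : {y : A // y ≠ 1} => ((z : A) : G)) e2
    have e4 : g.1 = g'.1 := by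
      calc g.1 = ((n : G) * pick g)⁻¹ * ((n : G) * (pick g * g.1 * (pick g)⁻¹) * (n : G)⁻¹) *
            ((n : G) * pick g) := by group
        _ = ((n' : G) * pick g')⁻¹ * ((n' : G) * (pick g' * g'.1 * (pick g')⁻¹) * (n' : G)⁻¹) *
            ((n' : G) * pick g') := by rw [e1, e3]
        _ = g'.1 := by group
    obtain rfl : g = g' := Subtype.ext e4
    exact Prod.ext rfl (Subtype.ext (mul_right_cancel e1))
  · rintro ⟨x, y, hy⟩
    have hyG : (y : G) ≠ 1 := fun e => hy (Subtype.ext e)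
    set g : {g : G // g ≠ 1 ∧ ∃ x : G, x * g * x⁻¹ ∈ A} :=
      ⟨x⁻¹ * y * x, fun e => hyG (by
        calc (y : G) = x * (x⁻¹ * y * x) * x⁻¹ := by group
          _ = 1 := by rw [e, mul_one, mul_inv_cancel]), x, by simpa [mul_assoc] using y.2⟩ with hg
    have hn : x * (pick g)⁻¹ ∈ N := by
      refine hTI _ (pick g * g.1 * (pick g)⁻¹) (hpick g) (by rw [ne_eq, conj_eq_one_iff]; exact g.2.1) ?_
      rw [show x * (pick g)⁻¹ * (pick g * g.1 * (pick g)⁻¹) * (x * (pick g)⁻¹)⁻¹ = x * g.1 * x⁻¹ by group]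
      simpa [hg, mul_assoc] using y.2
    refine ⟨(g, ⟨_, hn⟩), Prod.ext (by simp) (Subtype.ext (Subtype.ext ?_))⟩
    show x * (pick g)⁻¹ * (pick g * g.1 * (pick g)⁻¹) * (x * (pick g)⁻¹)⁻¹ = (y : G)
    simp [hg, mul_assoc]

/-- A subgroup acting without fixed points by conjugation has order dividing `|A| - 1`. -/
lemma card_dvd_of_fpf (D A : Subgroup G) (hnorm : ∀ d ∈ D, ∀ a ∈ A, d * a * d⁻¹ ∈ A)
    (hfree : ∀ d ∈ D, d ≠ 1 → ∀ a ∈ A, a ≠ 1 → d * a ≠ a * d) :
    Nat.card D ∣ Nat.card A - 1 := by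
  classical
  cases nonempty_fintype G
  letI : MulAction D {y : A // y ≠ 1} :=
    { smul := fun d y => ⟨⟨(d : G) * (y.1 : G) * (d : G)⁻¹, hnorm _ d.2 _ y.1.2⟩, fun e =>
        y.2 (Subtype.ext (by simpa [conj_eq_one_iff] using congrArg Subtype.val e))⟩
      one_smul := fun y => Subtype.ext (Subtype.ext (show (1 : G) * (y.1 : G) * (1 : G)⁻¹ = y.1 by group))
      mul_smul := fun d e y => Subtype.ext (Subtype.ext (show
        ((d * e : D) : G) * (y.1 : G) * ((d * e : D) : G)⁻¹ = d * (e * y.1 * (e : G)⁻¹) * (d : G)⁻¹ by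
          push_cast; group)) }
  have hst : ∀ y : {y : A // y ≠ 1}, MulAction.stabilizer D y = ⊥ := by
    intro y
    rw [eq_bot_iff]
    intro d hd
    rw [Subgroup.mem_bot]
    by_contra hd1
    have h1 : (d : G) * (y.1 : G) * (d : G)⁻¹ = y.1 :=
      congrArg (fun z : {y : A // y ≠ 1} => ((z : A) : G)) hd
    exact hfree _ d.2 (fun e => hd1 (Subtype.ext e)) _ y.1.2 (fun e => y.2 (Subtype.ext e))
      (mul_inv_eq_iff_eq_mul.1 h1)
  have h2 := Nat.card_congr (MulAction.selfEquivOrbitsQuotientProd hst)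
  have hA : Nat.card {y : A // y ≠ 1} = Nat.card A - 1 := by
    rw [Nat.card_eq_fintype_card, Nat.card_eq_fintype_card, Fintype.card_subtype_compl,
      Fintype.card_subtype_eq]
  rw [hA, Nat.card_prod] at h2
  exact ⟨_, h2.trans (mul_comm _ _)⟩

/-- An involution normalizing `A` and commuting with none of its non-identity elements inverts `A`. -/
lemma inverts_of_fpf {A : Subgroup G} {u : G} (hu : orderOf u = 2)
    (hnorm : ∀ a ∈ A, u * a * u⁻¹ ∈ A) (hfree : ∀ a ∈ A, u * a = a * u → a = 1) :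
    (∀ a ∈ A, u * a * u⁻¹ = a⁻¹) ∧ Odd (Nat.card A) := by
  let φ : A →* A :=
    { toFun := fun a => ⟨u * a * u⁻¹, hnorm _ a.2⟩
      map_one' := Subtype.ext (show u * 1 * u⁻¹ = 1 by group)
      map_mul' := fun a b => Subtype.ext (show u * ((a : G) * b) * u⁻¹ = u * a * u⁻¹ * (u * b * u⁻¹) by group) }
  have hfp : MonoidHom.FixedPointFree φ := fun a ha => Subtype.ext
    (hfree _ a.2 (mul_inv_eq_iff_eq_mul.1 (congrArg Subtype.val ha)))
  have h2 : Function.Involutive φ := fun a => Subtype.ext (show u * (u * a * u⁻¹) * u⁻¹ = a by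
    rw [inv_eq hu, show u * (u * (a : G) * u) * u = (u * u) * a * (u * u) by group, mul_self hu,
      one_mul, mul_one])
  refine ⟨fun a ha => ?_, ?_⟩
  · exact congrArg Subtype.val (congrFun (MonoidHom.FixedPointFree.coe_eq_inv_of_involutive hfp h2) ⟨a, ha⟩)
  · exact MonoidHom.FixedPointFree.odd_card_of_involutive hfp h2

end TI

namespace Hyp

variable [Finite G] {t s : G} {K : Subgroup G}

lemma card_H (h : Hyp t K s) :
    Nat.card (Subgroup.centralizer ({t} : Set G)) = 2 * Nat.card K := by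
  set H := Subgroup.centralizer ({t} : Set G)
  have hidx : (K.subgroupOf H).index = 2 := by
    rw [Subgroup.index_eq_two_iff]
    refine ⟨⟨s, h.hsH⟩, fun b => ?_⟩
    simp only [Subgroup.mem_subgroupOf, Subgroup.coe_mul]
    rcases h.mem_H_cases b.2 with hb | hb
    · exact Or.inr ⟨hb, fun hbs => h.hsK (by simpa using mul_mem (inv_mem hb) hbs)⟩
    · exact Or.inl ⟨hb, fun hb' => h.hsK (by simpa using mul_mem (inv_mem hb') hb)⟩
  rw [← Subgroup.card_mul_index (K.subgroupOf H), hidx,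
    Nat.card_congr (Subgroup.subgroupOfEquivOfLe h.hKH).toEquiv, mul_comm]

lemma even_card (h : Hyp t K s) : Even (Nat.card K) := by
  rw [even_iff_two_dvd, ← h.ht, ← Subgroup.orderOf_mk t h.htK]
  exact orderOf_dvd_natCard _

lemma card_eq_inv (h : Hyp t K s) :
    Nat.card {x : G // orderOf x = 2} * (2 * Nat.card K) = Nat.card G := by
  rw [← h.card_H, ← CfsgLib.Char.card_conjugates_mul t]
  congr 1
  exact Nat.card_congr (Equiv.subtypeEquivRight fun x =>
    ⟨fun hx => h.hconj x t hx h.ht, fun hc => by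
      obtain ⟨c, hc⟩ := isConj_iff.1 hc
      rw [← orderOf_conj c, hc, h.ht]⟩)

lemma odd_inv (h : Hyp t K s) : Odd (Nat.card {x : G // orderOf x = 2}) := by
  refine odd_card_involutions ?_
  rw [even_iff_two_dvd, ← h.ht]
  exact orderOf_dvd_natCard _

lemma card_ins (h : Hyp t K s) :
    Nat.card {g : G // Ins K g} = Nat.card {x : G // orderOf x = 2} * (Nat.card K - 1) := by
  have h1 := card_conj_TI K (Subgroup.centralizer ({t} : Set G)) (fun x y hy hy1 hxy => h.ti hy hy1 hxy)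
    (fun n hn a ha => by
      by_cases hnK : n ∈ K
      · exact mul_mem (mul_mem hnK ha) (inv_mem hnK)
      · rw [(h.of_notMem hn hnK).2 a ha]; exact inv_mem ha)
  rw [h.card_H, ← h.card_eq_inv, mul_right_comm] at h1
  exact Nat.eq_of_mul_eq_mul_right (Nat.mul_pos two_pos Nat.card_pos) h1

lemma beta_one (_h : Hyp t K s) : beta (1 : G) = Nat.card {x : G // orderOf x = 2} := by
  refine Nat.card_congr ⟨fun p => ⟨p.1.1, p.2.1⟩, fun x => ⟨(x.1, x.1), x.2, x.2, mul_self x.2⟩,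
    fun p => Subtype.ext (Prod.ext rfl ?_), fun x => rfl⟩
  rw [pair_snd p.2, mul_one]

lemma beta_K (h : Hyp t K s) {y : G} (hy : y ∈ K) (hy1 : y ≠ 1) : beta y = Nat.card K := by
  rw [beta, card_pairs]
  refine Nat.card_eq_of_bijective
    (fun u => (⟨u.1 * s, ?_⟩ : K)) ⟨fun u v e => Subtype.ext (mul_right_cancel (congrArg Subtype.val e)), ?_⟩
  · obtain ⟨⟨hu, hinv⟩, hne⟩ := u.2
    have huH := h.ti hy hy1 (show u.1 * y * u.1⁻¹ ∈ K by rw [hinv]; exact inv_mem hy)
    refine (h.mem_H_cases huH).resolve_left fun huK => hne ?_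
    have hut := (h.eq_one_or_t huK (mul_self hu)).resolve_left (ne_one hu)
    rw [hut] at hinv ⊢
    have hyt : y = y⁻¹ := by rwa [h.comm h.htK hy, mul_inv_cancel_right] at hinv
    rw [(h.eq_one_or_t hy (mul_eq_one_iff_eq_inv.2 hyt)).resolve_left hy1, mul_self h.ht]
  · intro c
    have hcs : (c : G) * s ∈ Subgroup.centralizer ({t} : Set G) := mul_mem (h.hKH c.2) h.hsH
    have hcsK : (c : G) * s ∉ K := fun hh => h.hsK (by simpa using mul_mem (inv_mem c.2) hh)
    obtain ⟨h2, h3⟩ := h.of_notMem hcs hcsK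
    refine ⟨⟨c * s, ⟨h2, h3 y hy⟩, fun e => hcsK ?_⟩, Subtype.ext ?_⟩
    · rw [mul_eq_one_iff_eq_inv.1 e]; exact inv_mem hy
    · show (c : G) * s * s = c
      rw [mul_assoc, mul_self h.hs, mul_one]

end Hyp

lemma beta_conj [Finite G] (g c : G) : beta (c * g * c⁻¹) = beta g := by
  refine Nat.card_congr
    ⟨fun p => ⟨(c⁻¹ * p.1.1 * c, c⁻¹ * p.1.2 * c), ?_⟩,
     fun p => ⟨(c * p.1.1 * c⁻¹, c * p.1.2 * c⁻¹), ?_⟩,
     fun p => Subtype.ext (Prod.ext (by simp [mul_assoc]) (by simp [mul_assoc])),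
     fun p => Subtype.ext (Prod.ext (by simp [mul_assoc]) (by simp [mul_assoc]))⟩
  · obtain ⟨h1, h2, h3⟩ := p.2
    refine ⟨?_, ?_, ?_⟩
    · simpa [h1] using orderOf_conj c⁻¹ p.1.1
    · simpa [h2] using orderOf_conj c⁻¹ p.1.2
    · rw [show c⁻¹ * p.1.1 * c * (c⁻¹ * p.1.2 * c) = c⁻¹ * (p.1.1 * p.1.2) * c by group, h3]; group
  · obtain ⟨h1, h2, h3⟩ := p.2
    exact ⟨by rw [orderOf_conj, h1], by rw [orderOf_conj, h2], by
      rw [show c * p.1.1 * c⁻¹ * (c * p.1.2 * c⁻¹) = c * (p.1.1 * p.1.2) * c⁻¹ by group, h3]⟩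

lemma beta_le [Finite G] (g : G) : beta g ≤ Nat.card (Subgroup.centralizer ({g} : Set G)) :=
  card_pairs_le g

lemma exists_inverting [Finite G] {g : G} (hg : beta g ≠ 0) :
    ∃ u : G, orderOf u = 2 ∧ u * g * u⁻¹ = g⁻¹ := by
  obtain ⟨p⟩ := (Nat.card_ne_zero.1 hg).1
  exact ⟨p.1.1, p.2.1, pair_inverts p.2⟩

lemma sum_beta [Fintype G] : ∑ g : G, beta g = Nat.card {x : G // orderOf x = 2} ^ 2 := by
  classical
  have e : {p : G × G // orderOf p.1 = 2 ∧ orderOf p.2 = 2} ≃
      Σ g : G, {p : G × G // orderOf p.1 = 2 ∧ orderOf p.2 = 2 ∧ p.1 * p.2 = g} :=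
    { toFun := fun p => ⟨p.1.1 * p.1.2, p.1, p.2.1, p.2.2, rfl⟩
      invFun := fun q => ⟨q.2.1, q.2.2.1, q.2.2.2.1⟩
      left_inv := fun p => rfl
      right_inv := by rintro ⟨g, p, h1, h2, rfl⟩; rfl }
  have h1 := Nat.card_congr e
  rw [Nat.card_sigma] at h1
  have h2 : Nat.card {p : G × G // orderOf p.1 = 2 ∧ orderOf p.2 = 2} =
      Nat.card {x : G // orderOf x = 2} ^ 2 := by
    rw [sq, ← Nat.card_prod]
    exact Nat.card_congr (Equiv.subtypeProdEquivProd (p := fun x : G => orderOf x = 2) (q := fun x : G => orderOf x = 2))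
  rw [← h2, h1]
  rfl

open scoped Classical in
/-- Splitting a sum over the group. -/
lemma sum_split [Fintype G] (K : Subgroup G) {M : Type*} [AddCommMonoid M] (F : G → M) :
    ∑ g : G, F g = F 1 + (∑ g ∈ Finset.univ.filter (Ins K), F g) +
      ∑ g ∈ Finset.univ.filter (Out K), F g := by
  rw [← Finset.sum_filter_add_sum_filter_not Finset.univ (Ins K) F, add_comm (F 1), add_assoc]
  congr 1
  have h1 : (1 : G) ∈ Finset.univ.filter fun g => ¬ Ins K g := by simp [Ins]
  rw [← Finset.add_sum_erase _ F h1]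
  congr 1
  refine Finset.sum_congr ?_ fun _ _ => rfl
  ext g
  simp [Out]

open scoped Classical in
lemma card_split [Fintype G] (K : Subgroup G) :
    Nat.card G = 1 + Nat.card {g : G // Ins K g} + Nat.card {g : G // Out K g} := by
  have h := sum_split K (fun _ => 1)
  simp only [Finset.sum_const, smul_eq_mul, mul_one, Finset.card_univ] at h
  rw [Nat.card_eq_fintype_card, h, Nat.card_eq_fintype_card, Nat.card_eq_fintype_card,
    Fintype.card_subtype, Fintype.card_subtype]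

open scoped Classical in
/-- The pair count: `n² = n + n(k-1)k + ∑_{Out} β`. -/
lemma Hyp.pair_equation [Fintype G] {t s : G} {K : Subgroup G} (h : Hyp t K s) :
    Nat.card {x : G // orderOf x = 2} ^ 2 = Nat.card {x : G // orderOf x = 2} +
      Nat.card {x : G // orderOf x = 2} * (Nat.card K - 1) * Nat.card K +
      ∑ g ∈ Finset.univ.filter (Out K), beta g := by
  rw [← sum_beta, sum_split K, h.beta_one]
  congr 2
  have h1 : ∀ g ∈ Finset.univ.filter (Ins K), beta g = Nat.card K := by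
    intro g hg
    obtain ⟨hg1, x, hx⟩ := (Finset.mem_filter.1 hg).2
    rw [← beta_conj g x]
    exact h.beta_K hx (by rwa [ne_eq, conj_eq_one_iff])
  rw [Finset.sum_congr rfl h1, Finset.sum_const, smul_eq_mul, ← h.card_ins]
  rw [Nat.card_eq_fintype_card (α := {g : G // Ins K g}), Fintype.card_subtype]

section Real

variable [Finite G] {t s : G} {K : Subgroup G}

/-- Elements outside the conjugates of `K` inverted by an involution have odd abelian
self-centralizing centralizers. -/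
lemma Hyp.out_inverted (h : Hyp t K s) {g u : G} (hg : Out K g) (hu : orderOf u = 2)
    (hug : u * g * u⁻¹ = g⁻¹) :
    Odd (Nat.card (Subgroup.centralizer ({g} : Set G))) ∧
      (∀ y ∈ Subgroup.centralizer ({g} : Set G), u * y * u⁻¹ = y⁻¹) ∧
      (∀ y ∈ Subgroup.centralizer ({g} : Set G), y ≠ 1 →
        Out K y ∧ Subgroup.centralizer ({y} : Set G) = Subgroup.centralizer ({g} : Set G)) ∧
      (∀ a ∈ Subgroup.centralizer ({g} : Set G), ∀ b ∈ Subgroup.centralizer ({g} : Set G), a * b = b * a) ∧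
      beta g = Nat.card (Subgroup.centralizer ({g} : Set G)) := by
  have hout : ∀ g : G, Out K g → ∀ y ∈ Subgroup.centralizer ({g} : Set G), y ≠ 1 → Out K y :=
    fun g hg y hy hy1 => ⟨hy1, fun hi => hg.2 (h.ins_of_comm hi
      (Subgroup.mem_centralizer_singleton_iff.1 hy).symm hg.1)⟩
  have key : ∀ g : G, Out K g → u * g * u⁻¹ = g⁻¹ →
      (∀ y ∈ Subgroup.centralizer ({g} : Set G), u * y * u⁻¹ = y⁻¹) ∧
      Odd (Nat.card (Subgroup.centralizer ({g} : Set G))) ∧
      (∀ a ∈ Subgroup.centralizer ({g} : Set G), ∀ b ∈ Subgroup.centralizer ({g} : Set G), a * b = b * a) := by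
    intro g hg hug
    have hn : ∀ a ∈ Subgroup.centralizer ({g} : Set G), u * a * u⁻¹ ∈ Subgroup.centralizer ({g} : Set G) := by
      intro a ha
      rw [Subgroup.mem_centralizer_singleton_iff] at ha ⊢
      have hug' : g = u * g⁻¹ * u⁻¹ := by
        have h5 := congrArg Inv.inv hug
        rw [inv_inv] at h5
        exact h5.symm.trans (by group)
      have hai : a * g⁻¹ = g⁻¹ * a := (Commute.inv_right ha).eq
      rw [hug', show u * a * u⁻¹ * (u * g⁻¹ * u⁻¹) = u * (a * g⁻¹) * u⁻¹ by group, hai]; group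
    obtain ⟨h1, h2⟩ := inverts_of_fpf hu hn (fun a ha hua => by
      by_contra ha1
      exact (hout g hg a ha ha1).2 (h.ins_of_comm (h.ins_of_involution hu) hua.symm ha1))
    refine ⟨h1, h2, fun a ha b hb => ?_⟩
    have h3 := h1 (a * b) (mul_mem ha hb)
    rw [show u * (a * b) * u⁻¹ = u * a * u⁻¹ * (u * b * u⁻¹) by group, h1 a ha, h1 b hb,
      ← mul_inv_rev, inv_inj] at h3
    exact h3.symm
  obtain ⟨hinv, hodd, hcomm⟩ := key g hg hug
  refine ⟨hodd, hinv, fun y hy hy1 => ⟨hout g hg y hy hy1, le_antisymm ?_ ?_⟩, hcomm, ?_⟩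
  · obtain ⟨-, -, hc⟩ := key y (hout g hg y hy hy1) (hinv y hy)
    intro a ha
    exact Subgroup.mem_centralizer_singleton_iff.2 (hc a ha g
      (Subgroup.mem_centralizer_singleton_iff.2 (Subgroup.mem_centralizer_singleton_iff.1 hy).symm))
  · intro a ha
    exact Subgroup.mem_centralizer_singleton_iff.2 (hcomm a ha y hy)
  · rw [beta, card_pairs]
    refine Nat.card_eq_of_bijective (fun v => (⟨u * v.1, ?_⟩ : Subgroup.centralizer ({g} : Set G)))
      ⟨fun v w e => Subtype.ext (mul_left_cancel (congrArg Subtype.val e)), fun c => ?_⟩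
    · obtain ⟨⟨-, hv⟩, -⟩ := v.2
      rw [Subgroup.mem_centralizer_singleton_iff]
      have h1 : u * g⁻¹ * u⁻¹ = g := by
        rw [show u * g⁻¹ * u⁻¹ = (u * g * u⁻¹)⁻¹ by group, hug, inv_inv]
      calc u * v.1 * g = u * (v.1 * g * v.1⁻¹) * v.1 := by group
        _ = u * g⁻¹ * u⁻¹ * (u * v.1) := by rw [hv]; group
        _ = g * (u * v.1) := by rw [h1]
    · have hcu : (u * (c : G)) * (u * c) = 1 := by
        rw [show u * (c : G) * (u * c) = u * c * u⁻¹ * (u * u) * c by group, mul_self hu, mul_one,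
          hinv _ c.2, inv_mul_cancel]
      have huc1 : u * (c : G) ≠ 1 := by
        intro e
        rw [mul_eq_one_iff_eq_inv] at e
        have h1 : u ∈ Subgroup.centralizer ({g} : Set G) := e ▸ inv_mem c.2
        exact (hout g hg u h1 (ne_one hu)).2 (h.ins_of_involution hu)
      refine ⟨⟨u * c, ⟨orderOf_eq_two hcu huc1, ?_⟩, ?_⟩, Subtype.ext ?_⟩
      · have hcg := Subgroup.mem_centralizer_singleton_iff.1 c.2
        rw [show u * (c : G) * g * (u * c)⁻¹ = u * (c * g * (c : G)⁻¹) * u⁻¹ by group, hcg,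
          mul_inv_cancel_right, hug]
      · intro e
        have h1 : u * (c : G) ∈ Subgroup.centralizer ({g} : Set G) := by
          rw [mul_eq_one_iff_eq_inv.1 e]
          exact inv_mem (Subgroup.mem_centralizer_singleton_iff.2 rfl)
        exact (hout g hg _ h1 huc1).2 (h.ins_of_involution (orderOf_eq_two hcu huc1))
      · show u * (u * (c : G)) = c
        rw [← mul_assoc, mul_self hu, one_mul]

end Real

end CfsgLib.Characterizations.BSW
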