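import Cfsg.Agent.Lib.Characterizations.BSWBasic
import Cfsg.Agent.Lib.Char.Induced
import Cfsg.Agent.Lib.Char.Linear
import Cfsg.Agent.Lib.Char.Virtual
import Cfsg.Agent.Lib.Char.DihedralCentralizer
import Cfsg.Agent.Lib.SmallGroups.SelfInverse

/-!
# The Brauer–Suzuki–Wall configuration: characters induced from `K`
-/

set_option autoImplicit false

open scoped Classical ComplexConjugate

namespace CfsgLib.Characterizations.BSW

open CfsgLib.Char CfsgLib.Involution.Count CfsgLib.Involution.Dihedral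

variable {G : Type*} [Group G] [Fintype G] {t s : G} {K : Subgroup G}

/-- The function `(1 - λ)^G` of a linear character `λ` of `K`. -/
noncomputable def fl (lam : ↥K →* ℂˣ) : G → ℂ := Cfsg.indFun K fun y => 1 - (lam y : ℂ)

omit [Fintype G] in
/-- A finite group has finitely many linear characters. -/
lemma finite_hom [Finite G] : Finite (↥K →* ℂˣ) := by
  cases nonempty_fintype G
  exact Finite.of_equiv _ (homEquivLinear (G := ↥K)).symm

lemma classInner_hom (lam mu : ↥K →* ℂˣ) :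
    Cfsg.classInner (fun y => (lam y : ℂ)) (fun y => (mu y : ℂ)) = if lam = mu then 1 else 0 := by
  rw [classInner_irr (isIrrCharacter_hom lam) (isIrrCharacter_hom mu)]
  by_cases h : lam = mu
  · rw [if_pos (by rw [h]), if_pos h]
  · rw [if_neg (fun e => h (coe_hom_injective e)), if_neg h]

lemma hom_inv_apply (lam : ↥K →* ℂˣ) (y : K) : ((lam⁻¹ y : ℂˣ) : ℂ) = (lam y⁻¹ : ℂ) := by
  rw [MonoidHom.inv_apply, map_inv]

omit [Fintype G] in
lemma hom_eq_one_of_inv {l : ↥K →* ℂˣ} (h : l⁻¹ = 1) : l = 1 :=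
  MonoidHom.ext fun y => by
    have h1 := congrArg (fun m : ↥K →* ℂˣ => m y) h
    simpa using h1

omit [Fintype G] in
lemma hom_inv_inv (l : ↥K →* ℂˣ) : l⁻¹⁻¹ = l :=
  MonoidHom.ext fun y => by simp

lemma conj_hom (lam : ↥K →* ℂˣ) (y : K) : conj (lam y : ℂ) = ((lam⁻¹ y : ℂˣ) : ℂ) := by
  rw [← IsIrrCharacter.apply_inv (isIrrCharacter_hom lam) y, hom_inv_apply]

lemma lam_t (h : Hyp t K s) (lam : ↥K →* ℂˣ) :
    (lam ⟨t, h.htK⟩ : ℂ) = 1 ∨ (lam ⟨t, h.htK⟩ : ℂ) = -1 := by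
  refine mul_self_eq_one_iff.1 ?_
  rw [← Units.val_mul, ← map_mul, show (⟨t, h.htK⟩ : K) * ⟨t, h.htK⟩ = 1 from Subtype.ext (mul_self h.ht),
    map_one, Units.val_one]

lemma fl_one (lam : ↥K →* ℂˣ) : fl lam (1 : G) = 0 := by
  rw [fl, indFun_one, map_one, Units.val_one, sub_self, mul_zero]

lemma fl_out (lam : ↥K →* ℂˣ) {g : G} (hg : Out K g) : fl lam g = 0 := by
  refine indFun_eq_zero_of_forall _ _ fun x hx => hg.2 ⟨hg.1, x⁻¹, ?_⟩
  rwa [inv_inv]

lemma fl_mem (h : Hyp t K s) (lam : ↥K →* ℂˣ) (y : K) :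
    fl lam (y : G) = 2 - (lam y : ℂ) - (lam y⁻¹ : ℂ) := by
  by_cases hy1 : (y : G) = 1
  · rw [hy1, fl_one, show y = 1 from Subtype.ext hy1, inv_one, map_one, Units.val_one]
    norm_num
  set H := Subgroup.centralizer ({t} : Set G) with hHdef
  have hterm : ∀ x : G, Cfsg.extendByZero K (fun y => 1 - (lam y : ℂ)) (x⁻¹ * y * x) =
      (if x ∈ K then 1 - (lam y : ℂ) else 0) + if x ∈ H ∧ x ∉ K then 1 - (lam y⁻¹ : ℂ) else 0 := by
    intro x
    by_cases hxK : x ∈ K
    · rw [if_pos hxK, if_neg (fun e => e.2 hxK), add_zero,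
        show x⁻¹ * (y : G) * x = y by rw [mul_assoc, h.comm y.2 hxK, inv_mul_cancel_left]]
      exact extendByZero_coe K _ y
    by_cases hxH : x ∈ H
    · rw [if_neg hxK, if_pos ⟨hxH, hxK⟩, zero_add]
      have h1 := (h.of_notMem (inv_mem hxH) (fun e => hxK (by simpa using inv_mem e))).2 y y.2
      rw [inv_inv] at h1
      rw [h1]
      exact extendByZero_coe K _ y⁻¹
    · rw [if_neg hxK, if_neg (fun e => hxH e.1), add_zero]
      refine extendByZero_apply_notMem K _ fun hm => hxH ?_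
      have := h.ti y.2 hy1 (x := x⁻¹) (by rwa [inv_inv])
      simpa using inv_mem this
  have hK : (Finset.univ.filter fun x : G => x ∈ K).card = Nat.card K := by
    rw [Nat.card_eq_fintype_card]; exact (Fintype.card_subtype _).symm
  have hKs : (Finset.univ.filter fun x : G => x ∈ H ∧ x ∉ K).card = Nat.card K := by
    have h1 : (Finset.univ.filter fun x : G => x ∈ H).card = 2 * Nat.card K := by
      rw [← h.card_H, Nat.card_eq_fintype_card]; exact (Fintype.card_subtype _).symm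
    have h2 := Finset.card_filter_add_card_filter_not
      (s := Finset.univ.filter fun x : G => x ∈ H) (fun x => x ∈ K)
    rw [Finset.filter_filter, Finset.filter_filter, h1,
      show (Finset.univ.filter fun x : G => x ∈ H ∧ x ∈ K) = Finset.univ.filter fun x : G => x ∈ K from
        Finset.filter_congr fun x _ => ⟨And.right, fun e => ⟨h.hKH e, e⟩⟩, hK] at h2
    omega
  rw [fl, indFun_def, Finset.sum_congr rfl fun x _ => hterm x, Finset.sum_add_distrib,
    ← Finset.sum_filter, ← Finset.sum_filter, Finset.sum_const, Finset.sum_const, hK, hKs,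
    nsmul_eq_mul, nsmul_eq_mul, ← mul_add,
    inv_mul_cancel_left₀ (Nat.cast_ne_zero.2 Nat.card_pos.ne')]
  ring

lemma fl_t (h : Hyp t K s) (lam : ↥K →* ℂˣ) : fl lam t = 2 - 2 * (lam ⟨t, h.htK⟩ : ℂ) := by
  have h1 := fl_mem h lam ⟨t, h.htK⟩
  rw [show (⟨t, h.htK⟩ : K)⁻¹ = ⟨t, h.htK⟩ from Subtype.ext (inv_eq h.ht)] at h1
  linear_combination h1

lemma fl_gen (lam : ↥K →* ℂˣ) : Cfsg.IsGeneralizedCharacter G (fl lam) :=
  IsGeneralizedCharacter.indFun K (IsGeneralizedCharacter.sub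
    (IsCharacter.isGeneralizedCharacter isCharacter_one)
    (IsCharacter.isGeneralizedCharacter (isCharacter_hom lam)))

lemma fl_inner_class (lam : ↥K →* ℂˣ) {χ : G → ℂ} (hχ : Cfsg.IsClassFunction G χ) :
    Cfsg.classInner (fl lam) χ =
      Cfsg.classInner (fun _ : K => (1 : ℂ)) (fun y : K => χ y) -
        Cfsg.classInner (fun y : K => (lam y : ℂ)) (fun y : K => χ y) := by
  rw [fl, classInner_indFun K _ hχ, ← classInner_sub_left]
  rfl

lemma fl_inner_one (lam : ↥K →* ℂˣ) (hl : lam ≠ 1) :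
    Cfsg.classInner (fl lam) (fun _ : G => 1) = 1 := by
  rw [fl_inner_class lam (fun _ _ => rfl)]
  have h1 := classInner_hom (K := K) 1 1
  have h2 := classInner_hom (K := K) lam 1
  rw [if_pos rfl] at h1
  rw [if_neg hl] at h2
  simp only [MonoidHom.one_apply, Units.val_one] at h1 h2
  rw [h1, h2, sub_zero]

lemma fl_inner (h : Hyp t K s) (lam mu : ↥K →* ℂˣ) (hl : lam ≠ 1) (hm : mu ≠ 1) :
    Cfsg.classInner (fl lam) (fl mu) =
      2 + (if lam = mu then 1 else 0) + (if lam = mu⁻¹ then 1 else 0) := by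
  rw [fl_inner_class lam (IsGeneralizedCharacter.isClassFunction (fl_gen mu))]
  have hv : (fun y : K => fl mu (y : G)) =
      (fun _ : K => (2 : ℂ)) - (fun y => (mu y : ℂ)) - fun y => ((mu⁻¹ y : ℂˣ) : ℂ) := by
    ext y
    rw [fl_mem h, Pi.sub_apply, Pi.sub_apply, hom_inv_apply]
  rw [hv, show (fun _ : K => (2 : ℂ)) = (2 : ℂ) • (fun y : K => ((1 : ↥K →* ℂˣ) y : ℂ)) from by
    ext y; simp]
  simp only [classInner_sub_right, classInner_smul_right]
  rw [show (fun _ : K => (1 : ℂ)) = fun y : K => ((1 : ↥K →* ℂˣ) y : ℂ) from by ext y; simp]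
  simp only [classInner_hom, if_neg hl, if_neg (Ne.symm hm),
    if_neg (fun e : (1 : ↥K →* ℂˣ) = mu⁻¹ => hm (hom_eq_one_of_inv e.symm))]
  norm_num [map_ofNat]
  ring

/-- A generalized character of norm two taking the value `-1` at the identity. -/
lemma exists_sub_neg_one {θ : G → ℂ} (hθ : Cfsg.IsGeneralizedCharacter G θ) (h1 : θ 1 = -1)
    (h2 : Cfsg.classInner θ θ = 2) :
    ∃ (a b : Cfsg.IrrCharacter G) (x : ℕ), (a : G → ℂ) 1 = x ∧ (b : G → ℂ) 1 = x + 1 ∧ 0 < x ∧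
      θ = (a : G → ℂ) - (b : G → ℂ) := by
  obtain ⟨z, -, hexp, hn⟩ := IsGeneralizedCharacter.exists_coeff hθ
  have hsum : ∑ φ : Cfsg.IrrCharacter G, z φ * z φ = 2 := by
    have h3 : ((∑ φ : Cfsg.IrrCharacter G, z φ * z φ : ℤ) : ℂ) = ((2 : ℤ) : ℂ) := by
      rw [← hn, h2]; norm_num
    exact_mod_cast h3
  set S : Finset (Cfsg.IrrCharacter G) := Finset.univ.filter fun φ => z φ ≠ 0 with hS
  have hone : ∀ φ ∈ S, z φ * z φ = 1 := by
    intro φ hφ
    have hle : z φ * z φ ≤ 2 := hsum ▸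
      Finset.single_le_sum (f := fun ψ => z ψ * z ψ) (fun ψ _ => mul_self_nonneg (z ψ))
        (Finset.mem_univ φ)
    have hne : z φ ≠ 0 := (Finset.mem_filter.mp hφ).2
    have hl : z φ ≤ 1 := by nlinarith
    have hg : -1 ≤ z φ := by nlinarith
    interval_cases z φ <;> simp_all
  have hcard : S.card = 2 := by
    have h4 : ∑ φ ∈ S, z φ * z φ = 2 := by
      rw [← hsum]
      exact Finset.sum_filter_of_ne fun φ _ h hz => h (by rw [hz, mul_zero])
    rw [Finset.sum_congr rfl hone, Finset.sum_const, nsmul_eq_mul, mul_one] at h4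
    exact_mod_cast h4
  obtain ⟨φ, ψ, hne, hpair⟩ := Finset.card_eq_two.mp hcard
  have hexp' : θ = (z φ : ℂ) • (φ : G → ℂ) + (z ψ : ℂ) • (ψ : G → ℂ) := by
    rw [hexp, ← Finset.sum_pair (f := fun t : Cfsg.IrrCharacter G => (z t : ℂ) • (t : G → ℂ)) hne,
      ← hpair]
    exact (Finset.sum_filter_of_ne (p := fun φ => z φ ≠ 0)
      fun t _ ht hz => ht (by rw [hz, Int.cast_zero, zero_smul])).symm
  obtain ⟨d, hd, hd'⟩ := IsIrrCharacter.apply_one_eq φ.2
  obtain ⟨e, he, he'⟩ := IsIrrCharacter.apply_one_eq ψ.2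
  have h0 : z φ * (d : ℤ) + z ψ * (e : ℤ) = -1 := by
    have h5 := congrFun hexp' 1
    rw [h1, Pi.add_apply, Pi.smul_apply, Pi.smul_apply, hd', he', smul_eq_mul, smul_eq_mul] at h5
    exact_mod_cast h5.symm
  have hφ' := hone φ (by rw [hpair]; exact Finset.mem_insert_self _ _)
  have hψ' := hone ψ (by rw [hpair]; exact Finset.mem_insert_of_mem (Finset.mem_singleton_self _))
  rcases Int.eq_one_or_neg_one_of_mul_eq_one hφ' with hp | hp <;>
    rcases Int.eq_one_or_neg_one_of_mul_eq_one hψ' with hq | hq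
  · rw [hp, hq] at h0; omega
  · rw [hp, hq] at h0
    refine ⟨φ, ψ, d, hd', ?_, hd, by rw [hexp', hp, hq]; push_cast; simp [sub_eq_add_neg]⟩
    rw [he']; have : e = d + 1 := by omega
    rw [this]; push_cast; rfl
  · rw [hp, hq] at h0
    refine ⟨ψ, φ, e, he', ?_, he, by rw [hexp', hp, hq]; push_cast; simp [sub_eq_add_neg, add_comm]⟩
    rw [hd']; have : d = e + 1 := by omega
    rw [this]; push_cast; rfl
  · rw [hp, hq] at h0; omega

/-- `f_λ = 1 + a - b` for a linear character `λ ≠ λ⁻¹`. -/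
def IsDec (lam : ↥K →* ℂˣ) (a b : Cfsg.IrrCharacter G) (x : ℕ) : Prop :=
  (a : G → ℂ) 1 = x ∧ (b : G → ℂ) 1 = x + 1 ∧ 0 < x ∧
    fl lam = (fun _ => (1 : ℂ)) + ((a : G → ℂ) - (b : G → ℂ))

lemma ne_one_of_nonreal {lam : ↥K →* ℂˣ} (hl : lam ≠ lam⁻¹) : lam ≠ 1 := by
  rintro rfl
  exact hl (MonoidHom.ext fun y => by simp)

lemma exists_dec (h : Hyp t K s) {lam : ↥K →* ℂˣ} (hl : lam ≠ lam⁻¹) :
    ∃ (a b : Cfsg.IrrCharacter G) (x : ℕ), IsDec lam a b x := by
  have h1 := ne_one_of_nonreal hl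
  obtain ⟨a, b, x, ha, hb, hx, he⟩ := exists_sub_neg_one (θ := fl lam - fun _ : G => (1 : ℂ))
    (IsGeneralizedCharacter.sub (fl_gen lam) (IsCharacter.isGeneralizedCharacter isCharacter_one))
    (by rw [Pi.sub_apply, fl_one, zero_sub]) (by
      simp only [classInner_sub_left, classInner_sub_right]
      rw [fl_inner h lam lam h1 h1, fl_inner_one lam h1,
        ← classInner_conj_symm (fl lam) (fun _ : G => (1 : ℂ)), fl_inner_one lam h1,
        classInner_irr_self isIrrCharacter_one, if_pos rfl, if_neg hl]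
      simp)
  exact ⟨a, b, x, ha, hb, hx, by rw [← he]; abel⟩

lemma IsDec.ne_one {lam : ↥K →* ℂˣ} (hl : lam ≠ 1) {a b : Cfsg.IrrCharacter G} {x : ℕ}
    (hd : IsDec lam a b x) :
    (a : G → ℂ) ≠ (fun _ => 1) ∧ (b : G → ℂ) ≠ (fun _ => 1) ∧ (a : G → ℂ) ≠ (b : G → ℂ) := by
  obtain ⟨ha, hb, hx, he⟩ := hd
  have hab : (a : G → ℂ) ≠ (b : G → ℂ) := fun e => by
    rw [e, hb] at ha
    have : x + 1 = x := by exact_mod_cast ha
    omega
  have hz := fl_inner_one (G := G) lam hl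
  rw [he, classInner_add_left, classInner_sub_left, classInner_irr_self isIrrCharacter_one,
    classInner_irr a.2 isIrrCharacter_one, classInner_irr b.2 isIrrCharacter_one] at hz
  refine ⟨fun e => ?_, fun e => ?_, hab⟩
  · rw [if_pos e, if_neg (fun e' => hab (e.trans e'.symm))] at hz; norm_num at hz
  · rw [if_pos e, if_neg (fun e' => hab (e'.trans e.symm))] at hz; norm_num at hz

lemma IsDec.val_t (h : Hyp t K s) {lam : ↥K →* ℂˣ} {a b : Cfsg.IrrCharacter G} {x : ℕ}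
    (hd : IsDec lam a b x) :
    (a : G → ℂ) t - (b : G → ℂ) t = 1 - 2 * (lam ⟨t, h.htK⟩ : ℂ) := by
  have h1 := fl_t h lam
  rw [hd.2.2.2, Pi.add_apply, Pi.sub_apply] at h1
  linear_combination h1

lemma sum_conj_t (h : Hyp t K s) (F : G → ℂ) :
    ∑ x : G, F (x * t * x⁻¹) =
      (2 * Nat.card K : ℂ) * ∑ u ∈ Finset.univ.filter (fun u : G => orderOf u = 2), F u := by
  rw [← Finset.sum_fiberwise_of_maps_to (t := Finset.univ.filter fun u : G => orderOf u = 2)
    (g := fun x : G => x * t * x⁻¹) (fun x _ => by simp [orderOf_conj, h.ht]), Finset.mul_sum]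
  refine Finset.sum_congr rfl fun u hu => ?_
  obtain ⟨c, hc⟩ := isConj_iff.1 (h.hconj t u h.ht (Finset.mem_filter.1 hu).2)
  rw [Finset.sum_congr rfl fun x hx => by rw [(Finset.mem_filter.1 hx).2], Finset.sum_const,
    nsmul_eq_mul]
  congr 1
  have e : {x : G // x * t * x⁻¹ = u} ≃ Subgroup.centralizer ({t} : Set G) :=
    { toFun := fun x => ⟨c⁻¹ * x.1, Subgroup.mem_centralizer_singleton_iff.2 (by
        have h5 : x.1 * t * x.1⁻¹ = c * t * c⁻¹ := x.2.trans hc.symm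
        calc c⁻¹ * x.1 * t = c⁻¹ * (x.1 * t * x.1⁻¹) * x.1 := by group
          _ = t * (c⁻¹ * x.1) := by rw [h5]; group)⟩
      invFun := fun k => ⟨c * k.1, by
        have h5 := Subgroup.mem_centralizer_singleton_iff.1 k.2
        rw [show c * (k : G) * t * (c * (k : G))⁻¹ = c * ((k : G) * t * (k : G)⁻¹) * c⁻¹ by group, h5,
          mul_inv_cancel_right, hc]⟩
      left_inv := fun x => by simp
      right_inv := fun x => by simp }
  have h2 := Nat.card_congr e
  rw [h.card_H, Nat.card_eq_fintype_card, Fintype.card_subtype] at h2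
  rw [h2]; push_cast; ring

/-- Structure constants for two involutions. -/
lemma class_formula (h : Hyp t K s) (g : G) :
    (Nat.card G : ℂ) * ∑ χ : Cfsg.IrrCharacter G,
        (χ : G → ℂ) t * (χ : G → ℂ) t * conj ((χ : G → ℂ) g) / (χ : G → ℂ) 1 =
      (2 * Nat.card K : ℂ) ^ 2 * (beta g : ℂ) := by
  rw [← sum_conj_mul_eq, sum_conj_t h fun u => ∑ k : G, if u * (k * t * k⁻¹) = g then (1 : ℂ) else 0,
    Finset.sum_congr rfl fun u _ => sum_conj_t h fun v => if u * v = g then (1 : ℂ) else 0,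
    ← Finset.mul_sum, ← Finset.sum_product', ← Finset.sum_filter, Finset.sum_const, nsmul_eq_mul,
    mul_one, ← mul_assoc, ← sq]
  congr 2
  rw [beta, Nat.card_eq_fintype_card, Fintype.card_subtype]
  congr 1
  ext p
  simp [and_assoc]

lemma count_fl (h : Hyp t K s) (lam : ↥K →* ℂˣ) (hl : lam ≠ 1) :
    (Nat.card G : ℂ) * ∑ χ : Cfsg.IrrCharacter G,
        (χ : G → ℂ) t ^ 2 * Cfsg.classInner (fl lam) (χ : G → ℂ) / (χ : G → ℂ) 1 =
      4 * (Nat.card K : ℂ) ^ 3 := by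
  have hk : (Nat.card K : ℂ) ≠ 0 := Nat.cast_ne_zero.2 Nat.card_pos.ne'
  have hin : ∀ χ : Cfsg.IrrCharacter G, Cfsg.classInner (fl lam) (χ : G → ℂ) =
      (Nat.card K : ℂ)⁻¹ * ∑ y : K, (1 - (lam y : ℂ)) * conj ((χ : G → ℂ) y) := fun χ => by
    rw [fl, classInner_indFun K _ (IsIrrCharacter.isClassFunction χ.2)]
    rfl
  have hsum : ∑ y : K, (1 - (lam y : ℂ)) = Nat.card K := by
    have h1 := classInner_hom (K := K) lam 1
    rw [if_neg hl, Cfsg.classInner, mul_eq_zero] at h1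
    have h2 : ∑ y : K, (lam y : ℂ) = 0 := by
      simpa using h1.resolve_left (inv_ne_zero hk)
    rw [Finset.sum_sub_distrib, h2, sub_zero, Finset.sum_const, Finset.card_univ, nsmul_eq_mul,
      mul_one, Nat.card_eq_fintype_card]
  calc (Nat.card G : ℂ) * ∑ χ : Cfsg.IrrCharacter G,
          (χ : G → ℂ) t ^ 2 * Cfsg.classInner (fl lam) (χ : G → ℂ) / (χ : G → ℂ) 1
      = (Nat.card K : ℂ)⁻¹ * ∑ y : K, (1 - (lam y : ℂ)) * ((Nat.card G : ℂ) *
          ∑ χ : Cfsg.IrrCharacter G,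
            (χ : G → ℂ) t * (χ : G → ℂ) t * conj ((χ : G → ℂ) y) / (χ : G → ℂ) 1) := by
        simp only [hin, Finset.mul_sum, Finset.sum_div]
        rw [Finset.sum_comm]
        exact Finset.sum_congr rfl fun y _ => Finset.sum_congr rfl fun χ _ => by ring
    _ = (Nat.card K : ℂ)⁻¹ * ∑ y : K, (1 - (lam y : ℂ)) * (4 * (Nat.card K : ℂ) ^ 3) := by
        congr 1
        refine Finset.sum_congr rfl fun y _ => ?_
        by_cases hy : (y : G) = 1
        · rw [show y = 1 from Subtype.ext hy, map_one, Units.val_one, sub_self, zero_mul, zero_mul]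
        · rw [class_formula h, h.beta_K y.2 hy]; ring
    _ = 4 * (Nat.card K : ℂ) ^ 3 := by
        rw [← Finset.sum_mul, hsum, ← mul_assoc, inv_mul_cancel₀ hk, one_mul]

lemma IsDec.count (h : Hyp t K s) {lam : ↥K →* ℂˣ} (hl : lam ≠ 1) {a b : Cfsg.IrrCharacter G} {x : ℕ}
    (hd : IsDec lam a b x) :
    (Nat.card G : ℂ) * (1 + (a : G → ℂ) t ^ 2 / x - (b : G → ℂ) t ^ 2 / (x + 1)) =
      4 * (Nat.card K : ℂ) ^ 3 := by
  obtain ⟨ha1, hb1, hab⟩ := hd.ne_one hl
  obtain ⟨hxa, hxb, hx, he⟩ := hd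
  have h1 := count_fl h lam hl
  have hin : ∀ χ : Cfsg.IrrCharacter G, Cfsg.classInner (fl lam) (χ : G → ℂ) =
      (if χ = ⟨_, isIrrCharacter_one⟩ then 1 else 0) + (if χ = a then 1 else 0) -
        (if χ = b then 1 else 0) := fun χ => by
    rw [he, classInner_add_left, classInner_sub_left]
    conv_lhs => rw [classInner_irrCharacter (⟨_, isIrrCharacter_one⟩ : Cfsg.IrrCharacter G) χ,
      classInner_irrCharacter, classInner_irrCharacter]
    simp only [eq_comm (a := χ)]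
    ring
  simp only [hin, mul_sub, mul_add, sub_div, add_div, Finset.sum_sub_distrib, Finset.sum_add_distrib,
    mul_ite, mul_one, mul_zero, ite_div, zero_div, Finset.sum_ite_eq', Finset.mem_univ, if_true] at h1
  rw [← h1, hxa, hxb]
  push_cast
  ring

lemma IsDec.coeff_left {lam : ↥K →* ℂˣ} (hl : lam ≠ 1) {a b : Cfsg.IrrCharacter G} {x : ℕ}
    (hd : IsDec lam a b x) : Cfsg.classInner (fl lam) (a : G → ℂ) = 1 := by
  obtain ⟨ha1, -, hab⟩ := hd.ne_one hl
  rw [hd.2.2.2, classInner_add_left, classInner_sub_left, classInner_irr_self a.2,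
    classInner_irr_ne b.2 a.2 (Ne.symm hab), classInner_irr_ne isIrrCharacter_one a.2 (Ne.symm ha1)]
  norm_num

lemma IsDec.coeff_right {lam : ↥K →* ℂˣ} (hl : lam ≠ 1) {a b : Cfsg.IrrCharacter G} {x : ℕ}
    (hd : IsDec lam a b x) : Cfsg.classInner (fl lam) (b : G → ℂ) = -1 := by
  obtain ⟨-, hb1, hab⟩ := hd.ne_one hl
  rw [hd.2.2.2, classInner_add_left, classInner_sub_left, classInner_irr_self b.2,
    classInner_irr_ne a.2 b.2 hab, classInner_irr_ne isIrrCharacter_one b.2 (Ne.symm hb1)]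
  norm_num

/-- Two decompositions with inner product two share exactly one constituent. -/
lemma IsDec.share (h : Hyp t K s) {lam mu : ↥K →* ℂˣ} (hl : lam ≠ 1) (hm : mu ≠ 1)
    (hne : lam ≠ mu) (hne' : lam ≠ mu⁻¹) {a b a' b' : Cfsg.IrrCharacter G} {x x' : ℕ}
    (hd : IsDec lam a b x) (hd' : IsDec mu a' b' x') : a = a' ∨ b = b' := by
  have h1 := fl_inner h lam mu hl hm
  rw [if_neg hne, if_neg hne'] at h1
  obtain ⟨ha1, hb1, hab⟩ := hd.ne_one hl
  obtain ⟨ha1', hb1', hab'⟩ := hd'.ne_one hm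
  rw [hd.2.2.2, hd'.2.2.2] at h1
  simp only [classInner_add_left, classInner_add_right, classInner_sub_left, classInner_sub_right,
    classInner_irr_self isIrrCharacter_one, classInner_irr_ne isIrrCharacter_one a'.2 (Ne.symm ha1'),
    classInner_irr_ne isIrrCharacter_one b'.2 (Ne.symm hb1'), classInner_irr_ne a.2 isIrrCharacter_one ha1,
    classInner_irr_ne b.2 isIrrCharacter_one hb1, classInner_irrCharacter] at h1
  by_contra hcon
  push Not at hcon
  rw [if_neg hcon.1, if_neg hcon.2] at h1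
  split_ifs at h1 <;> norm_num at h1

/-- The degree and sign found from a linear character. -/
def Good (t : G) (lam : ↥K →* ℂˣ) (δ : ℤ) (q : ℕ) (χ : Cfsg.IrrCharacter G) : Prop :=
  (δ = 1 ∨ δ = -1) ∧ (χ : G → ℂ) 1 = q ∧ (χ : G → ℂ) t = δ ∧ 0 < (q : ℤ) + δ ∧
    (Nat.card G : ℤ) * ((q : ℤ) - δ) ^ 2 = 4 * (Nat.card K : ℤ) ^ 3 * q * ((q : ℤ) + δ) ∧
    Cfsg.classInner (fl lam) (χ : G → ℂ) = δ ∧
    ∃ ψ : Cfsg.IrrCharacter G, (ψ : G → ℂ) 1 = (((q : ℤ) + δ : ℤ) : ℂ) ∧
      fl lam = (fun _ => (1 : ℂ)) + (δ : ℂ) • ((χ : G → ℂ) - (ψ : G → ℂ))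

lemma IsDec.good_left (h : Hyp t K s) {lam : ↥K →* ℂˣ} (hl : lam ≠ 1) {a b : Cfsg.IrrCharacter G}
    {x : ℕ} (hd : IsDec lam a b x) (hat : (a : G → ℂ) t = 1) (hbt : (b : G → ℂ) t ^ 2 = 4) :
    Good t lam 1 x a := by
  have hcnt := hd.count h hl
  have hco := hd.coeff_left hl
  obtain ⟨ha, hb, hx, he⟩ := hd
  refine ⟨Or.inl rfl, ha, by simpa using hat, by omega, ?_, by simpa using hco, b,
    by rw [hb]; push_cast; rfl, by rw [Int.cast_one, one_smul]; exact he⟩
  rw [hat, hbt] at hcnt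
  have hx0 : (x : ℂ) ≠ 0 := Nat.cast_ne_zero.2 hx.ne'
  have hx1 : (x : ℂ) + 1 ≠ 0 := by exact_mod_cast (Nat.succ_ne_zero x)
  field_simp at hcnt
  have h2 : ((((Nat.card G : ℤ) * ((x : ℤ) - 1) ^ 2 : ℤ)) : ℂ) =
      ((4 * (Nat.card K : ℤ) ^ 3 * x * ((x : ℤ) + 1) : ℤ) : ℂ) := by
    push_cast
    linear_combination hcnt
  exact_mod_cast h2

lemma IsDec.good_right (h : Hyp t K s) {lam : ↥K →* ℂˣ} (hl : lam ≠ 1) {a b : Cfsg.IrrCharacter G}
    {x : ℕ} (hd : IsDec lam a b x) (hbt : (b : G → ℂ) t = -1) (hat : (a : G → ℂ) t ^ 2 = 4) :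
    Good t lam (-1) (x + 1) b := by
  have hcnt := hd.count h hl
  have hco := hd.coeff_right hl
  obtain ⟨ha, hb, hx, he⟩ := hd
  refine ⟨Or.inr rfl, by rw [hb]; push_cast; rfl, by simpa using hbt, by omega, ?_, by simpa using hco,
    a, by rw [ha]; push_cast; ring, ?_⟩
  · rw [hat, hbt] at hcnt
    have hx0 : (x : ℂ) ≠ 0 := Nat.cast_ne_zero.2 hx.ne'
    have hx1 : (x : ℂ) + 1 ≠ 0 := by exact_mod_cast (Nat.succ_ne_zero x)
    field_simp at hcnt
    have h2 : (((Nat.card G : ℤ) * (((x + 1 : ℕ) : ℤ) - -1) ^ 2 : ℤ) : ℂ) =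
        ((4 * (Nat.card K : ℤ) ^ 3 * (x + 1 : ℕ) * (((x + 1 : ℕ) : ℤ) + -1) : ℤ) : ℂ) := by
      push_cast
      linear_combination hcnt
    exact_mod_cast h2
  · rw [he]
    ext g
    simp

lemma good_unique (_h : Hyp t K s) {mu : ↥K →* ℂˣ} {δ δ' : ℤ} {q q' : ℕ}
    {χ χ' : Cfsg.IrrCharacter G} (hG : Good t mu δ q χ) (hG' : Good t mu δ' q' χ') :
    δ = δ' ∧ q = q' ∧ χ = χ' := by
  obtain ⟨hδ, hq, -, hpos, heq, hco, ψ, hψ, he⟩ := hG
  obtain ⟨hδ', hq', -, hpos', heq', hco', ψ', hψ', he'⟩ := hG'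
  have hk : (0 : ℤ) < Nat.card K := by exact_mod_cast Nat.card_pos
  have hq0 : (0 : ℤ) < q := by
    obtain ⟨m, hm, hm'⟩ := IsIrrCharacter.apply_one_eq χ.2
    have : q = m := by exact_mod_cast hq.symm.trans hm'
    omega
  have hq0' : (0 : ℤ) < q' := by
    obtain ⟨m, hm, hm'⟩ := IsIrrCharacter.apply_one_eq χ'.2
    have : q' = m := by exact_mod_cast hq'.symm.trans hm'
    omega
  have big : ∀ r : ℤ, 0 < r → (Nat.card G : ℤ) * (r - 1) ^ 2 = 4 * (Nat.card K : ℤ) ^ 3 * r * (r + 1) →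
      4 * (Nat.card K : ℤ) ^ 3 < Nat.card G := by
    intro r hr e
    by_contra hle
    push Not at hle
    nlinarith [mul_le_mul_of_nonneg_right hle (sq_nonneg (r - 1)), mul_pos (pow_pos hk 3) hr]
  have small : ∀ r : ℤ, 0 < r → 0 < r + -1 →
      (Nat.card G : ℤ) * (r - -1) ^ 2 = 4 * (Nat.card K : ℤ) ^ 3 * r * (r + -1) →
      (Nat.card G : ℤ) < 4 * (Nat.card K : ℤ) ^ 3 := by
    intro r hr hr1 e
    by_contra hle
    push Not at hle
    nlinarith [mul_le_mul_of_nonneg_right hle (sq_nonneg (r - -1)), mul_pos (pow_pos hk 3) hr, pow_pos hk 3]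
  have hdd : δ = δ' := by
    rcases hδ with rfl | rfl <;> rcases hδ' with rfl | rfl
    · rfl
    · exact absurd (big q hq0 heq) (not_lt.2 (small q' hq0' hpos' heq').le)
    · exact absurd (big q' hq0' heq') (not_lt.2 (small q hq0 hpos heq).le)
    · rfl
  subst hdd
  have hδc : (δ : ℂ) ≠ 0 := by rcases hδ with rfl | rfl <;> norm_num
  have hχ : χ = χ' := by
    rw [he] at he'
    have h1 := smul_right_injective (G → ℂ) hδc (add_left_cancel he')
    have h2 := congrArg (fun θ => Cfsg.classInner θ (χ : G → ℂ)) h1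
    simp only [classInner_sub_left, classInner_irrCharacter] at h2
    have hne : ψ ≠ χ := fun e => by
      rw [e, hq] at hψ
      have : (q : ℤ) = q + δ := by exact_mod_cast hψ
      rcases hδ with rfl | rfl <;> omega
    simp only [if_true, if_neg hne] at h2
    by_contra hcon
    rw [if_neg (Ne.symm hcon)] at h2
    split_ifs at h2 <;> norm_num at h2
  subst hχ
  exact ⟨rfl, by exact_mod_cast hq.symm.trans hq', rfl⟩

/-- Linear characters with different values at `t` determine a common character. -/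
lemma good_pair (h : Hyp t K s) {lam mu : ↥K →* ℂˣ} (hl : lam ≠ lam⁻¹) (hm : mu ≠ mu⁻¹)
    (hlt : (lam ⟨t, h.htK⟩ : ℂ) = 1) (hmt : (mu ⟨t, h.htK⟩ : ℂ) = -1) :
    ∃ (δ : ℤ) (q : ℕ) (χ : Cfsg.IrrCharacter G), Good t lam δ q χ ∧ Good t mu δ q χ := by
  obtain ⟨a, b, x, hd⟩ := exists_dec h hl
  obtain ⟨a', b', x', hd'⟩ := exists_dec h hm
  have hl1 := ne_one_of_nonreal hl
  have hm1 := ne_one_of_nonreal hm
  have hne : lam ≠ mu := fun e => by rw [e, hmt] at hlt; norm_num at hlt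
  have hne' : lam ≠ mu⁻¹ := fun e => by
    rw [e, MonoidHom.inv_apply, Units.val_inv_eq_inv_val, hmt] at hlt
    norm_num at hlt
  have hv := hd.val_t h
  have hv' := hd'.val_t h
  rw [hlt] at hv
  rw [hmt] at hv'
  have hc := hd.count h hl1
  have hc' := hd'.count h hm1
  have hG : (Nat.card G : ℂ) ≠ 0 := Nat.cast_ne_zero.2 Nat.card_pos.ne'
  have hx0 : (x : ℂ) ≠ 0 := Nat.cast_ne_zero.2 hd.2.2.1.ne'
  have hx1 : (x : ℂ) + 1 ≠ 0 := by exact_mod_cast (Nat.succ_ne_zero x)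
  have heq := mul_left_cancel₀ hG (hc.trans hc'.symm)
  rcases hd.share h hl1 hm1 hne hne' hd' with rfl | rfl
  · obtain rfl : x = x' := by exact_mod_cast hd.1.symm.trans hd'.1
    have h1 : ((b : G → ℂ) t ^ 2 - (b' : G → ℂ) t ^ 2) / ((x : ℂ) + 1) = 0 := by
      linear_combination -heq
    have h2 : (b : G → ℂ) t ^ 2 - (b' : G → ℂ) t ^ 2 = 0 := (div_eq_zero_iff.1 h1).resolve_right hx1
    have hb : (b : G → ℂ) t = 2 := by
      linear_combination (1 / 8 : ℂ) * h2 + (((b : G → ℂ) t + (b' : G → ℂ) t) / 8 - 1 / 2) * (hv - hv')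
    have ha : (a : G → ℂ) t = 1 := by linear_combination hv + hb
    have hb' : (b' : G → ℂ) t = -2 := by linear_combination ha - hv'
    exact ⟨1, x, a, hd.good_left h hl1 ha (by rw [hb]; norm_num),
      hd'.good_left h hm1 ha (by rw [hb']; norm_num)⟩
  · obtain rfl : x = x' := by
      have : x + 1 = x' + 1 := by exact_mod_cast hd.2.1.symm.trans hd'.2.1
      omega
    have h1 : ((a : G → ℂ) t ^ 2 - (a' : G → ℂ) t ^ 2) / (x : ℂ) = 0 := by linear_combination heq
    have h2 : (a : G → ℂ) t ^ 2 - (a' : G → ℂ) t ^ 2 = 0 := (div_eq_zero_iff.1 h1).resolve_right hx0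
    have ha : (a : G → ℂ) t = -2 := by
      linear_combination (-1 / 8 : ℂ) * h2 + (((a : G → ℂ) t + (a' : G → ℂ) t) / 8 + 1 / 2) * (hv - hv')
    have hb : (b : G → ℂ) t = -1 := by linear_combination ha - hv
    have ha' : (a' : G → ℂ) t = 2 := by linear_combination hv' + hb
    exact ⟨-1, x + 1, b, hd.good_right h hl1 hb (by rw [ha]; norm_num),
      hd'.good_right h hm1 hb (by rw [ha']; norm_num)⟩

/-- The case `|K| = 4`. -/
lemma good_four (h : Hyp t K s) (hk : Nat.card K = 4) {lam : ↥K →* ℂˣ} (hl : lam ≠ lam⁻¹)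
    (hlt : (lam ⟨t, h.htK⟩ : ℂ) = -1) :
    ∃ (δ : ℤ) (q : ℕ) (χ : Cfsg.IrrCharacter G), Good t lam δ q χ := by
  obtain ⟨a, b, x, hd⟩ := exists_dec h hl
  have hl1 := ne_one_of_nonreal hl
  obtain ⟨ha1, hb1, hab⟩ := hd.ne_one hl1
  have hv := hd.val_t h
  rw [hlt] at hv
  obtain ⟨A, hA⟩ := CfsgLib.SmallGroups.SelfInverse.exists_int_of_sq_one a.2 (mul_self h.ht)
  obtain ⟨B, hB⟩ := CfsgLib.SmallGroups.SelfInverse.exists_int_of_sq_one b.2 (mul_self h.ht)
  have hAB : A - B = 3 := by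
    rw [hA, hB] at hv
    have : (((A - B : ℤ)) : ℂ) = ((3 : ℤ) : ℂ) := by push_cast; linear_combination hv
    exact_mod_cast this
  have hcol := sum_irr_mul_conj t t
  rw [if_pos (IsConj.refl t), h.card_H, hk] at hcol
  have hle : 1 + A ^ 2 + B ^ 2 ≤ 8 := by
    choose z hz using fun χ : Cfsg.IrrCharacter G =>
      CfsgLib.SmallGroups.SelfInverse.exists_int_of_sq_one χ.2 (mul_self h.ht)
    have hsum : ∑ χ : Cfsg.IrrCharacter G, z χ ^ 2 = 8 := by
      have h5 : ((∑ χ : Cfsg.IrrCharacter G, z χ ^ 2 : ℤ) : ℂ) = ((8 : ℤ) : ℂ) := by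
        simp only [hz, map_intCast] at hcol
        push_cast at hcol ⊢
        refine Eq.trans (Finset.sum_congr rfl fun χ _ => sq _) (hcol.trans ?_)
        norm_num
      exact_mod_cast h5
    set o : Cfsg.IrrCharacter G := ⟨_, isIrrCharacter_one⟩ with ho
    have hoa : o ≠ a := fun e => ha1 (by rw [← e])
    have hob : o ≠ b := fun e => hb1 (by rw [← e])
    have hab' : a ≠ b := fun e => hab (by rw [e])
    have h3 : ∑ χ ∈ ({o, a, b} : Finset (Cfsg.IrrCharacter G)), z χ ^ 2 ≤ 8 :=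
      hsum ▸ Finset.sum_le_sum_of_subset_of_nonneg (Finset.subset_univ _) fun i _ _ => sq_nonneg _
    rw [Finset.sum_insert (by simp [hoa, hob]), Finset.sum_pair hab'] at h3
    have hzo : z o = 1 := by
      have := (hz o).symm
      simp only [ho] at this
      exact_mod_cast this
    have hza : z a = A := by exact_mod_cast (hz a).symm.trans hA
    have hzb : z b = B := by exact_mod_cast (hz b).symm.trans hB
    rw [hzo, hza, hzb] at h3
    linarith
  have hA2 : A ≤ 2 := by nlinarith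
  have hA0 : 1 ≤ A := by nlinarith
  obtain rfl : B = A - 3 := by omega
  interval_cases A
  · exact ⟨1, x, a, hd.good_left h hl1 (by rw [hA]; norm_num) (by rw [hB]; norm_num)⟩
  · exact ⟨-1, x + 1, b, hd.good_right h hl1 (by rw [hB]; norm_num) (by rw [hA]; norm_num)⟩

lemma card_hom (h : Hyp t K s) : Nat.card (↥K →* ℂˣ) = Nat.card K := by
  haveI := h.hKab
  letI : CommGroup K := { (inferInstance : Group K) with mul_comm := fun a b => Subtype.ext (h.comm a.2 b.2) }
  haveI : NeZero (Monoid.exponent K) := ⟨Monoid.exponent_ne_zero_of_finite⟩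
  exact CommGroup.card_monoidHom_of_hasEnoughRootsOfUnity K ℂ

lemma exists_hom_neg (h : Hyp t K s) : ∃ lam : ↥K →* ℂˣ, (lam ⟨t, h.htK⟩ : ℂ) = -1 := by
  letI : CommGroup K := { (inferInstance : Group K) with mul_comm := fun a b => Subtype.ext (h.comm a.2 b.2) }
  haveI : NeZero (Monoid.exponent K) := ⟨Monoid.exponent_ne_zero_of_finite⟩
  obtain ⟨lam, hlam⟩ := CommGroup.exists_apply_ne_one_of_hasEnoughRootsOfUnity K ℂ
    (a := ⟨t, h.htK⟩) (fun e => ne_one h.ht (congrArg Subtype.val e))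
  exact ⟨lam, (lam_t h lam).resolve_left fun e => hlam (Units.ext e)⟩

/-- Two non-trivial real linear characters of `K` are equal. -/
lemma real_unique (h : Hyp t K s) {mu mu' : ↥K →* ℂˣ} (h1 : mu = mu⁻¹) (h1' : mu' = mu'⁻¹)
    (hm : mu ≠ 1) (hm' : mu' ≠ 1) : mu = mu' := by
  letI : CommGroup K := { (inferInstance : Group K) with mul_comm := fun a b => Subtype.ext (h.comm a.2 b.2) }
  haveI : NeZero (Monoid.exponent K) := ⟨Monoid.exponent_ne_zero_of_finite⟩
  obtain ⟨e⟩ := CommGroup.monoidHom_mulEquiv_of_hasEnoughRootsOfUnity K ℂ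
  have key : ∀ nu : ↥K →* ℂˣ, nu = nu⁻¹ → nu ≠ 1 → (e nu : G) = t := fun nu hnu hne => by
    refine (h.eq_one_or_t (e nu).2 ?_).resolve_left fun e1 => hne (e.injective ?_)
    · have h0 : nu * nu = 1 := MonoidHom.ext fun y => by
        have h1 := congrArg (fun m : ↥K →* ℂˣ => m y) hnu
        simp only [MonoidHom.inv_apply] at h1
        rw [MonoidHom.mul_apply, MonoidHom.one_apply]
        nth_rewrite 2 [h1]
        exact mul_inv_cancel _
      rw [← Subgroup.coe_mul, ← map_mul, h0, map_one, OneMemClass.coe_one]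
    · rw [map_one]; exact Subtype.ext e1
  exact e.injective (Subtype.ext ((key mu h1 hm).trans (key mu' h1' hm').symm))

lemma exists_nonreal (h : Hyp t K s) (hk : 6 ≤ Nat.card K) (ε : ℂ) (hε : ε = 1 ∨ ε = -1) :
    ∃ lam : ↥K →* ℂˣ, lam ≠ lam⁻¹ ∧ (lam ⟨t, h.htK⟩ : ℂ) = ε := by
  haveI := finite_hom (K := K)
  haveI := Fintype.ofFinite (↥K →* ℂˣ)
  obtain ⟨nu, hnu⟩ := exists_hom_neg h
  by_contra hcon
  push Not at hcon
  set S := (Finset.univ : Finset (↥K →* ℂˣ)).filter fun l => (l ⟨t, h.htK⟩ : ℂ) = ε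
  set S' := (Finset.univ : Finset (↥K →* ℂˣ)).filter fun l => ¬ (l ⟨t, h.htK⟩ : ℂ) = ε
  have hval : ∀ l : ↥K →* ℂˣ, ((nu * l) ⟨t, h.htK⟩ : ℂ) = -(l ⟨t, h.htK⟩ : ℂ) := fun l => by
    rw [MonoidHom.mul_apply, Units.val_mul, hnu, neg_one_mul]
  have hcard : S'.card ≤ S.card := by
    refine Finset.card_le_card_of_injOn (fun l => nu * l) (fun l hl => ?_)
      (fun a _ b _ e => mul_left_cancel e)
    have h2 := (Finset.mem_filter.1 hl).2
    refine Finset.mem_filter.2 ⟨Finset.mem_univ _, ?_⟩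
    rw [hval]
    rcases lam_t h l with e | e <;> rcases hε with rfl | rfl <;> simp_all
  have hS : S.card ≤ 2 := by
    have h5 : S ⊆ insert 1 ((Finset.univ : Finset (↥K →* ℂˣ)).filter fun l => l = l⁻¹ ∧ l ≠ 1) := by
      intro l hl
      by_cases h1 : l = 1
      · rw [h1]; exact Finset.mem_insert_self _ _
      · refine Finset.mem_insert_of_mem (Finset.mem_filter.2 ⟨Finset.mem_univ _, ?_, h1⟩)
        by_contra hne
        exact hcon l hne (Finset.mem_filter.1 hl).2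
    refine (Finset.card_le_card h5).trans ((Finset.card_insert_le _ _).trans ?_)
    refine Nat.succ_le_succ (Finset.card_le_one.2 fun a ha b hb => ?_)
    exact real_unique h (Finset.mem_filter.1 ha).2.1 (Finset.mem_filter.1 hb).2.1
      (Finset.mem_filter.1 ha).2.2 (Finset.mem_filter.1 hb).2.2
  have hsum : S.card + S'.card = Nat.card K := by
    rw [Finset.card_filter_add_card_filter_not, ← card_hom h, Nat.card_eq_fintype_card, Finset.card_univ]
  omega

lemma exists_good (h : Hyp t K s) (hk : 4 ≤ Nat.card K) :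
    ∃ (δ : ℤ) (q : ℕ) (χ : Cfsg.IrrCharacter G), (∃ lam : ↥K →* ℂˣ, Good t lam δ q χ) ∧
      ∀ lam : ↥K →* ℂˣ, lam ≠ lam⁻¹ → Cfsg.classInner (fl lam) (χ : G → ℂ) = δ := by
  haveI := finite_hom (K := K)
  haveI := Fintype.ofFinite (↥K →* ℂˣ)
  by_cases hk6 : 6 ≤ Nat.card K
  · obtain ⟨lam, hl, hlt⟩ := exists_nonreal h hk6 1 (Or.inl rfl)
    obtain ⟨mu, hm, hmt⟩ := exists_nonreal h hk6 (-1) (Or.inr rfl)
    obtain ⟨δ, q, χ, hG, hG'⟩ := good_pair h hl hm hlt hmt
    refine ⟨δ, q, χ, ⟨lam, hG⟩, fun nu hn => ?_⟩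
    rcases lam_t h nu with e | e
    · obtain ⟨δ', q', χ', hH, hH'⟩ := good_pair h hn hm e hmt
      obtain ⟨rfl, rfl, rfl⟩ := good_unique h hG' hH'
      exact hH.2.2.2.2.2.1
    · obtain ⟨δ', q', χ', hH, hH'⟩ := good_pair h hl hn hlt e
      obtain ⟨rfl, rfl, rfl⟩ := good_unique h hG hH
      exact hH'.2.2.2.2.2.1
  · have hk4 : Nat.card K = 4 := by
      obtain ⟨m, hm⟩ := h.even_card
      omega
    obtain ⟨lam, hlt⟩ := exists_hom_neg h
    -- `t` is a square, so real characters are trivial at `t`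
    have hsq : ∀ l : ↥K →* ℂˣ, l = l⁻¹ → (l ⟨t, h.htK⟩ : ℂ) = 1 := by
      obtain ⟨y, hy1, hyt⟩ : ∃ y : K, y ≠ 1 ∧ y ≠ ⟨t, h.htK⟩ := by
        obtain ⟨y, hy⟩ : ∃ y : K, y ∉ ({1, ⟨t, h.htK⟩} : Finset K) := by
          by_contra hcon
          push Not at hcon
          have h5 := Finset.card_le_card (fun y (_ : y ∈ (Finset.univ : Finset K)) => hcon y)
          rw [Finset.card_univ, ← Nat.card_eq_fintype_card, hk4] at h5
          have := h5.trans Finset.card_le_two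
          omega
        simp only [Finset.mem_insert, Finset.mem_singleton, not_or] at hy
        exact ⟨y, hy⟩
      have h4 : y ^ 4 = 1 := by rw [← hk4]; exact pow_card_eq_one'
      have hy2 : y * y = ⟨t, h.htK⟩ := by
        refine Subtype.ext ((h.eq_one_or_t (y * y).2 ?_).resolve_left fun e => ?_)
        · rw [← Subgroup.coe_mul, show y * y * (y * y) = 1 by rw [← h4, pow_succ, pow_succ, pow_succ, pow_one]; group, OneMemClass.coe_one]
        · rcases h.eq_one_or_t y.2 (by rw [← Subgroup.coe_mul, e]) with e1 | e1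
          · exact hy1 (Subtype.ext e1)
          · exact hyt (Subtype.ext e1)
      intro l hl
      rw [← hy2, map_mul]
      nth_rewrite 1 [hl]
      rw [MonoidHom.inv_apply, inv_mul_cancel, Units.val_one]
    have hl : lam ≠ lam⁻¹ := fun e => by
      rw [hsq lam e] at hlt
      norm_num at hlt
    obtain ⟨δ, q, χ, hG⟩ := good_four h hk4 hl hlt
    refine ⟨δ, q, χ, ⟨lam, hG⟩, fun nu hn => ?_⟩
    have hinvt : ((lam⁻¹ : ↥K →* ℂˣ) ⟨t, h.htK⟩ : ℂ) = -1 := by
      rw [MonoidHom.inv_apply, Units.val_inv_eq_inv_val, hlt]; norm_num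
    have hflinv : fl lam⁻¹ = fl (G := G) lam := by
      ext g
      by_cases hi : Ins K g
      · obtain ⟨hg1, c, hc⟩ := hi
        have hcf := fun l : ↥K →* ℂˣ => (IsGeneralizedCharacter.isClassFunction (fl_gen l)) g c
        rw [← hcf lam⁻¹, ← hcf lam, show c * g * c⁻¹ = ((⟨_, hc⟩ : K) : G) from rfl, fl_mem h, fl_mem h,
          hom_inv_apply, hom_inv_apply, inv_inv]
        ring
      · by_cases hg1 : g = 1
        · rw [hg1, fl_one, fl_one]
        · rw [fl_out _ ⟨hg1, hi⟩, fl_out _ ⟨hg1, hi⟩]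
    have hnu : nu = lam ∨ nu = lam⁻¹ := by
      by_contra hcon
      push Not at hcon
      -- the characters non-trivial at `t` and their translates
      have hnt : (nu ⟨t, h.htK⟩ : ℂ) = -1 := by
        rcases lam_t h nu with e | e
        · exfalso
          have h5 : ({1, nu, nu⁻¹, lam, lam⁻¹} : Finset (↥K →* ℂˣ)).card ≤ 4 := by
            rw [← hk4, ← card_hom h, Nat.card_eq_fintype_card]; exact Finset.card_le_univ _
          have h6 : ({1, nu, nu⁻¹, lam, lam⁻¹} : Finset (↥K →* ℂˣ)).card = 5 := by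
            have e1 := ne_one_of_nonreal hn
            have e2 := ne_one_of_nonreal hl
            have e3 : nu⁻¹ ≠ lam := fun e' => hcon.2 (by rw [← e', hom_inv_inv])
            have e4 : nu⁻¹ ≠ lam⁻¹ := fun e' => hcon.1 (by rw [← hom_inv_inv nu, e', hom_inv_inv])
            simp [hn, hl, hcon.1, hcon.2, e3, e4, Ne.symm e1, Ne.symm e2,
              Ne.symm (show nu⁻¹ ≠ 1 from fun e' => e1 (hom_eq_one_of_inv e')),
              Ne.symm (show lam⁻¹ ≠ 1 from fun e' => e2 (hom_eq_one_of_inv e'))]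
          omega
        · exact e
      have h5 : ({1, nu, lam, lam⁻¹} : Finset (↥K →* ℂˣ)).card ≤
          ((Finset.univ : Finset (↥K →* ℂˣ)).filter fun l => l = 1 ∨ (l ⟨t, h.htK⟩ : ℂ) = -1).card := by
        refine Finset.card_le_card fun l hl' => Finset.mem_filter.2 ⟨Finset.mem_univ _, ?_⟩
        simp only [Finset.mem_insert, Finset.mem_singleton] at hl'
        rcases hl' with rfl | rfl | rfl | rfl
        · exact Or.inl rfl
        · exact Or.inr hnt
        · exact Or.inr hlt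
        · exact Or.inr hinvt
      have h6 : ({1, nu, lam, lam⁻¹} : Finset (↥K →* ℂˣ)).card = 4 := by
        have e1 := ne_one_of_nonreal hn
        have e2 := ne_one_of_nonreal hl
        simp [hl, hcon.1, hcon.2, Ne.symm e1, Ne.symm e2,
          Ne.symm (show lam⁻¹ ≠ 1 from fun e' => e2 (hom_eq_one_of_inv e'))]
      have h7 : lam * lam ∈ (Finset.univ : Finset (↥K →* ℂˣ)).filter
          fun l => l = 1 ∨ (l ⟨t, h.htK⟩ : ℂ) = -1 := by
        have h8 : Finset.univ = (Finset.univ : Finset (↥K →* ℂˣ)).filter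
            fun l => l = 1 ∨ (l ⟨t, h.htK⟩ : ℂ) = -1 :=
          (Finset.eq_univ_of_card _ (le_antisymm (Finset.card_le_univ _) (by
            rw [← Nat.card_eq_fintype_card, card_hom h, hk4]; omega))).symm
        rw [← h8]; exact Finset.mem_univ _
      rcases (Finset.mem_filter.1 h7).2 with e | e
      · exact hl (MonoidHom.ext fun y => by
          have h9 := congrArg (fun m : ↥K →* ℂˣ => m y) e
          simp only [MonoidHom.mul_apply, MonoidHom.one_apply] at h9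
          exact eq_inv_of_mul_eq_one_left h9)
      · rw [MonoidHom.mul_apply, Units.val_mul, hlt] at e; norm_num at e
    rcases hnu with rfl | rfl
    · exact hG.2.2.2.2.2.1
    · rw [hflinv]; exact hG.2.2.2.2.2.1

/-- The character of degree `q`, constant `δ` on the non-identity elements of `K`. -/
theorem exists_char (h : Hyp t K s) (hk : 4 ≤ Nat.card K) :
    ∃ (δ : ℤ) (q : ℕ) (χ ψ : Cfsg.IrrCharacter G), (δ = 1 ∨ δ = -1) ∧
      (χ : G → ℂ) 1 = q ∧ (ψ : G → ℂ) 1 = (((q : ℤ) + δ : ℤ) : ℂ) ∧ 0 < (q : ℤ) + δ ∧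
      (Nat.card G : ℤ) * ((q : ℤ) - δ) ^ 2 = 4 * (Nat.card K : ℤ) ^ 3 * q * ((q : ℤ) + δ) ∧
      (Nat.card K : ℤ) ∣ (q : ℤ) - δ ∧
      (∀ y ∈ K, y ≠ 1 → (χ : G → ℂ) y = δ) ∧
      (∀ g, Out K g → (δ : ℂ) * ((χ : G → ℂ) g - (ψ : G → ℂ) g) = -1) := by
  obtain ⟨δ, q, χ, ⟨lam, hG⟩, hall⟩ := exists_good h hk
  obtain ⟨hδ, hq, hχt, hpos, heq, -, ψ, hψ, he⟩ := hG
  have hres : Cfsg.IsCharacter K fun y : K => (χ : G → ℂ) y :=
    IsCharacter.restrict (isCharacter_irr χ) K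
  -- the multiplicities
  have hhom : ∀ φ : Cfsg.IrrCharacter K, ∃ l : ↥K →* ℂˣ, (φ : K → ℂ) = fun y => (l y : ℂ) := fun φ =>
    exists_hom_of_apply_one_eq_one (isCharacter_irr φ)
      (apply_one_eq_one_of_comm (fun a b => Subtype.ext (h.comm a.2 b.2)) φ.2)
  set o : Cfsg.IrrCharacter K := ⟨_, isIrrCharacter_one⟩ with ho
  choose m hm using fun φ : Cfsg.IrrCharacter K =>
    IsCharacter.classInner_nat hres (isCharacter_irr φ)
  choose L hL using hhom
  have hco : ∀ φ : Cfsg.IrrCharacter K, L φ ≠ (L φ)⁻¹ → (m o : ℤ) - m φ = δ := by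
    intro φ hφ
    have h1 := hall (L φ) hφ
    rw [fl_inner_class _ (IsIrrCharacter.isClassFunction χ.2), ← hL φ,
      ← classInner_conj_symm (fun y : K => (χ : G → ℂ) y) (fun _ : K => (1 : ℂ)),
      ← classInner_conj_symm (fun y : K => (χ : G → ℂ) y) (φ : K → ℂ), hm φ,
      show (fun _ : K => (1 : ℂ)) = (o : K → ℂ) from rfl, hm o, map_natCast, map_natCast] at h1
    exact_mod_cast h1
  -- expansion
  have hexp : ∀ y : K, (χ : G → ℂ) y = δ + ∑ φ : Cfsg.IrrCharacter K,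
      (((m φ : ℤ) - (if φ = o then δ else 0) : ℤ) : ℂ) * (φ : K → ℂ) y := by
    intro y
    have h1 := congrFun (IsClassFunction.eq_sum_irr (IsCharacter.isClassFunction hres)) y
    simp only [Finset.sum_apply, Pi.smul_apply, smul_eq_mul, hm] at h1
    rw [h1]
    push_cast
    simp only [sub_mul, Finset.sum_sub_distrib, ite_mul, zero_mul, apply_ite (Int.cast : ℤ → ℂ),
      Int.cast_zero, Finset.sum_ite_eq', Finset.mem_univ, if_true]
    simp [ho]
  have hLo : L o = 1 := coe_hom_injective (by show (fun y => (L o y : ℂ)) = _; rw [← hL o]; ext y; simp [ho])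
  set c : ℤ := (m o : ℤ) - δ
  have hcoef : ∀ φ, ¬ (L φ = (L φ)⁻¹ ∧ L φ ≠ 1) → (m φ : ℤ) - (if φ = o then δ else 0) = c := by
    intro φ hφ
    by_cases hφo : φ = o
    · rw [if_pos hφo, hφo]
    · have hne : L φ ≠ 1 := fun e => hφo (Subtype.ext ((hL φ).trans (by rw [e, ← hLo, ← hL o])))
      have h2 := hco φ fun e => hφ ⟨e, hne⟩
      rw [if_neg hφo]
      omega
  have hreg : ∀ y : K, ∑ φ : Cfsg.IrrCharacter K, (φ : K → ℂ) y = if y = 1 then (Nat.card K : ℂ) else 0 := by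
    intro y
    rw [← regular_eq_sum_irr]
    exact Finset.sum_congr rfl fun φ _ => by
      rw [apply_one_eq_one_of_comm (fun a b => Subtype.ext (h.comm a.2 b.2)) φ.2, one_mul]
  have hone : ∀ φ φ' : Cfsg.IrrCharacter K, L φ = (L φ)⁻¹ ∧ L φ ≠ 1 → L φ' = (L φ')⁻¹ ∧ L φ' ≠ 1 → φ = φ' :=
    fun φ φ' a b => Subtype.ext (by rw [hL φ, hL φ', real_unique h a.1 b.1 a.2 b.2])
  -- all coefficients agree
  have hall' : ∀ φ, (m φ : ℤ) - (if φ = o then δ else 0) = c := by
    intro φ₀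
    by_cases hφ : L φ₀ = (L φ₀)⁻¹ ∧ L φ₀ ≠ 1
    swap
    · exact hcoef φ₀ hφ
    have h2 : ∀ φ, φ ≠ φ₀ → (m φ : ℤ) - (if φ = o then δ else 0) = c := fun φ hne =>
      hcoef φ fun hr => hne (hone φ φ₀ hr hφ)
    have h3 := hexp ⟨t, h.htK⟩
    have ht1 : (⟨t, h.htK⟩ : K) ≠ 1 := fun e => ne_one h.ht (congrArg Subtype.val e)
    have hr := hreg ⟨t, h.htK⟩
    rw [if_neg ht1, ← Finset.add_sum_erase _ _ (Finset.mem_univ φ₀)] at hr
    rw [← Finset.add_sum_erase _ _ (Finset.mem_univ φ₀),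
      Finset.sum_congr rfl fun φ hφ' => by rw [h2 φ (Finset.ne_of_mem_erase hφ')], ← Finset.mul_sum,
      show ((⟨t, h.htK⟩ : K) : G) = t from rfl, hχt] at h3
    have hne0 : (φ₀ : K → ℂ) ⟨t, h.htK⟩ ≠ 0 := by rw [hL φ₀]; exact Units.ne_zero _
    have h4 : (((m φ₀ : ℤ) - (if φ₀ = o then δ else 0) - c : ℤ) : ℂ) * (φ₀ : K → ℂ) ⟨t, h.htK⟩ = 0 := by
      push_cast at h3 ⊢
      linear_combination -h3 - (c : ℂ) * hr
    have h5 := (mul_eq_zero.1 h4).resolve_right hne0
    have : (m φ₀ : ℤ) - (if φ₀ = o then δ else 0) - c = 0 := by exact_mod_cast h5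
    omega
  have hval : ∀ y : K, (χ : G → ℂ) y = δ + (c : ℂ) * if y = 1 then (Nat.card K : ℂ) else 0 := by
    intro y
    rw [hexp y, ← hreg y, Finset.mul_sum]
    exact congrArg _ (Finset.sum_congr rfl fun φ _ => by rw [hall' φ])
  refine ⟨δ, q, χ, ψ, hδ, hq, hψ, hpos, heq, ?_, fun y hy hy1 => ?_, fun g hg => ?_⟩
  · have h1 := hval 1
    rw [if_pos rfl, OneMemClass.coe_one, hq] at h1
    refine ⟨c, ?_⟩
    have : (((q : ℤ) - δ : ℤ) : ℂ) = (((Nat.card K : ℤ) * c : ℤ) : ℂ) := by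
      push_cast
      linear_combination h1
    exact_mod_cast this
  · have h1 := hval ⟨y, hy⟩
    rw [if_neg (fun e => hy1 (congrArg Subtype.val e)), mul_zero, add_zero] at h1
    exact h1
  · have h1 := congrFun he g
    rw [fl_out lam hg, Pi.add_apply, Pi.smul_apply, Pi.sub_apply, smul_eq_mul] at h1
    linear_combination -h1

end CfsgLib.Characterizations.BSW
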