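import Cfsg.Agent.Lib.Characterizations.BSWStructure
import Cfsg.Agent.Lib.Perm.ZGroup.PSL
import Cfsg.Agent.Lib.Blocks.FourGroupOrder
import Cfsg.Agent.Lib.Fusion.Abelian
import Cfsg.Agent.Lib.Components.Constrained
import Cfsg.Agent.Lib.Involution.ZStar.Basic
import Cfsg.Agent.S0107
import Cfsg.Agent.S0514

/-!
# The Brauer–Suzuki–Wall theorem for simple groups with dihedral Sylow 2-subgroups
-/

set_option autoImplicit false

open scoped Classical

namespace CfsgLib.Characterizations.BSW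

open CfsgLib.Involution.Dihedral

universe u

variable {G : Type u} [Group G] [Finite G]

/-- The Zassenhaus group on the cosets of `N(Q)`. -/
theorem psl_of_hyp [IsSimpleGroup G] {t s : G} {K : Subgroup G} (h : Hyp t K s) :
    ∃ (F : Type) (_ : Field F) (_ : Fintype F), Odd (Fintype.card F) ∧
      Nonempty (G ≃* Matrix.ProjectiveSpecialLinearGroup (Fin 2) F) := by
  obtain ⟨Q, D, hG, hCQ, hDab, hqd, hQD, hM, hN, hTI⟩ := structure_theorem h
  set M := Subgroup.normalizer (Q : Set G) with hMdef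
  set d := Nat.card D with hd
  have hd0 : 0 < d := Nat.card_pos
  have hG' : Nat.card G = 2 * d * (d + 1) * (2 * d + 1) := by
    rw [← hqd, Nat.add_sub_cancel] at hG
    nlinarith
  have hQD' : Disjoint Q D := disjoint_iff.2 hQD
  have hDM : D ≤ M := hM ▸ le_sup_right
  have hQM : Q ≤ M := Subgroup.le_normalizer
  have hmem : ∀ g, g ∈ M → ∃ x ∈ Q, ∃ e ∈ D, g = x * e := by
    intro g hg
    rw [hM, ← SetLike.mem_coe, Subgroup.coe_mul_of_right_le_normalizer_left Q D hDM] at hg
    obtain ⟨x, hx, e, he, rfl⟩ := hg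
    exact ⟨x, hx, e, he, rfl⟩
  have huniq : ∀ x ∈ Q, ∀ x' ∈ Q, ∀ e ∈ D, ∀ e' ∈ D, x * e = x' * e' → x = x' ∧ e = e' := by
    intro x hx x' hx' e he e' he' heq
    have h1 : x'⁻¹ * x = e' * e⁻¹ := by
      rw [inv_mul_eq_iff_eq_mul, ← mul_assoc, ← heq, mul_inv_cancel_right]
    have h2 : x'⁻¹ * x = 1 :=
      Subgroup.disjoint_def.1 hQD' (mul_mem (inv_mem hx') hx) (h1 ▸ mul_mem he' (inv_mem he))
    rw [h2] at h1
    exact ⟨(inv_mul_eq_one.1 h2).symm, (mul_inv_eq_one.1 h1.symm).symm⟩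
  have hMcard : Nat.card M = Nat.card Q * d := by
    rw [hd, ← Nat.card_prod]
    refine (Nat.card_eq_of_bijective
      (fun p : Q × D => (⟨(p.1 : G) * p.2, mul_mem (hQM p.1.2) (hDM p.2.2)⟩ : M)) ⟨?_, ?_⟩).symm
    · rintro ⟨x, e⟩ ⟨x', e'⟩ heq
      obtain ⟨h1, h2⟩ := huniq _ x.2 _ x'.2 _ e.2 _ e'.2 (congrArg Subtype.val heq)
      exact Prod.ext (Subtype.ext h1) (Subtype.ext h2)
    · rintro ⟨g, hg⟩
      obtain ⟨x, hx, e, he, rfl⟩ := hmem g hg
      exact ⟨(⟨x, hx⟩, ⟨e, he⟩), rfl⟩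
  have hindex : M.index = 2 * d + 2 := by
    refine Nat.eq_of_mul_eq_mul_left (Nat.card_pos (α := M)) ?_
    rw [Subgroup.card_mul_index, hMcard, ← hqd, hG']
    ring
  have hd1 : d ≠ 1 := by
    intro e1
    haveI : Fact (Nat.Prime 3) := ⟨Nat.prime_three⟩
    have hQ3 : Nat.card Q = 3 := by omega
    have hfac : Nat.card Q = 3 ^ (Nat.card G).factorization 3 := by
      have h12 : (Nat.card G).factorization 3 = 1 := by
        rw [hG', e1, show 2 * 1 * (1 + 1) * (2 * 1 + 1) = 3 * 4 by norm_num,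
          Nat.factorization_mul (by norm_num) (by norm_num), Finsupp.add_apply,
          Nat.Prime.factorization_self Nat.prime_three, Nat.factorization_eq_zero_of_not_dvd (by norm_num)]
      rw [h12, hQ3, pow_one]
    have hD1 : D = ⊥ := Subgroup.card_eq_one.1 e1
    have hP : ((Sylow.ofCard Q hfac : Sylow 3 G) : Subgroup G) = Q := rfl
    have hle : Subgroup.normalizer (Q : Set G) ≤ Subgroup.centralizer (Q : Set G) := by
      rw [← hMdef, hM, hD1, sup_bot_eq]
      intro x hx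
      refine Subgroup.mem_centralizer_iff.2 fun y hy => ?_
      by_cases hy1 : y = 1
      · rw [hy1, one_mul, mul_one]
      · rw [← hCQ y hy hy1] at hx
        exact (Subgroup.mem_centralizer_singleton_iff.1 hx).symm
    obtain ⟨P, N, hNn, hNP⟩ := CfsgLib.Fusion.Abelian.npc_of_normalizer_le_centralizer
      (Sylow.ofCard Q hfac) hle
    have hc := hNP.card_mul_card
    rw [hG', e1] at hc
    have hPc : Nat.card (P : Subgroup G) = 3 := by
      rw [Sylow.card_eq_multiplicity, ← hfac, hQ3]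
    rw [hPc] at hc
    rcases hNn.eq_bot_or_eq_top with rfl | rfl
    · rw [Subgroup.card_bot] at hc; omega
    · rw [Subgroup.card_top, hG', e1] at hc; omega
  set Ω := G ⧸ M
  let a : Ω := ((1 : G) : Ω)
  have hΩ : Nat.card Ω = 2 * d + 2 := hindex
  have hstab : MulAction.stabilizer G a = M := MulAction.stabilizer_quotient M
  have hfix : ∀ (g x : G), g • (x : Ω) = (x : Ω) ↔ x⁻¹ * g * x ∈ M := by
    intro g x
    change ((g * x : G) : Ω) = (x : Ω) ↔ _
    rw [eq_comm, QuotientGroup.eq, mul_assoc]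
  -- elements of `Q` in `M`-conjugates
  have hQM' : ∀ y ∈ Q, ∀ g : G, g⁻¹ * y * g ∈ M → g⁻¹ * y * g ∈ Q := by
    intro y hy g hg
    obtain ⟨x, hx, e, he, hxe⟩ := hmem _ hg
    by_cases he1 : e = 1
    · rw [hxe, he1, mul_one]; exact hx
    exfalso
    -- the power of `g⁻¹ y g` killing it lies in `Q`
    have hq : (g⁻¹ * y * g) ^ Nat.card Q = 1 := by
      have h1 : y ^ Nat.card Q = 1 := by
        have := congrArg Subtype.val (pow_card_eq_one' (x := (⟨y, hy⟩ : Q)))
        exact this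
      calc (g⁻¹ * y * g) ^ Nat.card Q = (g⁻¹ * y * g⁻¹⁻¹) ^ Nat.card Q := by rw [inv_inv]
        _ = 1 := by rw [_root_.conj_pow, h1, mul_one, mul_inv_cancel]
    let π : M →* M ⧸ Q.subgroupOf M := QuotientGroup.mk' _
    have hπx : π ⟨x, hQM hx⟩ = 1 := (QuotientGroup.eq_one_iff _).2 (Subgroup.mem_subgroupOf.2 hx)
    have h2 : π ⟨e, hDM he⟩ ^ Nat.card Q = 1 := by
      have h3 : (⟨g⁻¹ * y * g, hg⟩ : M) = ⟨x, hQM hx⟩ * ⟨e, hDM he⟩ := Subtype.ext hxe
      have h4 : π ⟨g⁻¹ * y * g, hg⟩ ^ Nat.card Q = 1 := by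
        rw [← map_pow, show (⟨g⁻¹ * y * g, hg⟩ : M) ^ Nat.card Q = 1 from Subtype.ext hq, map_one]
      rwa [h3, map_mul, hπx, one_mul] at h4
    rw [← map_pow] at h2
    have h5 : e ^ Nat.card Q ∈ Q := Subgroup.mem_subgroupOf.1 ((QuotientGroup.eq_one_iff _).1 h2)
    have h6 : e ^ Nat.card Q = 1 := Subgroup.disjoint_def.1 hQD' h5 (pow_mem he _)
    have h7 : orderOf e ∣ Nat.gcd (Nat.card Q) d := Nat.dvd_gcd (orderOf_dvd_of_pow_eq_one h6) (by
      have := orderOf_dvd_natCard (⟨e, he⟩ : D)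
      rwa [Subgroup.orderOf_mk] at this)
    rw [← hqd, Nat.gcd_comm, add_comm (2 * d) 1, Nat.gcd_add_mul_right_right, Nat.gcd_one_right,
      Nat.dvd_one, orderOf_eq_one_iff] at h7
    exact he1 h7
  have hQfree : ∀ y ∈ Q, y ≠ 1 → ∀ x : G, y • (x : Ω) = (x : Ω) → (x : Ω) = a := by
    intro y hy hy1 x hx
    have h1 := hQM' y hy x ((hfix y x).1 hx)
    have hxM : x ∈ M := by
      rw [hMdef, Subgroup.mem_normalizer_iff'']
      intro z
      have h2 := hCQ _ h1 (fun e => hy1 (by simpa [mul_assoc] using congrArg (fun w => x * w * x⁻¹) e))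
      conv_rhs => rw [← h2]
      rw [show x⁻¹ * y * x = x⁻¹ * y * x⁻¹⁻¹ by rw [inv_inv], mem_cent_conj,
        show x⁻¹⁻¹ * (x⁻¹ * z * x) * x⁻¹ = z by group, hCQ y hy hy1]
    exact QuotientGroup.eq.2 (by simpa using inv_mem hxM)
  haveI : Finite Ω := Quotient.finite _
  cases nonempty_fintype Ω
  have hQa : ∀ u : G, u ∈ Q → u • a = a := fun u hu => by
    have := hQM hu
    rw [← hstab] at this
    exact this
  -- `Q` is regular on the other points
  have hreg : ∀ y z : Ω, y ≠ a → z ≠ a → ∃! u : Q, (u : G) • y = z := by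
    intro y z hy hz
    have hinj : Function.Injective fun u : Q => (u : G) • y := by
      intro u v e
      by_contra huv
      obtain ⟨x, rfl⟩ := QuotientGroup.mk_surjective y
      refine hy (hQfree ((v⁻¹ * u : Q) : G) (v⁻¹ * u).2 (fun e' => huv ?_) x ?_)
      · exact (inv_mul_eq_one.1 (Subtype.ext e' : v⁻¹ * u = 1)).symm
      · rw [Subgroup.coe_mul, Subgroup.coe_inv, mul_smul, inv_smul_eq_iff]; exact e
    have hne : ∀ u : Q, (u : G) • y ≠ a := fun u e => hy (by
      have := congrArg (fun w => (u : G)⁻¹ • w) e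
      simp only [inv_smul_smul] at this
      rw [this, inv_smul_eq_iff, hQa _ u.2])
    have hsurj : Function.Surjective fun u : Q => (⟨(u : G) • y, hne u⟩ : {w : Ω // w ≠ a}) := by
      refine ((Function.Injective.bijective_of_nat_card_le fun u v e => hinj (congrArg Subtype.val e)) ?_).2
      rw [Nat.card_eq_fintype_card (α := {w : Ω // w ≠ a}), Fintype.card_subtype_compl, Fintype.card_subtype_eq,
        ← Nat.card_eq_fintype_card, hΩ]
      omega
    obtain ⟨u, hu⟩ := hsurj ⟨z, hz⟩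
    exact ⟨u, congrArg Subtype.val hu, fun v hv => hinj (hv.trans (congrArg Subtype.val hu).symm)⟩
  -- elements of `D`
  have hDne : D ≠ ⊥ := fun e => hd1 (Subgroup.card_eq_one.2 e)
  have hND : Nat.card (Subgroup.normalizer (D : Set G)) ≤ 2 * d := by
    obtain ⟨-, u, hu, -, hinv, hNe⟩ := hN D le_rfl hDne
    have huD : Subgroup.zpowers u ≤ Subgroup.normalizer (D : Set G) := hNe ▸ le_sup_right
    have hco := Subgroup.coe_mul_of_right_le_normalizer_left D (Subgroup.zpowers u) huD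
    rw [hNe, show Nat.card ↥(D ⊔ Subgroup.zpowers u) = Nat.card ↑((D ⊔ Subgroup.zpowers u : Subgroup G) : Set G) from rfl,
      hco]
    refine (Set.natCard_mul_le).trans ?_
    rw [show Nat.card ↑(Subgroup.zpowers u : Set G) = Nat.card (Subgroup.zpowers u) from rfl, Nat.card_zpowers, hu,
      show Nat.card ↑(D : Set G) = d from rfl, mul_comm]
  -- points fixed by an element of `M` outside `Q`
  have hfree : ∀ g : G, ∀ x y z : Ω, x ≠ y → y ≠ z → x ≠ z → g • x = x → g • y = y → g • z = z → g = 1 := by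
    intro g x y z hxy hyz hxz hgx hgy hgz
    obtain ⟨x₀, rfl⟩ := QuotientGroup.mk_surjective x
    obtain ⟨y₀, rfl⟩ := QuotientGroup.mk_surjective y
    obtain ⟨z₀, rfl⟩ := QuotientGroup.mk_surjective z
    by_contra hg1
    -- move the first point to `a`
    set g' := x₀⁻¹ * g * x₀ with hg'
    have hg'1 : g' ≠ 1 := fun e => hg1 (by simpa [hg', mul_assoc] using congrArg (fun w => x₀ * w * x₀⁻¹) e)
    have hg'M : g' ∈ M := (hfix g x₀).1 hgx
    obtain ⟨w, hw, e, he, hwe⟩ := hmem _ hg'M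
    have hy' : g' • ((x₀⁻¹ * y₀ : G) : Ω) = ((x₀⁻¹ * y₀ : G) : Ω) := (hfix _ _).2 (by
      rw [hg', show (x₀⁻¹ * y₀)⁻¹ * (x₀⁻¹ * g * x₀) * (x₀⁻¹ * y₀) = y₀⁻¹ * g * y₀ by group]
      exact (hfix g y₀).1 hgy)
    have hz' : g' • ((x₀⁻¹ * z₀ : G) : Ω) = ((x₀⁻¹ * z₀ : G) : Ω) := (hfix _ _).2 (by
      rw [hg', show (x₀⁻¹ * z₀)⁻¹ * (x₀⁻¹ * g * x₀) * (x₀⁻¹ * z₀) = z₀⁻¹ * g * z₀ by group]
      exact (hfix g z₀).1 hgz)
    have hya : ((x₀⁻¹ * y₀ : G) : Ω) ≠ a := fun e' => hxy (QuotientGroup.eq.2 (by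
      have := QuotientGroup.eq.1 e'.symm
      simpa using this))
    by_cases he1 : e = 1
    · rw [he1, mul_one] at hwe
      rw [hwe] at hy' hg'1
      exact hya (hQfree w hw hg'1 _ hy')
    -- `g'` is conjugate in `M` to `e`
    have hcm : ∀ u : Q, (u : G) * e * (u : G)⁻¹ * e⁻¹ ∈ Q := fun u => by
      rw [show (u : G) * e * (u : G)⁻¹ * e⁻¹ = u * (e * (u : G)⁻¹ * e⁻¹) by group]
      exact mul_mem u.2 ((Subgroup.mem_normalizer_iff.1 (hDM he) _).1 (inv_mem u.2))
    have hb : Function.Surjective fun u : Q => (⟨(u : G) * e * (u : G)⁻¹ * e⁻¹, hcm u⟩ : Q) := by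
      refine Finite.surjective_of_injective fun u v huv => ?_
      have h1 : (u : G) * e * (u : G)⁻¹ = (v : G) * e * (v : G)⁻¹ := mul_right_cancel (congrArg Subtype.val huv)
      by_contra hne
      have h2 : ((v : G)⁻¹ * u) * e = e * ((v : G)⁻¹ * u) := by
        calc (v : G)⁻¹ * u * e = (v : G)⁻¹ * (u * e * (u : G)⁻¹) * u := by group
          _ = e * ((v : G)⁻¹ * u) := by rw [h1]; group
      have h3 : e ∈ Q := by
        rw [← hCQ _ (mul_mem (inv_mem v.2) u.2) (fun h' => hne (Subtype.ext (inv_mul_eq_one.1 h').symm))]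
        exact Subgroup.mem_centralizer_singleton_iff.2 h2.symm
      exact he1 (Subgroup.disjoint_def.1 hQD' h3 he)
    obtain ⟨u, hu⟩ := hb ⟨w, hw⟩
    have hu' : (u : G) * e * (u : G)⁻¹ = g' := by
      rw [hwe, ← show (u : G) * e * (u : G)⁻¹ * e⁻¹ = w from congrArg Subtype.val hu, inv_mul_cancel_right]
    -- fixed points of `e`
    set P := fun v : Ω => e • v = v
    have hPfix : ∀ v : G, g' • (v : Ω) = (v : Ω) → e • (((u : G)⁻¹ * v : G) : Ω) = (((u : G)⁻¹ * v : G) : Ω) := by
      intro v hv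
      refine (hfix _ _).2 ?_
      rw [show ((u : G)⁻¹ * v)⁻¹ * e * ((u : G)⁻¹ * v) = v⁻¹ * ((u : G) * e * (u : G)⁻¹) * v by group, hu']
      exact (hfix _ _).1 hv
    have hkey : ∀ v : G, e • (v : Ω) = (v : Ω) → ∃ n ∈ Subgroup.normalizer (D : Set G), (n : Ω) = (v : Ω) := by
      intro v hv
      obtain ⟨w', hw', e', he', hwe'⟩ := hmem _ ((hfix e v).1 hv)
      have he'1 : e' ≠ 1 := by
        intro h0
        rw [h0, mul_one] at hwe'
        have hw1 : w' ≠ 1 := fun h0' => he1 (by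
          rw [h0'] at hwe'
          simpa [mul_assoc] using congrArg (fun z => v * z * v⁻¹) hwe')
        have h1 : w' • (((v⁻¹ : G)) : Ω) = ((v⁻¹ : G) : Ω) := (hfix _ _).2 (by
          rw [← hwe', show v⁻¹⁻¹ * (v⁻¹ * e * v) * v⁻¹ = e by group]
          exact hDM he)
        have h2 : v ∈ M := by simpa using QuotientGroup.eq.1 (hQfree w' hw' hw1 _ h1)
        have h3 : e ∈ Q := by
          rw [show e = v * w' * v⁻¹ by rw [← hwe']; group]
          exact (Subgroup.mem_normalizer_iff.1 h2 w').1 hw'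
        exact he1 (Subgroup.disjoint_def.1 hQD' h3 he)
      have hcm' : ∀ z : Q, (z : G) * e' * (z : G)⁻¹ * e'⁻¹ ∈ Q := fun z => by
        rw [show (z : G) * e' * (z : G)⁻¹ * e'⁻¹ = z * (e' * (z : G)⁻¹ * e'⁻¹) by group]
        exact mul_mem z.2 ((Subgroup.mem_normalizer_iff.1 (hDM he') _).1 (inv_mem z.2))
      have hb' : Function.Surjective fun z : Q => (⟨(z : G) * e' * (z : G)⁻¹ * e'⁻¹, hcm' z⟩ : Q) := by
        refine Finite.surjective_of_injective fun z z' hzz => ?_
        have h1 : (z : G) * e' * (z : G)⁻¹ = (z' : G) * e' * (z' : G)⁻¹ :=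
          mul_right_cancel (congrArg Subtype.val hzz)
        by_contra hne
        have h2 : ((z' : G)⁻¹ * z) * e' = e' * ((z' : G)⁻¹ * z) := by
          calc (z' : G)⁻¹ * z * e' = (z' : G)⁻¹ * (z * e' * (z : G)⁻¹) * z := by group
            _ = e' * ((z' : G)⁻¹ * z) := by rw [h1]; group
        have h3 : e' ∈ Q := by
          rw [← hCQ _ (mul_mem (inv_mem z'.2) z.2) (fun h' => hne (Subtype.ext (inv_mul_eq_one.1 h').symm))]
          exact Subgroup.mem_centralizer_singleton_iff.2 h2.symm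
        exact he'1 (Subgroup.disjoint_def.1 hQD' h3 he')
      obtain ⟨z, hz⟩ := hb' ⟨w', hw'⟩
      have hz' : (z : G) * e' * (z : G)⁻¹ = v⁻¹ * e * v := by
        rw [hwe', ← show (z : G) * e' * (z : G)⁻¹ * e'⁻¹ = w' from congrArg Subtype.val hz, inv_mul_cancel_right]
      refine ⟨v * z, ?_, QuotientGroup.eq.2 (by simpa using inv_mem (hQM z.2))⟩
      refine hTI e' he' he'1 (v * z) ?_
      rw [show v * (z : G) * e' * (v * (z : G))⁻¹ = v * ((z : G) * e' * (z : G)⁻¹) * v⁻¹ by group, hz',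
        show v * (v⁻¹ * e * v) * v⁻¹ = e by group]
      exact he
    -- at most two such points
    set N := Subgroup.normalizer (D : Set G)
    cases nonempty_fintype G
    let im : Finset Ω := (Finset.univ.filter fun n : G => n ∈ N).image fun n : G => (n : Ω)
    have him : im.card ≤ 2 := by
      have h5 : im.card * d ≤ Nat.card N := by
        rw [show Nat.card N = (Finset.univ.filter fun n : G => n ∈ N).card by
          rw [Nat.card_eq_fintype_card]; exact Fintype.card_subtype _,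
          Finset.card_eq_sum_card_fiberwise (t := im) (f := fun n : G => (n : Ω))
            (fun n hn => Finset.mem_image_of_mem _ hn),
          ← smul_eq_mul, ← Finset.sum_const]
        refine Finset.sum_le_sum fun v hv => ?_
        obtain ⟨n, hn', rfl⟩ := Finset.mem_image.1 hv
        have hn := (Finset.mem_filter.1 hn').2
        rw [hd, Nat.card_eq_fintype_card]
        refine (Finset.card_le_card_of_injOn (s := Finset.univ) (fun z : D => n * (z : G)) (fun z _ => ?_)
          (fun z _ z' _ hzz => Subtype.ext (mul_left_cancel hzz))).trans le_rfl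
        refine Finset.mem_filter.2 ⟨Finset.mem_filter.2 ⟨Finset.mem_univ _,
          mul_mem hn (Subgroup.le_normalizer z.2)⟩, ?_⟩
        exact QuotientGroup.eq.2 (by simpa using inv_mem (hDM z.2))
      exact Nat.le_of_mul_le_mul_right (h5.trans hND) hd0
    have h3 : ({(((u : G)⁻¹ * 1 : G) : Ω), (((u : G)⁻¹ * (x₀⁻¹ * y₀) : G) : Ω),
        (((u : G)⁻¹ * (x₀⁻¹ * z₀) : G) : Ω)} : Finset Ω).card = 3 := by
      have hsm : ∀ v : G, (((u : G)⁻¹ * v : G) : Ω) = (u : G)⁻¹ • (v : Ω) := fun v => rfl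
      simp only [hsm]
      have hza : ((x₀⁻¹ * z₀ : G) : Ω) ≠ a := fun e' => hxz (QuotientGroup.eq.2 (by
        simpa using QuotientGroup.eq.1 e'.symm))
      have hyz' : ((x₀⁻¹ * y₀ : G) : Ω) ≠ ((x₀⁻¹ * z₀ : G) : Ω) := fun e' => hyz (QuotientGroup.eq.2 (by
        simpa [mul_assoc] using QuotientGroup.eq.1 e'))
      have hinjs := MulAction.injective (β := Ω) (u : G)⁻¹
      rw [Finset.card_insert_of_notMem, Finset.card_pair]
      · exact fun e' => hyz' (hinjs e')
      · simp only [Finset.mem_insert, Finset.mem_singleton, not_or]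
        exact ⟨fun e' => hya (hinjs e').symm, fun e' => hza (hinjs e').symm⟩
    have h4 : ({(((u : G)⁻¹ * 1 : G) : Ω), (((u : G)⁻¹ * (x₀⁻¹ * y₀) : G) : Ω),
        (((u : G)⁻¹ * (x₀⁻¹ * z₀) : G) : Ω)} : Finset Ω) ⊆ im := by
      intro v hv
      simp only [Finset.mem_insert, Finset.mem_singleton] at hv
      have hout : ∀ v : Ω, (∃ n ∈ N, (n : Ω) = v) → v ∈ im := fun v ⟨n, hn, he'⟩ =>
        Finset.mem_image.2 ⟨n, Finset.mem_filter.2 ⟨Finset.mem_univ _, hn⟩, he'⟩
      rcases hv with rfl | rfl | rfl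
      · exact hout _ (hkey _ (hPfix 1 ((hfix _ _).2 (by simpa using hg'M))))
      · exact hout _ (hkey _ (hPfix _ hy'))
      · exact hout _ (hkey _ (hPfix _ hz'))
    have h5 := Finset.card_le_card h4
    omega
  haveI htr : MulAction.IsPretransitive G Ω := inferInstance
  have h2t : MulAction.IsMultiplyPretransitive G Ω 2 := by
    rw [MulAction.is_two_pretransitive_iff]
    intro x y z w hxy hzw
    obtain ⟨g₁, hg₁⟩ := MulAction.exists_smul_eq G x a
    obtain ⟨g₂, hg₂⟩ := MulAction.exists_smul_eq G z a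
    obtain ⟨u, hu, -⟩ := hreg (g₁ • y) (g₂ • w)
      (fun e => hxy (MulAction.injective g₁ (hg₁.trans e.symm)))
      (fun e => hzw (MulAction.injective g₂ (hg₂.trans e.symm)))
    refine ⟨g₂⁻¹ * (u : G) * g₁, ?_, ?_⟩
    · rw [mul_smul, mul_smul, hg₁, hQa _ u.2, inv_smul_eq_iff, hg₂]
    · rw [mul_smul, mul_smul, hu, inv_smul_smul]
  have hfaith : FaithfulSMul G Ω := by
    have hker : (MulAction.toPermHom G Ω).ker = ⊥ := by
      rcases (MonoidHom.normal_ker (MulAction.toPermHom G Ω)).eq_bot_or_eq_top with e | e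
      · exact e
      · exfalso
        have h1 : M = ⊤ := by
          rw [eq_top_iff]
          intro g _
          rw [← hstab]
          have h2 : g ∈ (MulAction.toPermHom G Ω).ker := e ▸ Subgroup.mem_top g
          exact DFunLike.congr_fun (MonoidHom.mem_ker.1 h2) a
        rw [h1, Subgroup.index_top] at hindex
        omega
    refine ⟨fun {g₁ g₂} hgg => ?_⟩
    have hperm : MulAction.toPermHom G Ω g₁ = MulAction.toPermHom G Ω g₂ := Equiv.ext hgg
    exact (MonoidHom.ker_eq_bot_iff _).1 hker hperm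
  obtain ⟨⟨e₀, he₀⟩, he₀1⟩ := (Subgroup.ne_bot_iff_exists_ne_one).1 hDne
  have he₀' : e₀ ≠ 1 := fun e => he₀1 (Subtype.ext e)
  obtain ⟨-, u₀, hu₀, hu₀D, -, hNu⟩ := hN D le_rfl hDne
  have hu₀N : u₀ ∈ Subgroup.normalizer (D : Set G) := hNu ▸ Subgroup.mem_sup_right (Subgroup.mem_zpowers u₀)
  have hu₀M : u₀ ∉ M := by
    intro hh
    obtain ⟨x, hx, e, he, hxe⟩ := hmem _ hh
    -- an involution of `M` centralizes no element of `Q`
    have hx1 : x = 1 := by
      by_contra hx1
      have hcomm : x * e₀ * x⁻¹ ∈ D := by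
        have h1 := (Subgroup.mem_normalizer_iff.1 hu₀N e₀).1 he₀
        rw [hxe, show x * e * e₀ * (x * e)⁻¹ = x * (e * e₀ * e⁻¹) * x⁻¹ by group] at h1
        haveI := hDab
        rwa [show e * e₀ * e⁻¹ = e₀ by
          rw [show e * e₀ = e₀ * e from congrArg Subtype.val (mul_comm' (⟨e, he⟩ : D) ⟨e₀, he₀⟩), mul_inv_cancel_right]] at h1
      have hxN := hTI e₀ he₀ he₀' x hcomm
      have h2 : x * e₀ * x⁻¹ * e₀⁻¹ ∈ D := mul_mem hcomm (inv_mem he₀)
      have h3 : x * e₀ * x⁻¹ * e₀⁻¹ ∈ Q := by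
        rw [show x * e₀ * x⁻¹ * e₀⁻¹ = x * (e₀ * x⁻¹ * e₀⁻¹) by group]
        exact mul_mem hx ((Subgroup.mem_normalizer_iff.1 (hDM he₀) _).1 (inv_mem hx))
      have h4 := Subgroup.disjoint_def.1 hQD' h3 h2
      have h5 : e₀ ∈ Q := by
        rw [← hCQ x hx hx1]
        exact Subgroup.mem_centralizer_singleton_iff.2 (mul_inv_eq_iff_eq_mul.1 (mul_inv_eq_one.1 h4)).symm
      exact he₀' (Subgroup.disjoint_def.1 hQD' h5 he₀)
    rw [hx1, one_mul] at hxe
    exact hu₀D (hxe ▸ he)
  have hb : a ≠ (u₀ : Ω) := fun e => hu₀M (by simpa using QuotientGroup.eq.1 e)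
  have hHstab : MulAction.stabilizer G a ⊓ MulAction.stabilizer G (u₀ : Ω) ≥ D := by
    intro z hz
    refine ⟨hstab.symm ▸ hDM hz, (hfix z u₀).2 (hDM ?_)⟩
    exact (Subgroup.mem_normalizer_iff''.1 hu₀N z).1 hz
  have hZ : Cfsg.IsZassenhausGroup G Ω := by
    refine ⟨hfaith, h2t, hfree, ⟨e₀, he₀', a, u₀, hb, (hHstab he₀).1, (hHstab he₀).2⟩, fun N hNn hNt => ?_⟩
    rcases hNn.eq_bot_or_eq_top with rfl | rfl
    · exfalso
      obtain ⟨⟨n, hn⟩, hne⟩ := hNt.exists_smul_eq a (u₀ : Ω)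
      rw [Subgroup.mem_bot] at hn
      subst hn
      exact hb (by simpa using hne)
    · refine ⟨a, fun hbot => he₀' ?_⟩
      have h1 : (⟨e₀, Subgroup.mem_top _⟩ : (⊤ : Subgroup G)) ∈ MulAction.stabilizer (⊤ : Subgroup G) a :=
        (hHstab he₀).1
      exact congrArg Subtype.val (Subgroup.mem_bot.1 (le_of_eq hbot h1))
  let S : CfsgLib.Perm.ZGroup.Setup G Ω a (u₀ : Ω) :=
    { hZ := hZ
      hab := hb
      F := Q
      hle := fun x hx => hQa x hx
      hnorm := by
        rw [hstab]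
        exact Subgroup.normal_in_normalizer
      hreg := hreg }
  have hFab : IsMulCommutative S.F := ⟨⟨fun x y => Subtype.ext (by
    by_cases hy : (y : G) = 1
    · simp [hy]
    · have hx : (x : G) ∈ Q := x.2
      rw [← hCQ _ y.2 hy] at hx
      exact Subgroup.mem_centralizer_singleton_iff.1 hx)⟩⟩
  have hFc : Nat.card S.F = 2 * d + 1 := hqd.symm
  have hHc : Nat.card S.H = d := by
    have h1 := S.card_stab
    rw [hstab, hMcard, hFc] at h1
    exact (Nat.eq_of_mul_eq_mul_left (by omega) h1).symm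
  obtain ⟨p, f, F, iF, iFt, hp, hp2, hcardF, -, hiso⟩ := CfsgLib.Perm.ZGroup.psl_of_half S hFab (by
    rw [hHc, hFc, Nat.add_sub_cancel])
  refine ⟨F, iF, iFt, ?_, hiso⟩
  rw [hcardF]
  exact (hp.odd_of_ne_two hp2).pow

/-- A cyclic subgroup of index two of a dihedral group is inverted by the elements outside it. -/
lemma dihedral_cyclic_inverts {n : ℕ} (hn : 2 ≤ n) (R : Subgroup (DihedralGroup n)) (hR : IsCyclic R)
    (hRc : Nat.card R = n) {x : DihedralGroup n} (hx : x ∉ R) :
    x * x = 1 ∧ ∀ r ∈ R, x * r * x⁻¹ = r⁻¹ := by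
  haveI : NeZero n := ⟨by omega⟩
  obtain ⟨⟨g, hg⟩, hgen⟩ := hR.exists_generator
  have hgo : orderOf g = n := by
    have h0 := orderOf_eq_card_of_forall_mem_zpowers hgen
    rw [Subgroup.orderOf_mk] at h0
    exact h0.trans hRc
  have hRg : R = Subgroup.zpowers g := by
    refine le_antisymm (fun r hr => ?_) (Subgroup.zpowers_le.2 hg)
    obtain ⟨k, hk⟩ := Subgroup.mem_zpowers_iff.1 (hgen ⟨r, hr⟩)
    exact Subgroup.mem_zpowers_iff.2 ⟨k, congrArg Subtype.val hk⟩
  subst hRg
  rcases hn.eq_or_lt with h2 | h2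
  · subst h2
    refine ⟨?_, fun r hr => ?_⟩
    · have hall : ∀ x : DihedralGroup 2, x * x = 1 := by decide
      exact hall x
    · have hall : ∀ x r : DihedralGroup 2, x * r * x⁻¹ = r⁻¹ := by decide
      exact hall x r
  have hgr : ∃ i, g = DihedralGroup.r i := by
    rcases g with i | i
    · exact ⟨i, rfl⟩
    · rw [DihedralGroup.orderOf_sr] at hgo; omega
  obtain ⟨i, rfl⟩ := hgr
  have hsub : ∀ r ∈ Subgroup.zpowers (DihedralGroup.r i), ∃ j, r = DihedralGroup.r j := by
    intro r hr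
    obtain ⟨k, rfl⟩ := Subgroup.mem_zpowers_iff.1 hr
    exact ⟨_, DihedralGroup.r_zpow i k⟩
  have hsr : ∃ j, x = DihedralGroup.sr j := by
    rcases x with j | j
    · exfalso
      refine hx ?_
      have hcard : Subgroup.zpowers (DihedralGroup.r i) = Subgroup.zpowers (DihedralGroup.r (1 : ZMod n)) := by
        refine Subgroup.eq_of_le_of_card_ge (Subgroup.zpowers_le.2 ?_) ?_
        · exact Subgroup.mem_zpowers_iff.2 ⟨(i.val : ℤ), by
            rw [zpow_natCast, DihedralGroup.r_one_pow, ZMod.natCast_zmod_val]⟩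
        · rw [Nat.card_zpowers, Nat.card_zpowers, DihedralGroup.orderOf_r_one, hgo]
      rw [hcard]
      exact Subgroup.mem_zpowers_iff.2 ⟨(j.val : ℤ), by
        rw [zpow_natCast, DihedralGroup.r_one_pow, ZMod.natCast_zmod_val]⟩
    · exact ⟨j, rfl⟩
  obtain ⟨j, rfl⟩ := hsr
  refine ⟨DihedralGroup.sr_mul_self j, fun r hr => ?_⟩
  obtain ⟨k, rfl⟩ := hsub r hr
  simp only [DihedralGroup.inv_sr, DihedralGroup.sr_mul_r, DihedralGroup.sr_mul_sr, DihedralGroup.inv_r]
  congr 1
  ring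

omit [Finite G] in
/-- Central involutions of a dihedral group lie in a cyclic subgroup of index two. -/
lemma exists_cyclic_index_two {n : ℕ} (hn : 2 ≤ n) (ht2 : Even n) {z : DihedralGroup n} (hz : orderOf z = 2)
    (hzc : ∀ g, g * z = z * g) :
    ∃ R : Subgroup (DihedralGroup n), IsCyclic R ∧ Nat.card R = n ∧ z ∈ R := by
  haveI : NeZero n := ⟨by omega⟩
  rcases hn.eq_or_lt with h2 | h2
  · exact ⟨Subgroup.zpowers z, Subgroup.isCyclic_zpowers z, by rw [Nat.card_zpowers, hz, h2],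
      Subgroup.mem_zpowers z⟩
  refine ⟨Subgroup.zpowers (DihedralGroup.r (1 : ZMod n)), Subgroup.isCyclic_zpowers _, by
    rw [Nat.card_zpowers, DihedralGroup.orderOf_r_one], ?_⟩
  rcases z with j | j
  · exact Subgroup.mem_zpowers_iff.2 ⟨(j.val : ℤ), by
      rw [zpow_natCast, DihedralGroup.r_one_pow, ZMod.natCast_zmod_val]⟩
  · exfalso
    have h1 := hzc (DihedralGroup.r 1)
    simp only [DihedralGroup.r_mul_sr, DihedralGroup.sr_mul_r, DihedralGroup.sr.injEq] at h1
    have h2' : ((2 : ℕ) : ZMod n) = 0 := by push_cast; linear_combination -h1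
    have := Nat.le_of_dvd two_pos ((ZMod.natCast_eq_zero_iff 2 n).1 h2')
    omega

/-- In a cyclic group an involution is unique. -/
lemma cyclic_invol_unique {R : Subgroup G} (hR : IsCyclic R) {x y : G} (hx : x ∈ R) (hy : y ∈ R)
    (hxo : orderOf x = 2) (hyo : orderOf y = 2) : x = y := by
  haveI := hR
  haveI := Fintype.ofFinite R
  have hx1 : orderOf (⟨x, hx⟩ : R) = 2 := by rw [Subgroup.orderOf_mk, hxo]
  have hy1 : orderOf (⟨y, hy⟩ : R) = 2 := by rw [Subgroup.orderOf_mk, hyo]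
  have h2 : 2 ∣ Fintype.card R := hx1 ▸ orderOf_dvd_card
  have h3 := IsCyclic.card_orderOf_eq_totient h2
  rw [Nat.totient_two, Finset.card_eq_one] at h3
  obtain ⟨w, hw⟩ := h3
  have e1 : (⟨x, hx⟩ : R) = w := Finset.mem_singleton.1 (hw ▸ Finset.mem_filter.2 ⟨Finset.mem_univ _, hx1⟩)
  have e2 : (⟨y, hy⟩ : R) = w := Finset.mem_singleton.1 (hw ▸ Finset.mem_filter.2 ⟨Finset.mem_univ _, hy1⟩)
  exact congrArg Subtype.val (e1.trans e2.symm)

theorem psl_of_dihedral [IsSimpleGroup G] (S : Sylow 2 G) (n : ℕ)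
    (hn : 2 ≤ n) (hS : Nonempty ((S : Subgroup G) ≃* DihedralGroup n)) (t : G) (ht : orderOf t = 2)
    (htS : t ∈ (S : Subgroup G))
    (htZ : ∀ s ∈ (S : Subgroup G), s * t = t * s) (O : Subgroup G)
    (hO : O = (Cfsg.oddCore (Subgroup.centralizer ({t} : Set G))).map (Subgroup.centralizer ({t} : Set G)).subtype)
    (ha : O ≠ ⊥ → IsCyclic ((S : Subgroup G) ⊓ Subgroup.centralizer (O : Set G) : Subgroup G) ∧
      ((S : Subgroup G) ⊓ Subgroup.centralizer (O : Set G)).relIndex (S : Subgroup G) = 2)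
    (hb : ∀ s ∈ (S : Subgroup G), s ∉ Subgroup.centralizer (O : Set G) → ∀ y ∈ O, s * y * s⁻¹ = y⁻¹)
    (hc : ∀ Y : Subgroup G, Y ≤ O → Y ≠ ⊥ → Subgroup.normalizer (Y : Set G) ≤ Subgroup.centralizer ({t} : Set G)) :
    ∃ (F : Type) (_ : Field F) (_ : Fintype F), Odd (Fintype.card F) ∧
      Nonempty (G ≃* Matrix.ProjectiveSpecialLinearGroup (Fin 2) F) := by
  haveI : Fact (Nat.Prime 2) := ⟨Nat.prime_two⟩
  obtain ⟨φ⟩ := hS
  set C := Subgroup.centralizer ({t} : Set G) with hC
  have hScard : Nat.card (S : Subgroup G) = 2 * n := by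
    rw [Nat.card_congr φ.toEquiv, DihedralGroup.nat_card]
  obtain ⟨m, hm⟩ := IsPGroup.iff_card.1 S.2
  obtain ⟨m, rfl⟩ : ∃ m', m = m' + 1 := ⟨m - 1, by
    rcases m with _ | m
    · rw [hScard, pow_zero] at hm; omega
    · omega⟩
  have hn2 : n = 2 ^ m := by rw [hScard, pow_succ] at hm; omega
  have heven : Even n := by
    rw [hn2, Nat.even_pow]
    refine ⟨even_two, ?_⟩
    rintro rfl
    norm_num at hn2
    omega
  have hSC : (S : Subgroup G) ≤ C := fun s hs => Subgroup.mem_centralizer_singleton_iff.2 (htZ s hs)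
  -- `C = O S`
  have hOC : O ≤ C := by rw [hO]; exact Subgroup.map_subtype_le _
  have hOodd : Odd (Nat.card O) := by
    rw [hO, Subgroup.card_map_of_injective C.subtype_injective]
    exact CfsgLib.Involution.ZStar.odd_card_oddCore
  have hOS : ∀ x ∈ O, x ∈ (S : Subgroup G) → x = 1 := by
    intro x hxO hxS
    have h1 : orderOf x ∣ Nat.card O := by
      have := orderOf_dvd_natCard (⟨x, hxO⟩ : O); rwa [Subgroup.orderOf_mk] at this
    have h2 : orderOf x ∣ 2 ^ (m + 1) := by
      have := orderOf_dvd_natCard (⟨x, hxS⟩ : (S : Subgroup G)); rwa [Subgroup.orderOf_mk, hm] at this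
    exact orderOf_eq_one_iff.1 (Nat.eq_one_of_dvd_coprimes
      ((Nat.coprime_two_right.2 hOodd).pow_right _) h1 h2)
  have hOn : ∀ c ∈ C, ∀ y ∈ O, c * y * c⁻¹ ∈ O := by
    intro c hc' y hy
    rw [hO] at hy ⊢
    obtain ⟨⟨y, hyC⟩, hy', rfl⟩ := hy
    exact ⟨_, (CfsgLib.Involution.ZStar.oddCore_normal).conj_mem _ hy' ⟨c, hc'⟩, rfl⟩
  have hCOS : ∀ c ∈ C, ∃ o ∈ O, ∃ s ∈ (S : Subgroup G), c = o * s := by
    obtain ⟨N, hNn, hNodd, k, hk⟩ := Cfsg.Agent.S0514.result S n hn ⟨φ⟩ t ht
    have hNle : Nat.card N ≤ Nat.card O := by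
      rw [hO, Subgroup.card_map_of_injective C.subtype_injective]
      exact Subgroup.card_le_of_le (CfsgLib.Involution.ZStar.le_oddCore hNn hNodd)
    have hkle : 2 ^ k ≤ Nat.card (S : Subgroup G) := by
      refine Nat.le_of_dvd Nat.card_pos ?_
      rw [S.card_eq_multiplicity]
      refine (Nat.Prime.pow_dvd_iff_dvd_ordProj Nat.prime_two Nat.card_pos.ne').1 ?_
      exact hk ▸ (Subgroup.index_dvd_card N).trans (Subgroup.card_subgroup_dvd_card C)
    intro c hc'
    let f : O × (S : Subgroup G) → C := fun p => ⟨(p.1 : G) * p.2, mul_mem (hOC p.1.2) (hSC p.2.2)⟩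
    have hf : Function.Injective f := by
      rintro ⟨o, s⟩ ⟨o', s'⟩ e
      have e1 : (o : G) * s = (o' : G) * s' := congrArg Subtype.val e
      have e2 : (o' : G)⁻¹ * o = (s' : G) * (s : G)⁻¹ := by
        rw [inv_mul_eq_iff_eq_mul, ← mul_assoc, ← e1, mul_inv_cancel_right]
      have e3 := hOS _ (mul_mem (inv_mem o'.2) o.2) (e2 ▸ mul_mem s'.2 (inv_mem s.2))
      rw [e3] at e2
      exact Prod.ext (Subtype.ext (inv_mul_eq_one.1 e3).symm) (Subtype.ext (mul_inv_eq_one.1 e2.symm).symm)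
    have hle : Nat.card C ≤ Nat.card (O × (S : Subgroup G)) := by
      rw [Nat.card_prod, ← Subgroup.card_mul_index N, hk]
      exact Nat.mul_le_mul hNle hkle
    obtain ⟨⟨o, s⟩, e⟩ := (hf.bijective_of_nat_card_le hle).2 ⟨c, hc'⟩
    exact ⟨o, o.2, s, s.2, (congrArg Subtype.val e).symm⟩
  -- the cyclic part
  obtain ⟨R, hRS, hRcyc, hRcard, htR, hRO⟩ : ∃ R : Subgroup G, R ≤ (S : Subgroup G) ∧ IsCyclic R ∧
      Nat.card R = n ∧ t ∈ R ∧ ∀ r ∈ R, ∀ y ∈ O, r * y = y * r := by
    by_cases hO1 : O = ⊥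
    · obtain ⟨R, hR, hRc, hzR⟩ := exists_cyclic_index_two hn heven (z := φ ⟨t, htS⟩)
        (by rw [φ.orderOf_eq, Subgroup.orderOf_mk, ht])
        (fun g => φ.symm.injective (by
          rw [map_mul, map_mul, φ.symm_apply_apply]
          exact Subtype.ext (htZ _ (φ.symm g).2)))
      let ψ : DihedralGroup n →* G := (S : Subgroup G).subtype.comp φ.symm.toMonoidHom
      have hψ : Function.Injective ψ := Subtype.val_injective.comp φ.symm.injective
      refine ⟨R.map ψ, ?_, ?_, ?_, ⟨_, hzR, ?_⟩, ?_⟩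
      · rintro _ ⟨r, -, rfl⟩; exact (φ.symm r).2
      · exact isCyclic_of_surjective (Subgroup.equivMapOfInjective R ψ hψ).toMonoidHom
          (Subgroup.equivMapOfInjective R ψ hψ).surjective
      · rw [Subgroup.card_map_of_injective hψ, hRc]
      · show ((φ.symm (φ ⟨t, htS⟩) : (S : Subgroup G)) : G) = t
        rw [φ.symm_apply_apply]
      · intro r _ y hy
        rw [hO1, Subgroup.mem_bot] at hy
        rw [hy, mul_one, one_mul]
    · obtain ⟨hcyc, hidx⟩ := ha hO1
      refine ⟨_, inf_le_left, hcyc, ?_, Subgroup.mem_inf.2 ⟨htS, ?_⟩, fun r hr y hy =>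
        (Subgroup.mem_centralizer_iff.1 (Subgroup.mem_inf.1 hr).2 y hy).symm⟩
      · have h1 := Subgroup.card_mul_index
          (((S : Subgroup G) ⊓ Subgroup.centralizer (O : Set G)).subgroupOf (S : Subgroup G))
        rw [Nat.card_congr (Subgroup.subgroupOfEquivOfLe inf_le_left).toEquiv] at h1
        change _ * Subgroup.relIndex _ _ = _ at h1
        rw [hidx, hScard] at h1
        omega
      · exact Subgroup.mem_centralizer_iff.2 fun y hy => Subgroup.mem_centralizer_singleton_iff.1 (hOC hy)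
  obtain ⟨s, hsS, hsR⟩ : ∃ s ∈ (S : Subgroup G), s ∉ R := by
    by_contra hcon
    push Not at hcon
    have := Subgroup.card_le_of_le (show (S : Subgroup G) ≤ R from hcon)
    omega
  have hSinv : ∀ x ∈ (S : Subgroup G), x ∉ R → x * x = 1 ∧ ∀ r ∈ R, x * r * x⁻¹ = r⁻¹ := by
    intro x hx hxR
    obtain ⟨h1, h2⟩ := dihedral_cyclic_inverts hn ((R.subgroupOf (S : Subgroup G)).map φ.toMonoidHom) (by
        haveI := hRcyc
        let e := (Subgroup.subgroupOfEquivOfLe hRS).symm.trans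
          (Subgroup.equivMapOfInjective (R.subgroupOf (S : Subgroup G)) φ.toMonoidHom φ.injective)
        exact isCyclic_of_surjective e.toMonoidHom e.surjective)
      (by rw [Subgroup.card_map_of_injective (by exact φ.injective),
        Nat.card_congr (Subgroup.subgroupOfEquivOfLe hRS).toEquiv, hRcard])
      (x := φ ⟨x, hx⟩) (fun ⟨w, hw, e⟩ => hxR (by
        have := φ.injective e
        rw [this] at hw
        exact hw))
    refine ⟨congrArg Subtype.val (φ.injective (show φ (⟨x, hx⟩ * ⟨x, hx⟩) = φ 1 by rw [map_mul, map_one, h1])),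
      fun r hr => ?_⟩
    exact congrArg Subtype.val (φ.injective (show φ (⟨x, hx⟩ * ⟨r, hRS hr⟩ * (⟨x, hx⟩ : (S : Subgroup G))⁻¹) =
      φ (⟨r, hRS hr⟩ : (S : Subgroup G))⁻¹ by
      rw [map_mul, map_mul, map_inv, map_inv]
      exact h2 _ ⟨⟨r, hRS hr⟩, hr, rfl⟩))
  have hsO : ∀ x ∈ (S : Subgroup G), x ∉ R → ∀ y ∈ O, x * y * x⁻¹ = y⁻¹ := by
    intro x hx hxR y hy
    by_cases hO1 : O = ⊥
    · rw [hO1, Subgroup.mem_bot] at hy
      rw [hy, mul_one, mul_inv_cancel, inv_one]
    · refine hb x hx (fun hxc => hxR ?_) y hy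
      have heq : R = (S : Subgroup G) ⊓ Subgroup.centralizer (O : Set G) := by
        refine Subgroup.eq_of_le_of_card_ge
          (fun r hr => Subgroup.mem_inf.2 ⟨hRS hr, Subgroup.mem_centralizer_iff.2 fun y hy => (hRO r hr y hy).symm⟩) ?_
        obtain ⟨-, hidx⟩ := ha hO1
        have h1 := Subgroup.card_mul_index
          (((S : Subgroup G) ⊓ Subgroup.centralizer (O : Set G)).subgroupOf (S : Subgroup G))
        rw [Nat.card_congr (Subgroup.subgroupOfEquivOfLe inf_le_left).toEquiv] at h1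
        change _ * Subgroup.relIndex _ _ = _ at h1
        rw [hidx, hScard] at h1
        omega
      rw [heq]
      exact Subgroup.mem_inf.2 ⟨hx, hxc⟩
  have hOab : ∀ x ∈ O, ∀ y ∈ O, x * y = y * x := by
    intro x hx y hy
    have h1 := hsO s hsS hsR (x * y) (mul_mem hx hy)
    rw [show s * (x * y) * s⁻¹ = s * x * s⁻¹ * (s * y * s⁻¹) by group, hsO s hsS hsR x hx, hsO s hsS hsR y hy,
      ← mul_inv_rev, inv_inj] at h1
    exact h1.symm
  have hRab : ∀ x ∈ R, ∀ y ∈ R, x * y = y * x := fun x hx y hy => by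
    haveI := hRcyc
    exact congrArg Subtype.val ((IsCyclic.commGroup (α := R)).mul_comm ⟨x, hx⟩ ⟨y, hy⟩)
  have hswap : ∀ o ∈ O, ∀ r ∈ R, ∀ o' ∈ O, ∀ r' ∈ R, o * r * (o' * r') = o * o' * (r * r') := by
    intro o _ r hr o' ho' r' _
    rw [mul_assoc, ← mul_assoc r o' r', hRO r hr o' ho', mul_assoc, mul_assoc o o']
  let K : Subgroup G :=
    { carrier := {x | ∃ o ∈ O, ∃ r ∈ R, x = o * r}
      one_mem' := ⟨1, O.one_mem, 1, R.one_mem, (one_mul 1).symm⟩
      mul_mem' := by
        rintro _ _ ⟨o, ho, r, hr, rfl⟩ ⟨o', ho', r', hr', rfl⟩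
        exact ⟨_, mul_mem ho ho', _, mul_mem hr hr', hswap o ho r hr o' ho' r' hr'⟩
      inv_mem' := by
        rintro _ ⟨o, ho, r, hr, rfl⟩
        exact ⟨_, inv_mem ho, _, inv_mem hr, by rw [mul_inv_rev, hRO _ (inv_mem hr) _ (inv_mem ho)]⟩ }
  have hRK : ∀ r ∈ R, r ∈ K := fun r hr => ⟨1, O.one_mem, r, hr, (one_mul r).symm⟩
  have hOK : ∀ o ∈ O, o ∈ K := fun o ho => ⟨o, ho, 1, R.one_mem, (mul_one o).symm⟩
  have hKab : ∀ x ∈ K, ∀ y ∈ K, x * y = y * x := by
    rintro _ ⟨o, ho, r, hr, rfl⟩ _ ⟨o', ho', r', hr', rfl⟩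
    rw [hswap o ho r hr o' ho' r' hr', hswap o' ho' r' hr' o ho r hr, hOab o ho o' ho', hRab r hr r' hr']
  have hKC : K ≤ C := by
    rintro _ ⟨o, ho, r, hr, rfl⟩
    exact mul_mem (hOC ho) (hSC (hRS hr))
  have hunique : ∀ o ∈ O, ∀ r ∈ R, o * r = 1 → o = 1 ∧ r = 1 := by
    intro o ho r hr e
    have h1 : o = r⁻¹ := mul_eq_one_iff_eq_inv.1 e
    have h2 := hOS o ho (h1 ▸ inv_mem (hRS hr))
    exact ⟨h2, by rw [h2, one_mul] at e; exact e⟩
  have hsK : s ∉ K := by
    rintro ⟨o, ho, r, hr, e⟩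
    have h1 : o = s * r⁻¹ := by rw [e, mul_inv_cancel_right]
    have h2 := hOS o ho (h1 ▸ mul_mem hsS (inv_mem (hRS hr)))
    rw [h2, one_mul] at e
    exact hsR (e ▸ hr)
  have hs2 : orderOf s = 2 := orderOf_eq_two (hSinv s hsS hsR).1 (fun e => hsR (e ▸ R.one_mem))
  have hsinvK : ∀ x ∈ K, s * x * s⁻¹ = x⁻¹ := by
    rintro _ ⟨o, ho, r, hr, rfl⟩
    rw [show s * (o * r) * s⁻¹ = s * o * s⁻¹ * (s * r * s⁻¹) by group, hsO s hsS hsR o ho,
      (hSinv s hsS hsR).2 r hr, mul_inv_rev, hRO _ (inv_mem hr) _ (inv_mem ho)]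
  have hKinvol : ∀ x ∈ K, x * x = 1 → x = 1 ∨ x = t := by
    rintro _ ⟨o, ho, r, hr, rfl⟩ he
    rw [hswap o ho r hr o ho r hr] at he
    obtain ⟨h1, h2⟩ := hunique _ (mul_mem ho ho) _ (mul_mem hr hr) he
    have ho1 : o = 1 := orderOf_eq_one_iff.1 (Nat.eq_one_of_dvd_coprimes
      (show (Nat.card O).Coprime 2 from Nat.coprime_two_right.2 hOodd)
      (by have := orderOf_dvd_natCard (⟨o, ho⟩ : O); rwa [Subgroup.orderOf_mk] at this)
      (orderOf_dvd_of_pow_eq_one (by rw [sq, h1])))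
    rw [ho1, one_mul]
    by_cases hr1 : r = 1
    · exact Or.inl hr1
    · exact Or.inr (cyclic_invol_unique hRcyc hr htR (orderOf_eq_two h2 hr1) ht)
  have hone : ∀ x y : G, orderOf x = 2 → orderOf y = 2 → IsConj x y := by
    intro x y hx hy
    have hnc : ¬ IsMulCommutative G := by
      intro hcomm
      haveI := hcomm
      letI : CommGroup G := { (inferInstance : Group G) with mul_comm := fun a b => mul_comm' a b }
      have hp := IsSimpleGroup.prime_card (α := G)
      have h4 : 2 * n ∣ Nat.card G := hScard ▸ Subgroup.card_subgroup_dvd_card _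
      rcases (Nat.dvd_prime hp).1 h4 with e | e
      · omega
      · rw [← e] at hp
        exact Nat.not_prime_mul (by omega) (by omega) hp
    by_cases hm1 : m = 1
    · subst hm1
      have hP4 : Nat.card S = 4 := by
        rw [show Nat.card S = Nat.card (S : Subgroup G) from rfl, hm]; norm_num
      cases nonempty_fintype G
      refine CfsgLib.Blocks.FourGroup.isConj_involutions hP4 (fun z => φ.injective (by
        rw [map_mul, map_one]
        have hn' : n = 2 := by rw [hn2]; norm_num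
        subst hn'
        have hall : ∀ w : DihedralGroup 2, w * w = 1 := by decide
        exact hall _)) ?_ hx hy
      rintro ⟨P, N, hNn, hNP⟩
      have hc := hNP.card_mul_card
      have hP : Nat.card (P : Subgroup G) = 4 := by
        rw [P.card_eq_multiplicity, ← S.card_eq_multiplicity, hm]; norm_num
      rcases hNn.eq_bot_or_eq_top with rfl | rfl
      · rw [Subgroup.card_bot, hP, one_mul] at hc
        refine hnc ⟨⟨fun a b => ?_⟩⟩
        have hS' : (S : Subgroup G) = ⊤ := Subgroup.eq_top_of_card_eq _ (by rw [hm, ← hc]; norm_num)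
        have ha' : a ∈ (S : Subgroup G) := hS' ▸ Subgroup.mem_top a
        have hb' : b ∈ (S : Subgroup G) := hS' ▸ Subgroup.mem_top b
        refine congrArg Subtype.val (φ.injective (a₁ := ⟨a, ha'⟩ * ⟨b, hb'⟩) (a₂ := ⟨b, hb'⟩ * ⟨a, ha'⟩) ?_)
        rw [map_mul, map_mul]
        have hn' : n = 2 := by rw [hn2]; norm_num
        subst hn'
        have hall : ∀ v w : DihedralGroup 2, v * w = w * v := by decide
        exact hall _ _
      · rw [Subgroup.card_top, hP] at hc
        have : 0 < Nat.card G := Nat.card_pos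
        omega
    · have hm2 : 2 ≤ m := by
        rcases m with _ | m
        · rw [hn2] at hn; norm_num at hn
        · omega
      haveI : Group.IsPerfect G := ⟨by
        rcases (Subgroup.Normal.eq_bot_or_eq_top (inferInstance : (commutator G).Normal)) with e | e
        · exact absurd ⟨⟨fun a b => commutatorElement_eq_one_iff_mul_comm.1 (Subgroup.mem_bot.1 (e ▸
            Subgroup.commutator_mem_commutator (Subgroup.mem_top a) (Subgroup.mem_top b)))⟩⟩ hnc
        · exact e⟩
      exact isConj_iff.2 (Cfsg.Agent.S0107.result S m hm2 ⟨hn2 ▸ φ⟩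
        CfsgLib.Components.pResidual_eq_top_of_perfect x y hx hy)
  refine psl_of_hyp (t := t) (s := s) (K := K)
    { ht := ht, hKab := ⟨⟨fun x y => Subtype.ext (hKab x x.2 y y.2)⟩⟩, hKH := hKC, htK := hRK t htR,
      hs := hs2, hsH := hSC hsS, hsK := hsK, hH := ?_, hCK := ?_, hinv := hsinvK, hTI := ?_, hconj := hone }
  · refine le_antisymm (sup_le hKC (Subgroup.zpowers_le.2 (hSC hsS))) fun c hc' => ?_
    obtain ⟨o, ho, x, hx, rfl⟩ := hCOS c hc'
    by_cases hxR : x ∈ R
    · exact Subgroup.mem_sup_left ⟨o, ho, x, hxR, rfl⟩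
    · have hxs : x * s ∈ R := by
        by_contra hxsR
        have h1 := (hSinv (x * s) (mul_mem hx hsS) hxsR).2
        have h2 := (hSinv x hx hxR).2
        have h3 := (hSinv s hsS hsR).2
        -- then `x * s` both centralizes and inverts `R`
        have hsq : ∀ r ∈ R, r * r = 1 := by
          intro r hr
          have h4 := h1 r hr
          rw [show x * s * r * (x * s)⁻¹ = x * (s * r * s⁻¹) * x⁻¹ by group, h3 r hr, h2 _ (inv_mem hr),
            inv_inv] at h4
          nth_rewrite 2 [h4]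
          exact mul_inv_cancel r
        have hn' : n = 2 := by
          rw [← hRcard]
          haveI := hRcyc
          obtain ⟨g, hg⟩ := IsCyclic.exists_generator (α := R)
          rw [← orderOf_eq_card_of_forall_mem_zpowers hg]
          refine orderOf_eq_prime (Subtype.ext (by rw [sq]; exact hsq g g.2)) (fun e1 => ?_)
          subst e1
          have ht1 := hg ⟨t, htR⟩
          rw [Subgroup.zpowers_one_eq_bot, Subgroup.mem_bot] at ht1
          exact ne_one ht (congrArg Subtype.val ht1)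
        haveI := Fintype.ofFinite (S : Subgroup G)
        have hcnt : ({x, s, x * s, (1 : G), t} : Finset G) ⊆
            (Finset.univ : Finset (S : Subgroup G)).map ⟨Subtype.val, Subtype.val_injective⟩ := by
          intro y hy
          simp only [Finset.mem_insert, Finset.mem_singleton] at hy
          rcases hy with rfl | rfl | rfl | rfl | rfl
          · exact Finset.mem_map.2 ⟨⟨_, hx⟩, Finset.mem_univ _, rfl⟩
          · exact Finset.mem_map.2 ⟨⟨_, hsS⟩, Finset.mem_univ _, rfl⟩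
          · exact Finset.mem_map.2 ⟨⟨_, mul_mem hx hsS⟩, Finset.mem_univ _, rfl⟩
          · exact Finset.mem_map.2 ⟨1, Finset.mem_univ _, rfl⟩
          · exact Finset.mem_map.2 ⟨⟨_, htS⟩, Finset.mem_univ _, rfl⟩
        have hne1 : x ≠ 1 := fun e => hxR (e ▸ R.one_mem)
        have hne2 : s ≠ 1 := fun e => hsR (e ▸ R.one_mem)
        have hne3 : x * s ≠ 1 := fun e => hxsR (e ▸ R.one_mem)
        have hne4 : x ≠ t := fun e => hxR (e ▸ htR)
        have hne5 : s ≠ t := fun e => hsR (e ▸ htR)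
        have hne6 : x * s ≠ t := fun e => hxsR (e ▸ htR)
        have hne7 : x ≠ x * s := fun e => hne2 (mul_left_cancel (a := x) (by rw [mul_one]; exact e.symm))
        have hne8 : s ≠ x * s := fun e => hne1 (mul_right_cancel (b := s) (by rw [one_mul]; exact e.symm))
        have hne9 : x ≠ s := fun e => hne3 (by rw [e]; exact (hSinv s hsS hsR).1)
        have h5 : ({x, s, x * s, (1 : G), t} : Finset G).card = 5 := by
          simp [hne1, hne2, hne3, hne4, hne5, hne6, hne7, hne8, hne9, Ne.symm (ne_one ht)]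
        have h6 := Finset.card_le_card hcnt
        rw [h5, Finset.card_map, Finset.card_univ, ← Nat.card_eq_fintype_card, hScard, hn'] at h6
        omega
      rw [show o * x = o * (x * s) * s by rw [mul_assoc, mul_assoc, (hSinv s hsS hsR).1, mul_one]]
      exact Subgroup.mul_mem_sup ⟨o, ho, x * s, hxs, rfl⟩ (Subgroup.mem_zpowers s)
  · refine le_antisymm (fun x hx => ?_) (Subgroup.zpowers_le.2 (Subgroup.mem_inf.2 ⟨hRK t htR,
      Subgroup.mem_centralizer_singleton_iff.2 (htZ s hsS).symm⟩))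
    obtain ⟨hxK, hxs⟩ := Subgroup.mem_inf.1 hx
    rw [Subgroup.mem_centralizer_singleton_iff] at hxs
    have h1 := hsinvK x hxK
    rw [← hxs, mul_inv_cancel_right] at h1
    have hxx : x * x = 1 := by nth_rewrite 2 [h1]; exact mul_inv_cancel x
    rcases hKinvol x hxK hxx with rfl | rfl
    · exact Subgroup.one_mem _
    · exact Subgroup.mem_zpowers _
  · intro g hg
    rw [eq_bot_iff]
    intro y hy
    obtain ⟨⟨o, ho, r, hr, rfl⟩, w, ⟨o', ho', r', hr', rfl⟩, hwe⟩ := Subgroup.mem_inf.1 hy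
    rw [Subgroup.mem_bot]
    have hge : g * (o' * r') * g⁻¹ = o * r := hwe
    by_contra hy1
    set q := Nat.card R with hq
    have hpow : ∀ o ∈ O, ∀ r ∈ R, (o * r) ^ q = o ^ q := by
      intro o ho r hr
      rw [(show Commute o r from (hRO r hr o ho).symm).mul_pow,
        show r ^ q = 1 from congrArg Subtype.val (pow_card_eq_one' (x := (⟨r, hr⟩ : R))), mul_one]
    have hcop : ∀ o ∈ O, o ^ q = 1 → o = 1 := by
      intro o ho he
      refine orderOf_eq_one_iff.1 (Nat.eq_one_of_dvd_coprimes (show (Nat.card O).Coprime q from ?_)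
        (by have := orderOf_dvd_natCard (⟨o, ho⟩ : O); rwa [Subgroup.orderOf_mk] at this)
        (orderOf_dvd_of_pow_eq_one he))
      rw [hRcard, hn2]
      exact (Nat.coprime_two_right.2 hOodd).pow_right _
    have hconjo : g * o' ^ q * g⁻¹ = o ^ q := by
      rw [← hpow o ho r hr, ← hge, _root_.conj_pow, hpow o' ho' r' hr']
    have key : g * t * g⁻¹ = t := by
      by_cases ho1 : o ^ q = 1
      · have hor : o = 1 := hcop o ho ho1
        have hor' : o' = 1 := hcop o' ho' (by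
          rw [ho1, conj_eq_one_iff] at hconjo; exact hconjo)
        rw [hor, one_mul] at hge hy1
        rw [hor', one_mul] at hge
        have hr1 : r' ≠ 1 := fun e => hy1 (by rw [← hge, e, mul_one, mul_inv_cancel])
        have hrt : t ∈ Subgroup.zpowers r' := by
          have hev : 2 ∣ orderOf r' := by
            have h2 : orderOf r' ∣ n := by
              rw [← hRcard]
              have := orderOf_dvd_natCard (⟨r', hr'⟩ : R); rwa [Subgroup.orderOf_mk] at this
            rw [hn2] at h2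
            obtain ⟨j, -, hj⟩ := (Nat.dvd_prime_pow Nat.prime_two).1 h2
            rcases j with _ | j
            · rw [pow_zero, orderOf_eq_one_iff] at hj; exact absurd hj hr1
            · rw [hj]; exact dvd_pow_self 2 j.succ_ne_zero
          have h3 : orderOf (r' ^ (orderOf r' / 2)) = 2 := orderOf_pow_orderOf_div (orderOf_pos r').ne' hev
          rw [← cyclic_invol_unique hRcyc (pow_mem hr' _) htR h3 ht]
          exact pow_mem (Subgroup.mem_zpowers r') _
        obtain ⟨j, hj⟩ := Subgroup.mem_zpowers_iff.1 hrt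
        refine cyclic_invol_unique hRcyc ?_ htR (by rw [orderOf_conj, ht]) ht
        rw [← hj, ← _root_.conj_zpow, hge]
        exact zpow_mem hr j
      · set w := o ^ q
        have hwY : Subgroup.zpowers w ≤ O := Subgroup.zpowers_le.2 (pow_mem ho q)
        have hcomm : g * t * g⁻¹ * w = w * (g * t * g⁻¹) := by
          have h5 : t * o' ^ q = o' ^ q * t :=
            (Subgroup.mem_centralizer_singleton_iff.1 (hOC (pow_mem ho' q))).symm
          rw [← hconjo, show g * t * g⁻¹ * (g * o' ^ q * g⁻¹) = g * (t * o' ^ q) * g⁻¹ by group, h5]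
          group
        have hgtC : g * t * g⁻¹ ∈ C := by
          refine hc _ hwY (fun e => ho1 (Subgroup.zpowers_eq_bot.1 e)) ?_
          rw [Subgroup.mem_normalizer_iff]
          intro z
          have hfix : ∀ z ∈ Subgroup.zpowers w, g * t * g⁻¹ * z * (g * t * g⁻¹)⁻¹ = z := by
            rintro _ ⟨j, rfl⟩
            rw [((show Commute (g * t * g⁻¹) w from hcomm).zpow_right j).eq, mul_inv_cancel_right]
          refine ⟨fun hz => by rw [hfix z hz]; exact hz, fun hz => ?_⟩
          have h6 := hfix _ hz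
          have h7 : g * t * g⁻¹ * z * (g * t * g⁻¹)⁻¹ = z := mul_left_cancel (a := g * t * g⁻¹)
            (mul_right_cancel (b := (g * t * g⁻¹)⁻¹) (by simpa [mul_assoc] using h6))
          rwa [h7] at hz
        obtain ⟨o₁, ho₁, x, hx, hgx⟩ := hCOS _ hgtC
        by_cases hxR : x ∈ R
        · have hgK : g * t * g⁻¹ ∈ K := ⟨o₁, ho₁, x, hxR, hgx⟩
          refine (hKinvol _ hgK ?_).resolve_left ?_
          · rw [show g * t * g⁻¹ * (g * t * g⁻¹) = g * (t * t) * g⁻¹ by group, mul_self ht, mul_one, mul_inv_cancel]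
          · rw [conj_eq_one_iff]; exact ne_one ht
        · exfalso
          have h7 := hsO x hx hxR w (pow_mem ho q)
          have h8 : o₁ * w⁻¹ * o₁⁻¹ = w := by
            rw [← h7, show o₁ * (x * w * x⁻¹) * o₁⁻¹ = o₁ * x * w * (o₁ * x)⁻¹ by group, ← hgx, hcomm,
              mul_inv_cancel_right]
          rw [hOab o₁ ho₁ w⁻¹ (inv_mem (pow_mem ho q)), mul_inv_cancel_right] at h8
          have hww : w ^ 2 = 1 := by rw [sq]; nth_rewrite 1 [← h8]; exact inv_mul_cancel w
          exact ho1 (orderOf_eq_one_iff.1 (Nat.eq_one_of_dvd_coprimes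
            (show (Nat.card O).Coprime 2 from Nat.coprime_two_right.2 hOodd)
            (by have := orderOf_dvd_natCard (⟨w, pow_mem ho q⟩ : O); rwa [Subgroup.orderOf_mk] at this)
            (orderOf_dvd_of_pow_eq_one hww)))
    exact hg (Subgroup.mem_centralizer_singleton_iff.2 (mul_inv_eq_iff_eq_mul.1 key))

end CfsgLib.Characterizations.BSW
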