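import Cfsg.Agent.Lib.Characterizations.BSWChars
import Cfsg.Agent.S0165

/-!
# The Brauer–Suzuki–Wall configuration: the order formula
-/

set_option autoImplicit false

open scoped Classical ComplexConjugate

namespace CfsgLib.Characterizations.BSW

open CfsgLib.Char CfsgLib.Involution.Count CfsgLib.Involution.Dihedral

variable {G : Type*} [Group G]

/-- The number of involutions. -/
noncomputable abbrev numInv (G : Type*) [Group G] : ℕ := Nat.card {x : G // orderOf x = 2}

/-- The order formula and the partition of the elements outside the conjugates of `K`. -/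
structure Shape (K : Subgroup G) (δ : ℤ) (q a : ℕ) : Prop where
  hδ : δ = 1 ∨ δ = -1
  hq : (q : ℤ) = 2 * Nat.card K + δ
  ha : (a : ℤ) = Nat.card K + δ
  hn : numInv G = q * a
  split : ∀ g : G, Out K g → Nat.card (Subgroup.centralizer ({g} : Set G)) ∣ q ∨
    Nat.card (Subgroup.centralizer ({g} : Set G)) ∣ a
  cardR : Nat.card {g : G // Out K g ∧ Nat.card (Subgroup.centralizer ({g} : Set G)) ∣ q} + 1 = q ^ 2

lemma mem_cent_self (g : G) : g ∈ Subgroup.centralizer ({g} : Set G) :=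
  Subgroup.mem_centralizer_singleton_iff.2 rfl

lemma mem_cent_conj {g x y : G} :
    y ∈ Subgroup.centralizer ({x * g * x⁻¹} : Set G) ↔ x⁻¹ * y * x ∈ Subgroup.centralizer ({g} : Set G) := by
  rw [Subgroup.mem_centralizer_singleton_iff, Subgroup.mem_centralizer_singleton_iff]
  constructor
  · intro h
    calc x⁻¹ * y * x * g = x⁻¹ * (y * (x * g * x⁻¹)) * x := by group
      _ = g * (x⁻¹ * y * x) := by rw [h]; group
  · intro h
    calc y * (x * g * x⁻¹) = x * (x⁻¹ * y * x * g) * x⁻¹ := by group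
      _ = x * g * x⁻¹ * y := by rw [h]; group

lemma card_cent_conj (g x : G) :
    Nat.card (Subgroup.centralizer ({x * g * x⁻¹} : Set G)) = Nat.card (Subgroup.centralizer ({g} : Set G)) :=
  Nat.card_congr ⟨fun y => ⟨x⁻¹ * y.1 * x, mem_cent_conj.1 y.2⟩,
    fun y => ⟨x * y.1 * x⁻¹, mem_cent_conj.2 (by simpa [mul_assoc] using y.2)⟩,
    fun y => Subtype.ext (by simp [mul_assoc]), fun y => Subtype.ext (by simp [mul_assoc])⟩

variable [Finite G] {t s : G} {K : Subgroup G}

lemma Hyp.out_cent (h : Hyp t K s) {g y : G} (hg : Out K g) (hy : y ∈ Subgroup.centralizer ({g} : Set G))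
    (hy1 : y ≠ 1) : Out K y :=
  ⟨hy1, fun hi => hg.2 (h.ins_of_comm hi (Subgroup.mem_centralizer_singleton_iff.1 hy).symm hg.1)⟩

lemma Hyp.odd_cent (h : Hyp t K s) {g : G} (hg : Out K g) :
    Odd (Nat.card (Subgroup.centralizer ({g} : Set G))) := by
  rw [Nat.odd_iff, ← Nat.two_dvd_ne_zero]
  intro h2
  haveI : Fact (Nat.Prime 2) := ⟨Nat.prime_two⟩
  obtain ⟨y, hy⟩ := exists_prime_orderOf_dvd_card' 2 h2
  have hy' : orderOf (y : G) = 2 := by rw [Subgroup.orderOf_coe, hy]
  exact (h.out_cent hg y.2 (ne_one hy')).2 (h.ins_of_involution hy')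

/-- A trivial intersection property of the centralizers of inverted elements. -/
lemma Hyp.mem_normalizer_cent (h : Hyp t K s) {g u x y : G} (hg : Out K g) (hu : orderOf u = 2)
    (hug : u * g * u⁻¹ = g⁻¹) (hy : y ∈ Subgroup.centralizer ({g} : Set G)) (hy1 : y ≠ 1)
    (hxy : x * y * x⁻¹ ∈ Subgroup.centralizer ({g} : Set G)) :
    x ∈ Subgroup.normalizer (Subgroup.centralizer ({g} : Set G) : Set G) := by
  obtain ⟨-, -, hc, -, -⟩ := h.out_inverted hg hu hug
  have h1 := (hc y hy hy1).2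
  have h2 := (hc _ hxy (by rwa [ne_eq, conj_eq_one_iff])).2
  rw [Subgroup.mem_normalizer_iff]
  intro z
  conv_rhs => rw [← h2]
  rw [mem_cent_conj, h1, show x⁻¹ * (x * z * x⁻¹) * x = z by group]

/-- The normalizer of the centralizer of an inverted element. -/
lemma Hyp.normalizer_inverted (h : Hyp t K s) {g u : G} (hg : Out K g) (hu : orderOf u = 2)
    (hug : u * g * u⁻¹ = g⁻¹) (c : G) (hc : c * t * c⁻¹ = u) :
    ∃ D : Subgroup G, u ∈ D ∧ D ≤ K.map (MulAut.conj c).toMonoidHom ∧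
      D ≤ Subgroup.normalizer (Subgroup.centralizer ({g} : Set G) : Set G) ∧
      Nat.card (Subgroup.normalizer (Subgroup.centralizer ({g} : Set G) : Set G)) =
        Nat.card (Subgroup.centralizer ({g} : Set G)) * Nat.card D ∧
      Nat.card D ∣ Nat.card K ∧ Nat.card D ∣ Nat.card (Subgroup.centralizer ({g} : Set G)) - 1 ∧
      ∀ n ∈ Subgroup.normalizer (Subgroup.centralizer ({g} : Set G) : Set G),
        ∃ a ∈ Subgroup.centralizer ({g} : Set G), ∃ d ∈ D, n = a * d := by
  obtain ⟨hodd, hinv, hcA, hcomm, -⟩ := h.out_inverted hg hu hug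
  set A := Subgroup.centralizer ({g} : Set G) with hA
  set N := Subgroup.normalizer (A : Set G) with hN
  set D := N ⊓ Subgroup.centralizer ({u} : Set G) with hD
  have hnoin : ∀ a ∈ A, orderOf a ≠ 2 := fun a ha h2 =>
    (h.out_cent hg ha (ne_one h2)).2 (h.ins_of_involution h2)
  have huN : u ∈ N := by
    rw [Subgroup.mem_normalizer_iff]
    intro z
    refine ⟨fun hz => ?_, fun hz => ?_⟩
    · rw [hinv z hz]; exact inv_mem hz
    · have h1 := hinv _ hz
      rw [show u * (u * z * u⁻¹) * u⁻¹ = (u * u) * z * (u * u)⁻¹ by group, mul_self hu, one_mul, inv_one,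
        mul_one] at h1
      rw [h1]; exact inv_mem hz
  have hnA : ∀ n ∈ N, ∀ a ∈ A, n * a * n⁻¹ ∈ A := fun n hn a ha =>
    (Subgroup.mem_normalizer_iff.1 hn a).1 ha
  have hfix : ∀ d ∈ D, d ≠ 1 → ∀ a ∈ A, a ≠ 1 → d * a ≠ a * d := by
    intro d hd hd1 a ha ha1 e
    have hdA : d ∈ A := by
      rw [← (hcA a ha ha1).2]
      exact Subgroup.mem_centralizer_singleton_iff.2 e
    exact (h.out_cent hg hdA hd1).2 (h.ins_of_comm (h.ins_of_involution hu)
      (Subgroup.mem_centralizer_singleton_iff.1 (Subgroup.mem_inf.1 hd).2) hd1)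
  have hDc : ∀ d ∈ D, c⁻¹ * d * c ∈ K := by
    intro d hd
    by_contra hcon
    have hd2 := (Subgroup.mem_inf.1 hd).2
    have hH : c⁻¹ * d * c ∈ Subgroup.centralizer ({t} : Set G) := by
      rw [← hc] at hd2; exact mem_cent_conj.1 hd2
    obtain ⟨h2, -⟩ := h.of_notMem hH hcon
    have hd2' : orderOf d = 2 := by
      have := orderOf_conj c⁻¹ d
      rw [inv_inv, h2] at this
      exact this.symm
    have hdinv := (inverts_of_fpf hd2' (hnA d (Subgroup.mem_inf.1 hd).1) (fun a ha e => by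
      by_contra ha1
      exact hfix d hd (ne_one hd2') a ha ha1 e)).1
    have hdu : u * d ∈ A := by
      refine Subgroup.mem_centralizer_singleton_iff.2 ?_
      have h3 := hdinv g (mem_cent_self g)
      calc u * d * g = u * (d * g * d⁻¹) * d := by group
        _ = (u * g * u⁻¹)⁻¹ * (u * d) := by rw [h3]; group
        _ = g * (u * d) := by rw [hug, inv_inv]
    have hud1 : u * d = 1 := by
      by_contra hne
      refine hnoin _ hdu (orderOf_eq_two ?_ hne)
      have hcom : d * u = u * d := Subgroup.mem_centralizer_singleton_iff.1 hd2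
      rw [show u * d * (u * d) = u * (d * u) * d by group, hcom,
        show u * (u * d) * d = (u * u) * (d * d) by group, mul_self hu, mul_self hd2', mul_one]
    apply hcon
    rw [show d = u by rw [← inv_eq hu]; exact eq_inv_of_mul_eq_one_right hud1, ← hc]
    simpa [mul_assoc] using h.htK
  have hfac : ∀ n ∈ N, ∃ a ∈ A, ∃ d ∈ D, n = a * d := by
    intro n hn
    have hv : n * u * n⁻¹ * u ∈ A := by
      refine Subgroup.mem_centralizer_singleton_iff.2 ?_
      have h1 := hinv _ (hnA n⁻¹ (inv_mem hn) g (mem_cent_self g))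
      rw [inv_inv] at h1
      have h1' : u * (n⁻¹ * g⁻¹ * n) * u⁻¹ = n⁻¹ * g * n := by
        rw [show u * (n⁻¹ * g⁻¹ * n) * u⁻¹ = (u * (n⁻¹ * g * n) * u⁻¹)⁻¹ by group, h1, inv_inv]
      calc n * u * n⁻¹ * u * g = n * u * n⁻¹ * (u * g * u⁻¹) * u := by group
        _ = n * (u * (n⁻¹ * g⁻¹ * n) * u⁻¹) * u * n⁻¹ * u := by rw [hug]; group
        _ = g * (n * u * n⁻¹ * u) := by rw [h1']; group
    obtain ⟨b, hb⟩ := (powCoprime (show (Nat.card A).Coprime 2 from
      (Nat.coprime_two_right).2 hodd)).surjective ⟨_, hv⟩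
    have hb' : (b : G) ^ 2 = n * u * n⁻¹ * u := congrArg Subtype.val hb
    have hub := hinv (b : G) b.2
    refine ⟨b, b.2, (b : G)⁻¹ * n, Subgroup.mem_inf.2 ⟨mul_mem (inv_mem (Subgroup.le_normalizer b.2)) hn,
      Subgroup.mem_centralizer_singleton_iff.2 ?_⟩, (mul_inv_cancel_left _ _).symm⟩
    have hnu : n * u = (b : G) * b * u * n := by
      rw [← sq, hb', show n * u * n⁻¹ * u * u * n = n * u * n⁻¹ * (u * u) * n by group, mul_self hu]
      group
    calc (b : G)⁻¹ * n * u = (b : G)⁻¹ * (n * u) := by group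
      _ = (b : G)⁻¹ * ((b : G) * b * u * n) := by rw [hnu]
      _ = (u * b * u⁻¹)⁻¹ * u * n := by rw [hub, inv_inv]; group
      _ = u * ((b : G)⁻¹ * n) := by group
  refine ⟨D, Subgroup.mem_inf.2 ⟨huN, mem_cent_self u⟩, fun d hd => ⟨_, hDc d hd, ?_⟩, inf_le_left, ?_, ?_,
    card_dvd_of_fpf D A (fun d hd => hnA d (Subgroup.mem_inf.1 hd).1) hfix, hfac⟩
  · simp [mul_assoc]
  · rw [← Nat.card_prod]
    refine (Nat.card_eq_of_bijective
      (fun p : A × D => (⟨(p.1 : G) * p.2, mul_mem (Subgroup.le_normalizer p.1.2) (Subgroup.mem_inf.1 p.2.2).1⟩ : N))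
      ⟨?_, ?_⟩).symm
    · rintro ⟨a, d⟩ ⟨a', d'⟩ e
      have e1 : (a : G) * d = (a' : G) * d' := congrArg Subtype.val e
      have e2 : (a' : G)⁻¹ * a = (d' : G) * (d : G)⁻¹ := by
        rw [inv_mul_eq_iff_eq_mul, ← mul_assoc, ← e1, mul_inv_cancel_right]
      have e3 : (d' : G) * (d : G)⁻¹ = 1 := by
        by_contra hne
        have hm : (d' : G) * (d : G)⁻¹ ∈ A := e2 ▸ mul_mem (inv_mem a'.2) a.2
        exact (h.out_cent hg hm hne).2 (h.ins_of_comm (h.ins_of_involution hu)
          (Subgroup.mem_centralizer_singleton_iff.1 (Subgroup.mem_inf.1 (mul_mem d'.2 (inv_mem d.2))).2) hne)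
      rw [e3, inv_mul_eq_one] at e2
      exact Prod.ext (Subtype.ext e2.symm) (Subtype.ext (mul_inv_eq_one.1 e3).symm)
    · rintro ⟨n, hn⟩
      obtain ⟨a, ha, d, hd, rfl⟩ := hfac n hn
      exact ⟨(⟨a, ha⟩, ⟨d, hd⟩), rfl⟩
  · refine (Subgroup.card_dvd_of_le (show D ≤ K.map (MulAut.conj c).toMonoidHom from
      fun d hd => ⟨_, hDc d hd, by simp [mul_assoc]⟩)).trans ?_
    rw [Nat.card_congr (Subgroup.equivMapOfInjective K _ (MulAut.conj c).injective).symm.toEquiv]

/-- Centralizers of inverted elements whose orders share a prime are conjugate. -/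
lemma Hyp.inverted_conj (h : Hyp t K s) {g g' u u' : G} (hg : Out K g) (hu : orderOf u = 2)
    (hug : u * g * u⁻¹ = g⁻¹) (hg' : Out K g') (hu' : orderOf u' = 2) (hug' : u' * g' * u'⁻¹ = g'⁻¹)
    (p : ℕ) [hp : Fact p.Prime] (hpg : p ∣ Nat.card (Subgroup.centralizer ({g} : Set G)))
    (hpg' : p ∣ Nat.card (Subgroup.centralizer ({g'} : Set G))) :
    ∃ x : G, x * g * x⁻¹ ∈ Subgroup.centralizer ({g'} : Set G) := by
  have key : ∀ g u : G, Out K g → orderOf u = 2 → u * g * u⁻¹ = g⁻¹ →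
      p ∣ Nat.card (Subgroup.centralizer ({g} : Set G)) →
      ∃ P : Sylow p G, (P : Subgroup G) ≤ Subgroup.centralizer ({g} : Set G) ∧ (P : Subgroup G) ≠ ⊥ := by
    intro g u hg hu hug hpg
    obtain ⟨-, -, hcA, hcomm, -⟩ := h.out_inverted hg hu hug
    obtain ⟨y, hy⟩ := exists_prime_orderOf_dvd_card' p hpg
    have hy' : orderOf (y : G) = p := by rw [Subgroup.orderOf_coe, hy]
    have hy1 : (y : G) ≠ 1 := fun e => hp.out.one_lt.ne' (by rw [← hy', e, orderOf_one])
    have hZ : IsPGroup p (Subgroup.zpowers (y : G)) :=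
      IsPGroup.of_card (n := 1) (by rw [Nat.card_zpowers, hy', pow_one])
    obtain ⟨P, hP⟩ := hZ.exists_le_sylow
    have hPne : (P : Subgroup G) ≠ ⊥ := fun e => hy1 (by simpa [e] using hP (Subgroup.mem_zpowers _))
    refine ⟨P, ?_, hPne⟩
    haveI : Nontrivial (P : Subgroup G) := (Subgroup.nontrivial_iff_ne_bot _).2 hPne
    haveI := P.2.center_nontrivial
    obtain ⟨z, hz⟩ := exists_ne (1 : Subgroup.center (P : Subgroup G))
    have hzy : ((z : (P : Subgroup G)) : G) ∈ Subgroup.centralizer ({g} : Set G) := by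
      rw [← (hcA _ y.2 hy1).2]
      exact Subgroup.mem_centralizer_singleton_iff.2
        (congrArg Subtype.val (Subgroup.mem_center_iff.1 z.2 ⟨y, hP (Subgroup.mem_zpowers _)⟩)).symm
    have hz1 : ((z : (P : Subgroup G)) : G) ≠ 1 := fun e => hz (Subtype.ext (Subtype.ext e))
    intro w hw
    rw [← (hcA _ hzy hz1).2]
    exact Subgroup.mem_centralizer_singleton_iff.2
      (congrArg Subtype.val (Subgroup.mem_center_iff.1 z.2 ⟨w, hw⟩))
  obtain ⟨P, hPg, hPne⟩ := key g u hg hu hug hpg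
  obtain ⟨P', hPg', -⟩ := key g' u' hg' hu' hug' hpg'
  obtain ⟨x, hx⟩ := MulAction.exists_smul_eq G P P'
  obtain ⟨w, hw, hw1⟩ := (Subgroup.ne_bot_iff_exists_ne_one).1 hPne |> fun ⟨w, hw⟩ =>
    (⟨(w : G), w.2, fun e => hw (Subtype.ext e)⟩ : ∃ w : G, w ∈ (P : Subgroup G) ∧ w ≠ 1)
  obtain ⟨-, -, hcA, -, -⟩ := h.out_inverted hg hu hug
  obtain ⟨-, -, hcA', -, -⟩ := h.out_inverted hg' hu' hug'
  have hxw : x * w * x⁻¹ ∈ Subgroup.centralizer ({g'} : Set G) := by
    refine hPg' ?_
    rw [← hx]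
    exact ⟨w, hw, rfl⟩
  refine ⟨x, ?_⟩
  rw [← (hcA' _ hxw (by rwa [ne_eq, conj_eq_one_iff])).2, mem_cent_conj, (hcA w (hPg hw) hw1).2]
  simpa [mul_assoc] using mem_cent_self g

/-- In a shape, elements of prime order dividing `|K|` are conjugate into `K`. -/
lemma Hyp.ins_of_prime (h : Hyp t K s) {δ : ℤ} {q a : ℕ} (hδ : δ = 1 ∨ δ = -1)
    (hq : (q : ℤ) = 2 * Nat.card K + δ) (ha : (a : ℤ) = Nat.card K + δ) (hn : numInv G = q * a)
    {g : G} {p : ℕ} [hp : Fact p.Prime] (hg : orderOf g = p) (hpk : p ∣ Nat.card K) : Ins K g := by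
  by_cases hp2 : p = 2
  · exact h.ins_of_involution (hg.trans hp2)
  obtain ⟨P⟩ : Nonempty (Sylow p K) := inferInstance
  have hG : Nat.card G = 2 * Nat.card K * (q * a) := by rw [← h.card_eq_inv, ← hn]; ring
  have hpk' : (p : ℤ) ∣ Nat.card K := by exact_mod_cast hpk
  have hnd : ∀ m : ℕ, (∃ r : ℤ, (m : ℤ) = r * Nat.card K + δ) → ¬ p ∣ m := by
    rintro m ⟨r, hr⟩ hpm
    have hpm' : (p : ℤ) ∣ m := by exact_mod_cast hpm
    have : (p : ℤ) ∣ δ := by
      rw [show δ = (m : ℤ) - r * Nat.card K by omega]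
      exact dvd_sub hpm' (hpk'.mul_left r)
    have h1 : (p : ℤ) ∣ 1 := by rcases hδ with rfl | rfl; exacts [this, (dvd_neg).1 this]
    exact hp.out.one_lt.ne' (Nat.dvd_one.1 (by exact_mod_cast h1))
  have hq0 : q ≠ 0 := fun e => hnd q ⟨2, hq⟩ (e ▸ dvd_zero p)
  have ha0 : a ≠ 0 := fun e => hnd a ⟨1, by rw [one_mul]; exact ha⟩ (e ▸ dvd_zero p)
  have hcard : Nat.card ((P : Subgroup K).map K.subtype) = p ^ (Nat.card G).factorization p := by
    rw [Subgroup.card_map_of_injective K.subtype_injective, P.card_eq_multiplicity, hG,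
      Nat.factorization_mul (mul_ne_zero two_ne_zero Nat.card_pos.ne') (mul_ne_zero hq0 ha0),
      Finsupp.add_apply,
      Nat.factorization_mul two_ne_zero Nat.card_pos.ne', Finsupp.add_apply,
      Nat.factorization_mul hq0 ha0, Finsupp.add_apply,
      Nat.factorization_eq_zero_of_not_dvd (hnd q ⟨2, hq⟩),
      Nat.factorization_eq_zero_of_not_dvd (hnd a ⟨1, by rw [one_mul]; exact ha⟩),
      Nat.factorization_eq_zero_of_not_dvd (fun hd => hp2 ((Nat.prime_dvd_prime_iff_eq hp.out Nat.prime_two).1 hd)),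
      zero_add, add_zero, add_zero]
  have hZ : IsPGroup p (Subgroup.zpowers g) :=
    IsPGroup.of_card (n := 1) (by rw [Nat.card_zpowers, hg, pow_one])
  obtain ⟨Q, hQ⟩ := hZ.exists_le_sylow
  obtain ⟨x, hx⟩ := MulAction.exists_smul_eq G Q (Sylow.ofCard _ hcard)
  have h1 : x * g * x⁻¹ ∈ ((Sylow.ofCard _ hcard : Sylow p G) : Subgroup G) := by
    rw [← hx]; exact ⟨g, hQ (Subgroup.mem_zpowers g), rfl⟩
  rw [Sylow.coe_ofCard] at h1
  obtain ⟨y, -, hy⟩ := h1
  exact ⟨fun e => hp.out.one_lt.ne' (by rw [← hg, e, orderOf_one]), x, by rw [← hy]; exact y.2⟩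

/-- Centralizer orders outside the conjugates of `K` divide `q * a`. -/
lemma Hyp.cent_dvd (h : Hyp t K s) {δ : ℤ} {q a : ℕ} (hδ : δ = 1 ∨ δ = -1)
    (hq : (q : ℤ) = 2 * Nat.card K + δ) (ha : (a : ℤ) = Nat.card K + δ) (hn : numInv G = q * a)
    {g : G} (hg : Out K g) : Nat.card (Subgroup.centralizer ({g} : Set G)) ∣ q * a := by
  have hG : Nat.card G = 2 * Nat.card K * (q * a) := by rw [← h.card_eq_inv, ← hn]; ring
  refine Nat.Coprime.dvd_of_dvd_mul_left (Nat.coprime_of_dvd fun p hp hpC hpk => ?_)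
    (hG ▸ Subgroup.card_subgroup_dvd_card _)
  haveI : Fact p.Prime := ⟨hp⟩
  obtain ⟨y, hy⟩ := exists_prime_orderOf_dvd_card' p hpC
  have hy' : orderOf (y : G) = p := by rw [Subgroup.orderOf_coe, hy]
  have hy1 : (y : G) ≠ 1 := fun e => hp.one_lt.ne' (by rw [← hy', e, orderOf_one])
  refine (h.out_cent hg y.2 hy1).2 (h.ins_of_prime hδ hq ha hn hy' ?_)
  rcases hp.dvd_mul.1 hpk with h2 | h2
  · rw [(Nat.prime_dvd_prime_iff_eq hp Nat.prime_two).1 h2]; exact h.even_card.two_dvd
  · exact h2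

omit [Finite G] in
/-- Characters of full `p`-defect degree vanish on `p`-singular elements. -/
lemma vanish [Fintype G] (χ : Cfsg.IrrCharacter G) {d m p : ℕ} (hd : (χ : G → ℂ) 1 = d) (hp : p.Prime)
    (hG : Nat.card G = d * m) (hm : ¬ p ∣ m) {x : G} (hx : p ∣ orderOf x) : (χ : G → ℂ) x = 0 := by
  obtain ⟨χ, n, ρ, hρ, rfl⟩ := χ
  have hn : d = n := by
    simpa [Representation.char_one] using hd.symm
  have hne : d * m ≠ 0 := hG ▸ Nat.card_pos.ne'
  have hf : (Nat.card G).factorization p = d.factorization p := by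
    rw [hG, Nat.factorization_mul (left_ne_zero_of_mul hne) (right_ne_zero_of_mul hne), Finsupp.add_apply,
      Nat.factorization_eq_zero_of_not_dvd hm, add_zero]
  refine Cfsg.Agent.S0165.result ρ p ((Nat.card G).factorization p) hp (Nat.ordProj_dvd _ _)
    (Nat.pow_succ_factorization_not_dvd Nat.card_pos.ne' hp) ?_ x hx
  rw [Module.finrank_fin_fun, hf, ← hn]
  exact Nat.ordProj_dvd _ _

/-- The elements outside `1` and the conjugates of `K`, counted. -/
lemma Hyp.card_out [Fintype G] (h : Hyp t K s) :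
    1 + numInv G * (Nat.card K - 1) + (Finset.univ.filter (Out K)).card = Nat.card G := by
  have h0 := sum_split K (fun _ => (1 : ℕ))
  simp only [Finset.sum_const, smul_eq_mul, mul_one, Finset.card_univ] at h0
  rw [Nat.card_eq_fintype_card (α := G), h0, ← h.card_ins, Nat.card_eq_fintype_card, Fintype.card_subtype]

/-- The case `|K| ≥ 4`. -/
lemma shape_large (h : Hyp t K s) (hk : 4 ≤ Nat.card K) :
    ∃ (δ : ℤ) (q a : ℕ), Shape K δ q a := by
  cases nonempty_fintype G
  obtain ⟨δ, q, χ, ψ, hδ, hχ1, hψ1, hpos, heq, ⟨l, hl⟩, hχK, hout⟩ := exists_char h hk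
  have hcard := h.card_eq_inv
  have hnodd := h.odd_inv
  obtain ⟨j, hj⟩ := h.even_card
  have hk0 : (0 : ℤ) < Nat.card K := by exact_mod_cast Nat.card_pos
  have hnpos : (0 : ℤ) < numInv G := by exact_mod_cast hnodd.pos
  have hq0 : (0 : ℤ) < q := by
    obtain ⟨m, hm, hm'⟩ := IsIrrCharacter.apply_one_eq χ.2
    have : q = m := by exact_mod_cast hχ1.symm.trans hm'
    omega
  have e1 : (numInv G : ℤ) * l ^ 2 = 2 * q * ((q : ℤ) + δ) := by
    have h0 : (2 * Nat.card K ^ 3 : ℤ) ≠ 0 := by positivity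
    apply mul_left_cancel₀ h0
    rw [← hcard, hl] at heq
    push_cast at heq
    linear_combination heq
  -- the quotient is two
  have hl2 : l = 2 := by
    have hodd_q : Odd (q : ℤ) := by
      rw [show (q : ℤ) = (Nat.card K : ℤ) * l + δ by omega, hj]
      rcases hδ with rfl | rfl
      · exact ⟨(j : ℤ) * l, by push_cast; ring⟩
      · exact ⟨(j : ℤ) * l - 1, by push_cast; ring⟩
    have hlpos : 0 < l := by
      rcases lt_trichotomy l 0 with hlt | hlt | hlt
      · have : (Nat.card K : ℤ) * l ≤ -(Nat.card K : ℤ) := by nlinarith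
        rcases hδ with rfl | rfl <;> omega
      · exfalso
        rw [hlt] at e1
        have h9 : 0 < 2 * (q : ℤ) * ((q : ℤ) + δ) := by positivity
        rw [← e1] at h9
        simp at h9
      · exact hlt
    have hcop : IsCoprime (l ^ 2) (q : ℤ) := by
      refine IsCoprime.pow_left ?_
      rcases hδ with rfl | rfl
      · exact ⟨-(Nat.card K : ℤ), 1, by linear_combination hl⟩
      · exact ⟨(Nat.card K : ℤ), -1, by linear_combination -hl⟩
    have hd1 : l ^ 2 ∣ 2 * ((q : ℤ) + δ) := by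
      refine hcop.dvd_of_dvd_mul_left ?_
      exact ⟨numInv G, by linear_combination -e1⟩
    have hd2 : l ∣ 4 := by
      have h3 : l ∣ 2 * ((q : ℤ) + δ) - 2 * ((q : ℤ) - δ) :=
        dvd_sub ((dvd_pow_self l two_ne_zero).trans hd1) (by rw [hl]; exact (dvd_mul_left l _).mul_left 2)
      rw [show 2 * ((q : ℤ) + δ) - 2 * ((q : ℤ) - δ) = 4 * δ by ring] at h3
      rcases hδ with rfl | rfl
      · simpa using h3
      · simpa using h3
    have hl4 : l ≤ 4 := Int.le_of_dvd (by norm_num) hd2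
    have hnodd' : Odd (numInv G : ℤ) := by exact_mod_cast hnodd
    interval_cases l
    · exfalso
      have h2 : Odd (2 * (q : ℤ) * ((q : ℤ) + δ)) := by rw [← e1]; simpa using hnodd'
      exact (Int.not_odd_iff_even.2 (by rw [mul_assoc]; exact even_two_mul _)) h2
    · rfl
    · norm_num at hd2
    · exfalso
      have h2 : 4 * (numInv G : ℤ) = q * (2 * Nat.card K + δ) := by
        have h3 : (q : ℤ) + δ = 4 * Nat.card K + 2 * δ := by omega
        rw [h3] at e1
        linarith
      have h3 : Odd (4 * (numInv G : ℤ)) := by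
        rw [h2]
        refine hodd_q.mul ?_
        rcases hδ with rfl | rfl
        · exact ⟨_, rfl⟩
        · exact ⟨(Nat.card K : ℤ) - 1, by ring⟩
      exact (Int.not_odd_iff_even.2 ⟨2 * (numInv G : ℤ), by ring⟩) h3
  subst hl2
  obtain ⟨a, ha⟩ : ∃ a : ℕ, (a : ℤ) = Nat.card K + δ :=
    ⟨((Nat.card K : ℤ) + δ).toNat, Int.toNat_of_nonneg (by rcases hδ with rfl | rfl <;> omega)⟩
  have hq : (q : ℤ) = 2 * Nat.card K + δ := by omega
  have hn : numInv G = q * a := by
    have : (numInv G : ℤ) = ((q * a : ℕ) : ℤ) := by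
      push_cast
      rw [show (q : ℤ) + δ = 2 * (a : ℤ) by omega] at e1
      linarith
    exact_mod_cast this
  have hG : Nat.card G = 2 * Nat.card K * (q * a) := by rw [← hcard, ← hn]; ring
  have hψd : (ψ : G → ℂ) 1 = ((2 * a : ℕ) : ℂ) := by
    rw [hψ1, ← Int.cast_natCast (R := ℂ) (2 * a)]
    congr 1
    push_cast
    omega
  -- coprimality
  have hcop : ∀ p : ℕ, p.Prime → p ∣ q → p ∣ a → False := by
    intro p hp hpq hpa
    have h1 : (p : ℤ) ∣ q := by exact_mod_cast hpq
    have h2 : (p : ℤ) ∣ a := by exact_mod_cast hpa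
    have h3 : (p : ℤ) ∣ δ := by
      rw [show δ = 2 * (a : ℤ) - q by omega]
      exact dvd_sub (h2.mul_left 2) h1
    have h4 : (p : ℤ) ∣ 1 := by rcases hδ with rfl | rfl; exacts [h3, dvd_neg.1 h3]
    exact hp.one_lt.ne' (Nat.dvd_one.1 (by exact_mod_cast h4))
  have hnk : ∀ p : ℕ, p.Prime → p ∣ Nat.card K → ¬ p ∣ q ∧ ¬ p ∣ a := by
    intro p hp hpk
    have hpk' : (p : ℤ) ∣ Nat.card K := by exact_mod_cast hpk
    have key : ∀ m : ℕ, ∀ r : ℤ, (m : ℤ) = r * Nat.card K + δ → ¬ p ∣ m := by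
      intro m r hr hpm
      have hpm' : (p : ℤ) ∣ m := by exact_mod_cast hpm
      have h3 : (p : ℤ) ∣ δ := by
        rw [show δ = (m : ℤ) - r * Nat.card K by omega]
        exact dvd_sub hpm' (hpk'.mul_left r)
      have h4 : (p : ℤ) ∣ 1 := by rcases hδ with rfl | rfl; exacts [h3, dvd_neg.1 h3]
      exact hp.one_lt.ne' (Nat.dvd_one.1 (by exact_mod_cast h4))
    exact ⟨key q 2 hq, key a 1 (by rw [one_mul]; exact ha)⟩
  have h2q : ¬ 2 ∣ q ∧ ¬ 2 ∣ a := hnk 2 Nat.prime_two h.even_card.two_dvd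
  have hχ0 : ∀ (g : G) (p : ℕ), p.Prime → p ∣ q → p ∣ orderOf g → (χ : G → ℂ) g = 0 := by
    intro g p hp hpq hpg
    refine vanish χ hχ1 hp (m := 2 * Nat.card K * a) (by rw [hG]; ring) (fun hd => ?_) hpg
    rcases hp.dvd_mul.1 hd with hd | hd
    · rcases hp.dvd_mul.1 hd with hd | hd
      · exact h2q.1 ((Nat.prime_dvd_prime_iff_eq hp Nat.prime_two).1 hd ▸ hpq)
      · exact (hnk p hp hd).1 hpq
    · exact hcop p hp hpq hd
  have hψ0 : ∀ (g : G) (p : ℕ), p.Prime → p ∣ a → p ∣ orderOf g → (ψ : G → ℂ) g = 0 := by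
    intro g p hp hpa hpg
    refine vanish ψ hψd hp (m := Nat.card K * q) (by rw [hG]; ring) (fun hd => ?_) hpg
    rcases hp.dvd_mul.1 hd with hd | hd
    · exact (hnk p hp hd).2 hpa
    · exact hcop p hp hd hpa
  have hmix : ∀ g : G, Out K g → ∀ p r : ℕ, p.Prime → r.Prime → p ∣ q → r ∣ a →
      p ∣ orderOf g → r ∣ orderOf g → False := by
    intro g hg p r hp hr hpq hra hpg hrg
    have h1 := hout g hg
    rw [hχ0 g p hp hpq hpg, hψ0 g r hr hra hrg, sub_zero, mul_zero] at h1
    norm_num at h1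
  have hCqa := fun g hg => h.cent_dvd hδ hq ha hn (g := g) hg
  have hsplit : ∀ g, Out K g → Nat.card (Subgroup.centralizer ({g} : Set G)) ∣ q ∨
      Nat.card (Subgroup.centralizer ({g} : Set G)) ∣ a := by
    intro g hg
    by_contra hcon
    push Not at hcon
    obtain ⟨hcq, hca⟩ := hcon
    have h1 : ¬ (Nat.card (Subgroup.centralizer ({g} : Set G))).Coprime a := fun hc =>
      hcq (hc.dvd_of_dvd_mul_right (hCqa g hg))
    have h2 : ¬ (Nat.card (Subgroup.centralizer ({g} : Set G))).Coprime q := fun hc =>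
      hca (hc.dvd_of_dvd_mul_left (hCqa g hg))
    obtain ⟨r, hr, hrC, hra⟩ := Nat.Prime.not_coprime_iff_dvd.1 h1
    obtain ⟨p, hp, hpC, hpq⟩ := Nat.Prime.not_coprime_iff_dvd.1 h2
    obtain ⟨b, hb, hbg⟩ := Nat.exists_prime_and_dvd (n := orderOf g) (fun e => hg.1 (orderOf_eq_one_iff.1 e))
    have key : ∀ w : ℕ, w.Prime → w ∣ Nat.card (Subgroup.centralizer ({g} : Set G)) → w ≠ b →
        ∃ z : G, Out K z ∧ b ∣ orderOf z ∧ w ∣ orderOf z := by
      intro w hw hwC hwb
      haveI : Fact w.Prime := ⟨hw⟩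
      obtain ⟨y, hy⟩ := exists_prime_orderOf_dvd_card' w hwC
      have hy' : orderOf (y : G) = w := by rw [Subgroup.orderOf_coe, hy]
      set g' := g ^ (orderOf g / b)
      have hg' : orderOf g' = b := orderOf_pow_orderOf_div (orderOf_pos g).ne' hbg
      have hyg := Subgroup.mem_centralizer_singleton_iff.1 y.2
      have hcom : Commute g' (y : G) := (show Commute g (y : G) from hyg.symm).pow_left _
      have ho : orderOf (g' * y) = b * w := by
        rw [hcom.orderOf_mul_eq_mul_orderOf_of_coprime (by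
          rw [hg', hy']; exact (Nat.coprime_primes hb hw).2 (Ne.symm hwb)), hg', hy']
      refine ⟨g' * y, h.out_cent hg (mul_mem (pow_mem (mem_cent_self g) _) y.2) ?_, ?_, ?_⟩
      · intro e
        rw [e, orderOf_one] at ho
        have := Nat.le_mul_of_pos_right b hw.pos
        have := hb.two_le
        omega
      · rw [ho]; exact dvd_mul_right _ _
      · rw [ho]; exact dvd_mul_left _ _
    have hbC : b ∣ Nat.card (Subgroup.centralizer ({g} : Set G)) :=
      hbg.trans (by
        have := orderOf_dvd_natCard (⟨g, mem_cent_self g⟩ : Subgroup.centralizer ({g} : Set G))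
        rwa [Subgroup.orderOf_mk] at this)
    rcases hb.dvd_mul.1 (hbC.trans (hCqa g hg)) with hbq | hba
    · obtain ⟨z, hz, hzb, hzr⟩ := key r hr hrC (fun e => hcop b hb hbq (e ▸ hra))
      exact hmix z hz b r hb hr hbq hra hzb hzr
    · obtain ⟨z, hz, hzb, hzp⟩ := key p hp hpC (fun e => hcop b hb (e ▸ hpq) hba)
      exact hmix z hz p b hp hb hpq hba hzp hzb
  refine ⟨δ, q, a, hδ, hq, ha, hn, hsplit, ?_⟩
  -- the norm of the character
  have hnorm : (∑ g : G, (χ : G → ℂ) g * conj ((χ : G → ℂ) g)) = Nat.card G := by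
    have h1 := classInner_irr_self χ.2
    rw [Cfsg.classInner] at h1
    exact ((inv_mul_eq_one₀ (Nat.cast_ne_zero.2 Nat.card_pos.ne')).1 h1).symm
  have hone : ∀ g ∈ Finset.univ.filter (Ins K), (χ : G → ℂ) g * conj ((χ : G → ℂ) g) = 1 := by
    intro g hg
    obtain ⟨hg1, x, hx⟩ := (Finset.mem_filter.1 hg).2
    rw [← IsIrrCharacter.isClassFunction χ.2 g x, hχK _ hx (by rwa [ne_eq, conj_eq_one_iff]), map_intCast]
    rcases hδ with rfl | rfl <;> norm_num
  have hR : ∀ g ∈ Finset.univ.filter (Out K), (χ : G → ℂ) g * conj ((χ : G → ℂ) g) =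
      if Nat.card (Subgroup.centralizer ({g} : Set G)) ∣ q then 0 else 1 := by
    intro g hg
    have hg' := (Finset.mem_filter.1 hg).2
    obtain ⟨b, hb, hbg⟩ := Nat.exists_prime_and_dvd (n := orderOf g) (fun e => hg'.1 (orderOf_eq_one_iff.1 e))
    have hbC : b ∣ Nat.card (Subgroup.centralizer ({g} : Set G)) :=
      hbg.trans (by
        have := orderOf_dvd_natCard (⟨g, mem_cent_self g⟩ : Subgroup.centralizer ({g} : Set G))
        rwa [Subgroup.orderOf_mk] at this)
    split_ifs with hd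
    · rw [hχ0 g b hb (hbC.trans hd) hbg, zero_mul]
    · have hda := (hsplit g hg').resolve_left hd
      have h1 := hout g hg'
      rw [hψ0 g b hb (hbC.trans hda) hbg, sub_zero] at h1
      have h2 : (χ : G → ℂ) g = -δ := by
        rcases hδ with rfl | rfl
        · push_cast at h1 ⊢
          linear_combination h1
        · push_cast at h1 ⊢
          linear_combination -h1
      rw [h2, map_neg, map_intCast]
      rcases hδ with rfl | rfl <;> norm_num
  rw [sum_split K, Finset.sum_congr rfl hone, Finset.sum_congr rfl hR, Finset.sum_ite, Finset.sum_const_zero,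
    zero_add, Finset.sum_const, Finset.sum_const, nsmul_one, nsmul_one, hχ1, Complex.conj_natCast] at hnorm
  have hnorm' : q * q + (Finset.univ.filter (Ins K)).card +
      ((Finset.univ.filter (Out K)).filter fun g => ¬ Nat.card (Subgroup.centralizer ({g} : Set G)) ∣ q).card
      = Nat.card G := by exact_mod_cast hnorm
  have h3 := Finset.card_filter_add_card_filter_not (s := Finset.univ.filter (Out K))
    (fun g => Nat.card (Subgroup.centralizer ({g} : Set G)) ∣ q)
  have h4 := h.card_out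
  have h5 : (Finset.univ.filter (Ins K)).card = numInv G * (Nat.card K - 1) := by
    rw [← h.card_ins, Nat.card_eq_fintype_card, Fintype.card_subtype]
  rw [Nat.card_eq_fintype_card, Fintype.card_subtype, sq, ← Finset.filter_filter]
  omega

/-- The case `|K| = 2`. -/
lemma shape_two (h : Hyp t K s) (hk : Nat.card K = 2) :
    ∃ (δ : ℤ) (q a : ℕ), Shape K δ q a := by
  cases nonempty_fintype G
  have hcard := h.card_eq_inv
  rw [hk] at hcard
  have hn0 : 0 < numInv G := h.odd_inv.pos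
  have hdvd : ∀ g, Out K g → Nat.card (Subgroup.centralizer ({g} : Set G)) ∣ numInv G := by
    intro g hg
    refine Nat.Coprime.dvd_of_dvd_mul_right ?_ (hcard ▸ Subgroup.card_subgroup_dvd_card _)
    rw [show 2 * 2 = 2 ^ 2 by norm_num]
    exact Nat.Coprime.pow_right _ (Nat.coprime_two_right.2 (h.odd_cent hg))
  have hOut : (Finset.univ.filter (Out K)).card + 1 = 3 * numInv G := by
    have h4 := h.card_out
    rw [hk, ← hcard] at h4
    simp only [numInv] at h4 ⊢
    omega
  set cs : G → ℕ := fun g => Nat.card (Subgroup.centralizer ({g} : Set G))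
  set Iv := (Finset.univ.filter (Out K)).filter fun g => beta g ≠ 0 with hIv
  set V := Iv.image cs with hV
  have hdat : ∀ g ∈ Iv, Out K g ∧ ∃ u : G, orderOf u = 2 ∧ u * g * u⁻¹ = g⁻¹ := fun g hg =>
    ⟨(Finset.mem_filter.1 (Finset.mem_filter.1 hg).1).2, exists_inverting (Finset.mem_filter.1 hg).2⟩
  have hbeta : ∀ g ∈ Iv, beta g = cs g := fun g hg => by
    obtain ⟨hg', u, hu, hug⟩ := hdat g hg
    exact (h.out_inverted hg' hu hug).2.2.2.2
  have hVprop : ∀ a ∈ V, 3 ≤ a ∧ Odd a ∧ a ∣ numInv G ∧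
      (Iv.filter fun g => cs g = a).card * a = 2 * numInv G * (a - 1) := by
    intro a ha
    obtain ⟨g, hg, rfl⟩ := Finset.mem_image.1 ha
    obtain ⟨hg', u, hu, hug⟩ := hdat g hg
    obtain ⟨hodd, hinv, hcA, hcomm, -⟩ := h.out_inverted hg' hu hug
    have h3 : 3 ≤ cs g := by
      have hne : cs g ≠ 1 := fun e => by
        have := Subgroup.card_eq_one.1 e
        exact hg'.1 (by simpa [this] using mem_cent_self g)
      obtain ⟨r, hr⟩ := hodd
      change 3 ≤ Nat.card _
      change Nat.card _ ≠ 1 at hne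
      omega
    refine ⟨h3, hodd, hdvd g hg', ?_⟩
    obtain ⟨c, hc⟩ := isConj_iff.1 (h.hconj t u h.ht hu)
    obtain ⟨D, huD, -, -, hN, hDk, -, -⟩ := h.normalizer_inverted hg' hu hug c hc
    have hD2 : Nat.card D = 2 := by
      rw [hk] at hDk
      rcases (Nat.dvd_prime Nat.prime_two).1 hDk with e | e
      · rw [Subgroup.card_eq_one.1 e, Subgroup.mem_bot] at huD
        exact absurd huD (ne_one hu)
      · exact e
    have h5 := card_conj_TI (Subgroup.centralizer ({g} : Set G))
      (Subgroup.normalizer (Subgroup.centralizer ({g} : Set G) : Set G))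
      (fun x y hy hy1 hxy => h.mem_normalizer_cent hg' hu hug hy hy1 hxy)
      (fun n hn b hb => (Subgroup.mem_normalizer_iff.1 hn b).1 hb)
    rw [hN, hD2, ← hcard] at h5
    have e : Nat.card {y : G // y ≠ 1 ∧ ∃ x : G, x * y * x⁻¹ ∈ Subgroup.centralizer ({g} : Set G)} =
        (Iv.filter fun y => cs y = cs g).card := by
      rw [Nat.card_eq_fintype_card, Fintype.card_subtype]
      congr 1
      ext y
      simp only [Finset.mem_filter, Finset.mem_univ, true_and]
      constructor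
      · rintro ⟨hy1, x, hx⟩
        have hxy1 : x * y * x⁻¹ ≠ 1 := by rwa [ne_eq, conj_eq_one_iff]
        obtain ⟨hxo, hxC⟩ := hcA _ hx hxy1
        have hyo : Out K y := by simpa [mul_assoc] using out_conj x⁻¹ hxo
        have hb := (h.out_inverted hxo hu (hinv _ hx)).2.2.2.2
        rw [beta_conj] at hb
        refine ⟨Finset.mem_filter.2 ⟨Finset.mem_filter.2 ⟨Finset.mem_univ _, hyo⟩, ?_⟩, ?_⟩
        · rw [hb]; exact Nat.card_pos.ne'
        · change Nat.card _ = Nat.card _
          rw [← card_cent_conj y x, hxC]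
      · rintro ⟨hy, hyc⟩
        obtain ⟨hy', u', hu', huy⟩ := hdat y hy
        refine ⟨hy'.1, ?_⟩
        obtain ⟨p, hp, hpd⟩ := Nat.exists_prime_and_dvd (n := cs g) (by omega)
        haveI : Fact p.Prime := ⟨hp⟩
        exact h.inverted_conj hy' hu' huy hg' hu hug p (by rw [show Nat.card _ = cs y from rfl, hyc]; exact hpd) hpd
    rw [e] at h5
    have h6 : (Iv.filter fun y => cs y = cs g).card * cs g * 2 = 2 * numInv G * (cs g - 1) * 2 := by
      rw [mul_assoc]
      calc _ = _ := h5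
        _ = _ := by unfold numInv; ring
    omega
  have hpair := h.pair_equation
  rw [hk, show ∑ g ∈ Finset.univ.filter (Out K), beta g = ∑ g ∈ Iv, beta g from
    (Finset.sum_filter_ne_zero _).symm, Finset.sum_congr rfl hbeta,
    ← Finset.sum_fiberwise_of_maps_to (fun g hg => Finset.mem_image_of_mem cs hg) cs,
    Finset.sum_congr rfl fun a ha => show ∑ g ∈ Iv.filter (fun g => cs g = a), cs g = 2 * numInv G * (a - 1) by
      rw [Finset.sum_congr rfl fun g hg => (Finset.mem_filter.1 hg).2, Finset.sum_const, smul_eq_mul]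
      exact (hVprop a ha).2.2.2, ← Finset.mul_sum] at hpair
  have hn3 : numInv G = 3 + 2 * ∑ a ∈ V, (a - 1) := by
    apply Nat.eq_of_mul_eq_mul_left hn0
    change numInv G * numInv G = _
    rw [← sq, hpair]
    ring
  have hIvle : ∑ a ∈ V, (Iv.filter fun g => cs g = a).card + 1 ≤ 3 * numInv G := by
    rw [← Finset.card_eq_sum_card_image, ← hOut]
    exact Nat.succ_le_succ (Finset.card_filter_le _ _)
  have hV2 : V.card ≤ 2 := by
    by_contra hcon
    obtain ⟨W, hWV, hW⟩ := Finset.exists_subset_card_eq (show 3 ≤ V.card by omega)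
    have h5 : ∀ a ∈ W, 4 * numInv G ≤ 3 * (Iv.filter fun g => cs g = a).card := fun a ha => by
      obtain ⟨h3, -, -, he⟩ := hVprop a (hWV ha)
      obtain ⟨b, rfl⟩ : ∃ b, a = b + 3 := ⟨a - 3, by omega⟩
      rw [show b + 3 - 1 = b + 2 by omega] at he
      nlinarith
    have h6 := Finset.sum_le_sum h5
    rw [Finset.sum_const, hW, smul_eq_mul, ← Finset.mul_sum] at h6
    have h7 : ∑ a ∈ W, (Iv.filter fun g => cs g = a).card ≤ ∑ a ∈ V, (Iv.filter fun g => cs g = a).card :=
      Finset.sum_le_sum_of_subset hWV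
    omega
  obtain hc | hc | hc : V.card = 0 ∨ V.card = 1 ∨ V.card = 2 := by omega
  · -- `n = 3`
    rw [Finset.card_eq_zero.1 hc, Finset.sum_empty, mul_zero, add_zero] at hn3
    refine ⟨-1, 3, 1, Or.inr rfl, by rw [hk]; norm_num, by rw [hk]; norm_num, hn3, fun g hg => Or.inl (hn3 ▸ hdvd g hg), ?_⟩
    rw [Nat.card_eq_fintype_card, Fintype.card_subtype,
      show (Finset.univ.filter fun g => Out K g ∧ Nat.card (Subgroup.centralizer ({g} : Set G)) ∣ 3) =
        Finset.univ.filter (Out K) from Finset.filter_congr fun g _ => ⟨And.left, fun hg => ⟨hg, hn3 ▸ hdvd g hg⟩⟩]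
    omega
  · exfalso
    obtain ⟨a, ha⟩ := Finset.card_eq_one.1 hc
    obtain ⟨h3, -, hd, -⟩ := hVprop a (by rw [ha]; simp)
    rw [ha, Finset.sum_singleton] at hn3
    have : numInv G = 2 * a + 1 := by omega
    rw [this] at hd
    have := Nat.le_of_dvd one_pos ((Nat.dvd_add_right (dvd_mul_left a 2)).1 hd)
    omega
  · obtain ⟨a, b, hab, hVab⟩ := Finset.card_eq_two.1 hc
    obtain ⟨ha3, ⟨i, hi⟩, -, hea⟩ := hVprop a (by rw [hVab]; simp)
    obtain ⟨hb3, ⟨j, hj⟩, -, heb⟩ := hVprop b (by rw [hVab]; simp)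
    rw [hVab, Finset.sum_pair hab] at hn3 hIvle
    set A := (Iv.filter fun g => cs g = a).card
    set B := (Iv.filter fun g => cs g = b).card
    have hlt : a * b < 2 * a + 2 * b := by
      obtain ⟨a', rfl⟩ : ∃ a', a = a' + 1 := ⟨a - 1, by omega⟩
      obtain ⟨b', rfl⟩ : ∃ b', b = b' + 1 := ⟨b - 1, by omega⟩
      rw [Nat.add_sub_cancel] at hea heb
      have h8 := Nat.mul_le_mul_right ((a' + 1) * (b' + 1)) hIvle
      nlinarith
    have hcases : (a = 3 ∧ b = 5) ∨ (a = 5 ∧ b = 3) := by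
      have : a ≤ 5 ∧ b ≤ 5 := ⟨by nlinarith, by nlinarith⟩
      obtain ⟨ha5, hb5⟩ := this
      interval_cases a <;> interval_cases b <;> omega
    have hn15 : numInv G = 15 := by rcases hcases with ⟨rfl, rfl⟩ | ⟨rfl, rfl⟩ <;> omega
    have hIvcard : Iv.card = A + B := by
      rw [Finset.card_eq_sum_card_image cs, ← hV, hVab, Finset.sum_pair hab]
    have hAll : Iv = Finset.univ.filter (Out K) := by
      refine Finset.eq_of_subset_of_card_le (Finset.filter_subset _ _) ?_
      rw [hIvcard]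
      rw [hn15] at hea heb hOut
      rcases hcases with ⟨rfl, rfl⟩ | ⟨rfl, rfl⟩ <;> omega
    have hval : ∀ g, Out K g → cs g = a ∨ cs g = b := by
      intro g hg
      have : cs g ∈ V := Finset.mem_image_of_mem cs (by rw [hAll]; simp [hg])
      rw [hVab] at this
      simpa using this
    refine ⟨1, 5, 3, Or.inl rfl, by rw [hk]; norm_num, by rw [hk]; norm_num, hn15, fun g hg => ?_, ?_⟩
    · rcases hcases with ⟨rfl, rfl⟩ | ⟨rfl, rfl⟩ <;> rcases hval g hg with e | e <;>
        change cs g ∣ _ ∨ cs g ∣ _ <;> simp [e]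
    · rw [Nat.card_eq_fintype_card, Fintype.card_subtype, ← Finset.filter_filter, ← hAll,
        show (Iv.filter fun g => Nat.card (Subgroup.centralizer ({g} : Set G)) ∣ 5) =
          Iv.filter fun g => cs g = 5 from Finset.filter_congr fun g hg => ?_]
      · rw [hn15] at hea heb
        rcases hcases with ⟨rfl, rfl⟩ | ⟨rfl, rfl⟩
        · show B + 1 = 5 ^ 2
          omega
        · show A + 1 = 5 ^ 2
          omega
      · rw [hAll] at hg
        rcases hcases with ⟨rfl, rfl⟩ | ⟨rfl, rfl⟩ <;> rcases hval g (Finset.mem_filter.1 hg).2 with e | e <;>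
          simp only [show Nat.card _ = cs g from rfl, e] <;> norm_num

/-- The order formula. -/
theorem exists_shape (h : Hyp t K s) : ∃ (δ : ℤ) (q a : ℕ), Shape K δ q a := by
  obtain ⟨j, hj⟩ := h.even_card
  rcases Nat.lt_or_ge (Nat.card K) 4 with hk | hk
  · have := Nat.card_pos (α := K)
    exact shape_two h (by omega)
  · exact shape_large h hk

end CfsgLib.Characterizations.BSW
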