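import Cfsg.Agent.Lib.Characterizations.BSWShape
import Mathlib.GroupTheory.SchurZassenhaus

/-!
# The Brauer–Suzuki–Wall configuration: the subgroups `Q` and `D`
-/

set_option autoImplicit false

open scoped Classical

namespace CfsgLib.Characterizations.BSW

open CfsgLib.Involution.Dihedral

variable {G : Type*} [Group G]

lemma normalizer_map_conj (X : Subgroup G) (c : G) :
    Subgroup.normalizer (X.map (MulAut.conj c).toMonoidHom : Set G) =
      (Subgroup.normalizer (X : Set G)).map (MulAut.conj c).toMonoidHom :=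
  (Subgroup.map_normalizer_eq_of_bijective X (f := (MulAut.conj c).toMonoidHom)
    (MulAut.conj c).bijective).symm

/-- Non-trivial subgroups of `K` have normalizer `C(t)`. -/
lemma Hyp.normalizer_eq {t s : G} {K : Subgroup G} (h : Hyp t K s) {X : Subgroup G} (hX : X ≤ K)
    (hX1 : X ≠ ⊥) : Subgroup.normalizer (X : Set G) = Subgroup.centralizer ({t} : Set G) := by
  refine le_antisymm (fun g hg => ?_) (fun g hg => ?_)
  · obtain ⟨⟨y, hy⟩, hy1⟩ := (Subgroup.ne_bot_iff_exists_ne_one).1 hX1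
    exact h.ti (hX hy) (fun e => hy1 (Subtype.ext e)) (hX ((Subgroup.mem_normalizer_iff.1 hg y).1 hy))
  · have key : ∀ n ∈ Subgroup.centralizer ({t} : Set G), ∀ z ∈ X, n * z * n⁻¹ ∈ X := by
      intro n hn z hz
      by_cases hnK : n ∈ K
      · rwa [h.comm hnK (hX hz), mul_inv_cancel_right]
      · rw [(h.of_notMem hn hnK).2 z (hX hz)]; exact inv_mem hz
    rw [Subgroup.mem_normalizer_iff]
    refine fun z => ⟨key g hg z, fun hz => ?_⟩
    simpa [mul_assoc] using key g⁻¹ (inv_mem hg) _ hz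

variable [Finite G] {t s : G} {K : Subgroup G} {δ : ℤ} {q a : ℕ}

lemma Shape.card_G (h : Hyp t K s) (S : Shape K δ q a) : Nat.card G = 2 * Nat.card K * (q * a) := by
  rw [← h.card_eq_inv, ← S.hn]; ring

lemma Shape.coprime (S : Shape K δ q a) : q.Coprime (2 * Nat.card K * a) := by
  obtain ⟨hδ, hq, ha⟩ := S.hδ, S.hq, S.ha
  have h2 : Nat.Coprime q 2 := by
    rw [Nat.coprime_two_right]
    rcases hδ with rfl | rfl
    · exact ⟨Nat.card K, by omega⟩
    · exact ⟨Nat.card K - 1, by have := Nat.card_pos (α := K); omega⟩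
  have hk : Nat.Coprime q (Nat.card K) := by
    rw [← Nat.isCoprime_iff_coprime]
    rcases hδ with rfl | rfl
    · exact ⟨1, -2, by linarith⟩
    · exact ⟨-1, 2, by linarith⟩
  have ha' : Nat.Coprime q a := by
    rw [← Nat.isCoprime_iff_coprime]
    rcases hδ with rfl | rfl
    · exact ⟨-1, 2, by linarith⟩
    · exact ⟨1, -2, by linarith⟩
  exact (h2.mul_right hk).mul_right ha'

/-- Elements with centralizer orders dividing both `q` and `a` do not exist. -/
lemma Shape.not_both (S : Shape K δ q a) {g : G} (hg : Out K g)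
    (h1 : Nat.card (Subgroup.centralizer ({g} : Set G)) ∣ q)
    (h2 : Nat.card (Subgroup.centralizer ({g} : Set G)) ∣ a) : False := by
  have h3 : Nat.card (Subgroup.centralizer ({g} : Set G)) ∣ Nat.gcd q a := Nat.dvd_gcd h1 h2
  rw [(Nat.Coprime.coprime_mul_left_right S.coprime).gcd_eq_one, Nat.dvd_one] at h3
  have := Subgroup.card_eq_one.1 h3
  exact hg.1 (by simpa [this] using mem_cent_self g)

lemma orderOf_dvd_cent (g : G) : orderOf g ∣ Nat.card (Subgroup.centralizer ({g} : Set G)) := by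
  have := orderOf_dvd_natCard (⟨g, mem_cent_self g⟩ : Subgroup.centralizer ({g} : Set G))
  rwa [Subgroup.orderOf_mk] at this

/-- An element commuting with an element whose centralizer order divides `q` is of the same kind. -/
lemma Shape.cent_q (h : Hyp t K s) (S : Shape K δ q a) {g y : G} (hg : Out K g)
    (hgq : Nat.card (Subgroup.centralizer ({g} : Set G)) ∣ q)
    (hy : y ∈ Subgroup.centralizer ({g} : Set G)) (hy1 : y ≠ 1) :
    Out K y ∧ Nat.card (Subgroup.centralizer ({y} : Set G)) ∣ q := by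
  have hyo := h.out_cent hg hy hy1
  refine ⟨hyo, (S.split y hyo).resolve_right fun hya => ?_⟩
  have hgy : g ∈ Subgroup.centralizer ({y} : Set G) :=
    Subgroup.mem_centralizer_singleton_iff.2 (Subgroup.mem_centralizer_singleton_iff.1 hy).symm
  have h1 : orderOf g ∣ a := by
    have := (orderOf_dvd_natCard (⟨g, hgy⟩ : Subgroup.centralizer ({y} : Set G))).trans hya
    rwa [Subgroup.orderOf_mk] at this
  have h2 : orderOf g ∣ Nat.gcd q a := Nat.dvd_gcd ((orderOf_dvd_cent g).trans hgq) h1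
  rw [(Nat.Coprime.coprime_mul_left_right S.coprime).gcd_eq_one, Nat.dvd_one, orderOf_eq_one_iff] at h2
  exact hg.1 h2

lemma Shape.exists_q (h : Hyp t K s) (S : Shape K δ q a) :
    ∃ x : G, Out K x ∧ Nat.card (Subgroup.centralizer ({x} : Set G)) ∣ q := by
  have hq : 2 ≤ q := by
    have hq' := S.hq
    have h3 := S.cardR
    have := Nat.card_pos (α := K)
    obtain ⟨j, hj⟩ := h.even_card
    by_contra hlt
    rcases S.hδ with hd | hd <;> rw [hd] at hq' <;> omega
  have h1 := S.cardR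
  have h2 : 4 ≤ q ^ 2 := by nlinarith
  have h3 : Nat.card {g : G // Out K g ∧ Nat.card (Subgroup.centralizer ({g} : Set G)) ∣ q} ≠ 0 := by omega
  obtain ⟨x, hx⟩ := (Nat.card_ne_zero.1 h3).1
  exact ⟨x, hx⟩

lemma Shape.cardR' [Fintype G] (S : Shape K δ q a) :
    ((Finset.univ.filter (Out K)).filter fun g => Nat.card (Subgroup.centralizer ({g} : Set G)) ∣ q).card + 1
      = q ^ 2 := by
  rw [← S.cardR, Nat.card_eq_fintype_card, Fintype.card_subtype, Finset.filter_filter]

/-- The upper bound on the pair counts outside the conjugates of `K`. -/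
lemma Shape.beta_bound [Fintype G] (h : Hyp t K s) (S : Shape K δ q a)
    {g : G} (hg : g ∈ Finset.univ.filter (Out K)) :
    beta g ≤ if Nat.card (Subgroup.centralizer ({g} : Set G)) ∣ q then q else a := by
  have hg' := (Finset.mem_filter.1 hg).2
  have hk := Nat.card_pos (α := K)
  have hq0 : 0 < q := by have := S.hq; rcases S.hδ with e | e <;> rw [e] at this <;> omega
  have ha0 : 0 < a := by
    have := S.ha
    obtain ⟨j, hj⟩ := h.even_card
    rcases S.hδ with e | e <;> rw [e] at this <;> omega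
  refine (beta_le g).trans ?_
  split_ifs with hd
  · exact Nat.le_of_dvd hq0 hd
  · exact Nat.le_of_dvd ha0 ((S.split g hg').resolve_left hd)

section Pos

/-- For `q ≡ 1 (mod 4)` every element outside the conjugates of `K` is inverted. -/
lemma Shape.pos_real (h : Hyp t K s) (S : Shape K 1 q a) {g : G} (hg : Out K g)
    (hgq : Nat.card (Subgroup.centralizer ({g} : Set G)) ∣ q) :
    beta g = q ∧ Nat.card (Subgroup.centralizer ({g} : Set G)) = q := by
  cases nonempty_fintype G
  have hp := h.pair_equation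
  have hb := fun g hg => S.beta_bound h (g := g) hg
  have hR := S.cardR'
  have hO := h.card_out
  have hsum : ∑ g ∈ Finset.univ.filter (Out K),
      (if Nat.card (Subgroup.centralizer ({g} : Set G)) ∣ q then q else a) =
      ∑ g ∈ Finset.univ.filter (Out K), beta g := by
    rw [Finset.sum_ite, Finset.sum_const, Finset.sum_const, smul_eq_mul, smul_eq_mul]
    have h3 := Finset.card_filter_add_card_filter_not (s := Finset.univ.filter (Out K))
      (fun g => Nat.card (Subgroup.centralizer ({g} : Set G)) ∣ q)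
    set R := ((Finset.univ.filter (Out K)).filter fun g => Nat.card (Subgroup.centralizer ({g} : Set G)) ∣ q).card
    set A := ((Finset.univ.filter (Out K)).filter fun g => ¬ Nat.card (Subgroup.centralizer ({g} : Set G)) ∣ q).card
    set T := ∑ g ∈ Finset.univ.filter (Out K), beta g
    rw [← h3, S.card_G h, S.hn] at hO
    rw [show Nat.card {x : G // orderOf x = 2} = q * a from S.hn] at hp
    have hq : q = 2 * Nat.card K + 1 := by have := S.hq; omega
    have ha : a = Nat.card K + 1 := by have := S.ha; omega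
    obtain ⟨k, hk⟩ : ∃ k, Nat.card K = k + 1 := ⟨Nat.card K - 1, by have := Nat.card_pos (α := K); omega⟩
    rw [hk] at hq ha hO hp
    rw [Nat.add_sub_cancel] at hO hp
    subst hq ha
    zify at hR hO hp ⊢
    linear_combination hp + (2 * ((k : ℤ) + 1) + 1) * hR + ((k : ℤ) + 1 + 1) * (hO - hR)
  have heq := (Finset.sum_eq_sum_iff_of_le hb).1 hsum.symm g (by simpa using hg)
  rw [if_pos hgq] at heq
  refine ⟨heq, le_antisymm (Nat.le_of_dvd ?_ hgq) (heq ▸ beta_le g)⟩
  have := S.hq
  omega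

theorem pos_structure (h : Hyp t K s) (S : Shape K 1 q a) :
    ∃ Q D : Subgroup G, 2 * Nat.card G = Nat.card ↥Q * (Nat.card ↥Q + 1) * (Nat.card ↥Q - 1) ∧
      (∀ x ∈ Q, x ≠ 1 → Subgroup.centralizer ({x} : Set G) = Q) ∧
      IsMulCommutative ↥D ∧ 2 * Nat.card ↥D + 1 = Nat.card ↥Q ∧ Q ⊓ D = ⊥ ∧
      Subgroup.normalizer (Q : Set G) = Q ⊔ D ∧
      (∀ X : Subgroup G, X ≤ D → X ≠ ⊥ →
        Subgroup.normalizer (X : Set G) = Subgroup.normalizer (D : Set G) ∧
        ∃ u : G, orderOf u = 2 ∧ u ∉ D ∧ (∀ d ∈ D, u * d * u⁻¹ = d⁻¹) ∧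
          Subgroup.normalizer (D : Set G) = D ⊔ Subgroup.zpowers u) ∧
      ∀ d ∈ D, d ≠ 1 → ∀ g : G, g * d * g⁻¹ ∈ D → g ∈ Subgroup.normalizer (D : Set G) := by
  cases nonempty_fintype G
  obtain ⟨x, hx, hxq⟩ := S.exists_q h
  obtain ⟨hbx, hcx⟩ := S.pos_real h hx hxq
  have hqk : q = 2 * Nat.card K + 1 := by have := S.hq; omega
  have hak : a = Nat.card K + 1 := by have := S.ha; omega
  obtain ⟨u, hu, hux⟩ := exists_inverting (g := x) (by rw [hbx]; omega)
  obtain ⟨-, hinv, hcA, -, -⟩ := h.out_inverted hx hu hux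
  obtain ⟨c, hc⟩ := isConj_iff.1 (h.hconj t u h.ht hu)
  obtain ⟨D, -, hDK, hDN, hN, hDk, -, hfac⟩ := h.normalizer_inverted hx hu hux c hc
  set Q := Subgroup.centralizer ({x} : Set G) with hQ
  have hcardK : Nat.card (K.map (MulAut.conj c).toMonoidHom) = Nat.card K :=
    Subgroup.card_map_of_injective (MulAut.conj c).injective
  -- the conjugates of the non-identity elements of `Q`
  have hfam := card_conj_TI Q (Subgroup.normalizer (Q : Set G))
    (fun z y hy hy1 hzy => h.mem_normalizer_cent hx hu hux hy hy1 hzy)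
    (fun n hn b hb => (Subgroup.mem_normalizer_iff.1 hn b).1 hb)
  have hle : Nat.card {g : G // g ≠ 1 ∧ ∃ z : G, z * g * z⁻¹ ∈ Q} + 1 ≤ q ^ 2 := by
    rw [← S.cardR]
    refine Nat.succ_le_succ (Nat.card_le_card_of_injective
      (fun g => ⟨g.1, ?_⟩) (fun g g' e => Subtype.ext (congrArg (fun z => z.1) e)))
    obtain ⟨hg1, z, hz⟩ := g.2
    obtain ⟨ho, hd⟩ := S.cent_q h hx hxq hz (by rwa [ne_eq, conj_eq_one_iff])
    exact ⟨by simpa [mul_assoc] using out_conj z⁻¹ ho, by rwa [← card_cent_conj g.1 z]⟩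
  have hDcard : Nat.card D = Nat.card K := by
    refine le_antisymm (Nat.le_of_dvd Nat.card_pos hDk) ?_
    rw [hN, hcx, S.card_G h] at hfam
    set F := Nat.card {g : G // g ≠ 1 ∧ ∃ z : G, z * g * z⁻¹ ∈ Q}
    have hF : F ≤ 4 * Nat.card K * a := by nlinarith
    have h2 : 2 * Nat.card K * (q * a) * (q - 1) ≤ 4 * Nat.card K * a * (q * Nat.card D) :=
      hfam ▸ Nat.mul_le_mul_right _ hF
    rw [show q - 1 = 2 * Nat.card K by omega] at h2
    have h3 : Nat.card K * (4 * Nat.card K * a * q) ≤ Nat.card D * (4 * Nat.card K * a * q) := by linarith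
    exact Nat.le_of_mul_le_mul_right h3
      (Nat.mul_pos (Nat.mul_pos (Nat.mul_pos (by norm_num) Nat.card_pos) (by omega)) (by omega))
  obtain rfl : D = K.map (MulAut.conj c).toMonoidHom :=
    Subgroup.eq_of_le_of_card_ge hDK (by rw [hcardK, hDcard])
  refine ⟨Q, K.map (MulAut.conj c).toMonoidHom, ?_, fun y hy hy1 => (hcA y hy hy1).2, ⟨⟨?_⟩⟩, ?_, ?_, ?_, ?_, ?_⟩
  · rw [hcx, S.card_G h, hak]
    rw [show q + 1 = 2 * (Nat.card K + 1) by omega, show q - 1 = 2 * Nat.card K by omega]
    ring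
  · rintro ⟨_, y, hy, rfl⟩ ⟨_, z, hz, rfl⟩
    exact Subtype.ext (by rw [Subgroup.coe_mul, Subgroup.coe_mul, ← map_mul, ← map_mul, h.comm hy hz])
  · rw [hcx, hDcard, hqk]
  · refine (disjoint_iff).1 (Subgroup.disjoint_of_coprime_natCard ?_)
    rw [hcx, hDcard, ← Nat.isCoprime_iff_coprime]
    exact ⟨1, -2, by have := S.hq; linarith⟩
  · refine le_antisymm (fun n hn => ?_) (sup_le Subgroup.le_normalizer hDN)
    obtain ⟨b, hb, d, hd, rfl⟩ := hfac n hn
    exact Subgroup.mul_mem_sup hb hd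
  · intro X hX hX1
    have hH : (Subgroup.centralizer ({t} : Set G)).map (MulAut.conj c).toMonoidHom =
        Subgroup.centralizer ({u} : Set G) := by
      ext z
      rw [← hc, mem_cent_conj]
      constructor
      · rintro ⟨w, hw, rfl⟩
        simpa [mul_assoc] using hw
      · exact fun hz => ⟨_, hz, by simp [mul_assoc]⟩
    have hN' : ∀ Y : Subgroup G, Y ≤ K.map (MulAut.conj c).toMonoidHom → Y ≠ ⊥ →
        Subgroup.normalizer (Y : Set G) = Subgroup.centralizer ({u} : Set G) := by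
      intro Y hY hY1
      obtain ⟨Y', rfl⟩ : ∃ Y' : Subgroup G, Y = Y'.map (MulAut.conj c).toMonoidHom :=
        ⟨Y.comap (MulAut.conj c).toMonoidHom,
          (Subgroup.map_comap_eq_self_of_surjective (MulAut.conj c).surjective Y).symm⟩
      rw [normalizer_map_conj, h.normalizer_eq ((Subgroup.map_le_map_iff_of_injective (MulAut.conj c).injective).1 hY)
        (fun e => hY1 (by rw [e, Subgroup.map_bot])), hH]
    have hD1 : K.map (MulAut.conj c).toMonoidHom ≠ ⊥ := fun e => hX1 (le_bot_iff.1 (e ▸ hX))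
    refine ⟨(hN' X hX hX1).trans (hN' _ le_rfl hD1).symm, c * s * c⁻¹, by rw [orderOf_conj, h.hs], ?_, ?_, ?_⟩
    · rintro ⟨y, hy, hye⟩
      have : y = s := by simpa [mul_assoc] using hye
      exact h.hsK (this ▸ hy)
    · rintro d ⟨y, hy, rfl⟩
      show c * s * c⁻¹ * (c * y * c⁻¹) * (c * s * c⁻¹)⁻¹ = (c * y * c⁻¹)⁻¹
      rw [show c * s * c⁻¹ * (c * y * c⁻¹) * (c * s * c⁻¹)⁻¹ = c * (s * y * s⁻¹) * c⁻¹ by group, h.hinv y hy]
      group
    · rw [hN' _ le_rfl hD1, ← hH, ← h.hH, Subgroup.map_sup, MonoidHom.map_zpowers]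
      rfl
  · rintro _ ⟨y, hy, rfl⟩ hy1 g ⟨z, hz, hzg⟩
    have hy1' : y ≠ 1 := fun e => hy1 (by rw [e, map_one])
    have hzg' : c * z * c⁻¹ = g * (c * y * c⁻¹) * g⁻¹ := hzg
    have h1 : c⁻¹ * g * c ∈ Subgroup.centralizer ({t} : Set G) := h.ti hy hy1' (by
      rw [show c⁻¹ * g * c * y * (c⁻¹ * g * c)⁻¹ = c⁻¹ * (g * (c * y * c⁻¹) * g⁻¹) * c by group, ← hzg',
        show c⁻¹ * (c * z * c⁻¹) * c = z by group]
      exact hz)
    have hK1 : K ≠ ⊥ := fun e => hy1' (by simpa [e] using hy)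
    rw [normalizer_map_conj, h.normalizer_eq le_rfl hK1]
    exact ⟨_, h1, by simp [mul_assoc]⟩

end Pos

section Neg

lemma Shape.neg_facts (h : Hyp t K s) (S : Shape K (-1) q a) :
    q + 1 = 2 * Nat.card K ∧ a + 1 = Nat.card K ∧ 1 ≤ a ∧ 3 ≤ q := by
  have := S.hq
  have := S.ha
  obtain ⟨j, hj⟩ := h.even_card
  have := Nat.card_pos (α := K)
  omega

/-- For `q ≡ 3 (mod 4)` the elements of the first kind are not inverted by involutions. -/
lemma Shape.neg_not_real (h : Hyp t K s) (S : Shape K (-1) q a) {g : G} (hg : Out K g)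
    (hgq : Nat.card (Subgroup.centralizer ({g} : Set G)) ∣ q) : beta g = 0 := by
  cases nonempty_fintype G
  by_contra hb
  obtain ⟨hq, ha, ha1, hq3⟩ := S.neg_facts h
  obtain ⟨u, hu, hug⟩ := exists_inverting hb
  obtain ⟨hodd, -, hcA, -, hbeta⟩ := h.out_inverted hg hu hug
  obtain ⟨c, hc⟩ := isConj_iff.1 (h.hconj t u h.ht hu)
  obtain ⟨D, huD, -, -, hN, hDk, hDc, -⟩ := h.normalizer_inverted hg hu hug c hc
  set A := Subgroup.centralizer ({g} : Set G) with hA
  have hfam := card_conj_TI A (Subgroup.normalizer (A : Set G))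
    (fun z y hy hy1 hzy => h.mem_normalizer_cent hg hu hug hy hy1 hzy)
    (fun n hn b hb => (Subgroup.mem_normalizer_iff.1 hn b).1 hb)
  have hle : Nat.card {y : G // y ≠ 1 ∧ ∃ z : G, z * y * z⁻¹ ∈ A} + 1 ≤ q ^ 2 := by
    rw [← S.cardR]
    refine Nat.succ_le_succ (Nat.card_le_card_of_injective
      (fun y => ⟨y.1, ?_⟩) (fun y y' e => Subtype.ext (congrArg (fun z => z.1) e)))
    obtain ⟨hy1, z, hz⟩ := y.2
    obtain ⟨ho, hd⟩ := S.cent_q h hg hgq hz (by rwa [ne_eq, conj_eq_one_iff])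
    exact ⟨by simpa [mul_assoc] using out_conj z⁻¹ ho, by rwa [← card_cent_conj y.1 z]⟩
  rw [hN, S.card_G h] at hfam
  set F := Nat.card {y : G // y ≠ 1 ∧ ∃ z : G, z * y * z⁻¹ ∈ A}
  set b := Nat.card A with hb'
  have hb1 : b ≠ 1 := fun e => hg.1 (by
    have h5 := mem_cent_self g
    rwa [← hA, Subgroup.card_eq_one.1 e, Subgroup.mem_bot] at h5)
  have hF : F ≤ 4 * Nat.card K * a := by
    rw [← ha] at hq ⊢
    rw [show q = 2 * a + 1 by omega] at hle
    nlinarith
  have h2 : 2 * Nat.card K * (q * a) * (b - 1) ≤ 4 * Nat.card K * a * (b * Nat.card D) :=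
    hfam ▸ Nat.mul_le_mul_right _ hF
  have h3 : q * (b - 1) ≤ 2 * b * Nat.card D := by
    have hpos : 0 < 2 * Nat.card K * a := Nat.mul_pos (Nat.mul_pos two_pos Nat.card_pos) (by omega)
    refine le_of_mul_le_mul_left (a := 2 * Nat.card K * a) ?_ hpos
    linarith
  have hbpos : 0 < b := Nat.card_pos
  have hD : Nat.card D ≤ b - 1 := Nat.le_of_dvd (by omega) hDc
  -- the centralizer has order `q`
  obtain ⟨r, hr⟩ := hgq
  have hbq : b = q := by
    have h4 : q * (b - 1) ≤ 2 * b * (b - 1) := h3.trans (Nat.mul_le_mul_left _ hD)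
    have h5 : q ≤ 2 * b := Nat.le_of_mul_le_mul_right h4 (by omega)
    have hr2 : r ≤ 2 := by
      by_contra hlt
      have : b * 3 ≤ b * r := Nat.mul_le_mul_left _ (by omega)
      omega
    interval_cases r <;> omega
  -- so the complement has order two and `q = 3`
  rw [hbq] at h3 hDc
  have hd2 : Nat.card D ∣ 2 := by
    rw [show q - 1 = 2 * a by omega] at hDc
    refine (Nat.Coprime.dvd_of_dvd_mul_right ?_ hDc)
    exact Nat.Coprime.coprime_dvd_left hDk (by rw [← ha, Nat.coprime_self_add_left]; exact Nat.coprime_one_left _)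
  have hD2 : Nat.card D ≤ 2 := Nat.le_of_dvd two_pos hd2
  have hk2 : Nat.card K = 2 := by
    have h4 : q * (q - 1) ≤ q * 4 := by nlinarith
    have h5 := Nat.le_of_mul_le_mul_left h4 (by omega)
    obtain ⟨j, hj⟩ := h.even_card
    omega
  -- but then nothing is inverted
  have hp := h.pair_equation
  rw [hk2, show Nat.card {x : G // orderOf x = 2} = q * a from S.hn, show q = 3 by omega, show a = 1 by omega] at hp
  norm_num at hp
  exact hb (hp g hg)

lemma not_conj_inv_aux (h : Hyp t K s) (S : Shape K (-1) q a) {x : G} (hx : Out K x)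
    (hxq : Nat.card (Subgroup.centralizer ({x} : Set G)) ∣ q) : ¬ IsConj x x⁻¹ := by
  intro hconj
  obtain ⟨g, hg⟩ := isConj_iff.1 hconj
  set m := Nat.card (Subgroup.centralizer ({x} : Set G))
  have hg2 : g * g ∈ Subgroup.centralizer ({x} : Set G) := by
    have h1 : g * g * x * (g * g)⁻¹ = x := by
      calc g * g * x * (g * g)⁻¹ = g * (g * x * g⁻¹) * g⁻¹ := by group
        _ = g * x⁻¹ * g⁻¹ := by rw [hg]
        _ = (g * x * g⁻¹)⁻¹ := by group
        _ = x := by rw [hg, inv_inv]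
    exact Subgroup.mem_centralizer_singleton_iff.2 (mul_inv_eq_iff_eq_mul.1 h1)
  have hpow : (g * g) ^ m = 1 := congrArg Subtype.val (pow_card_eq_one' (x := (⟨g * g, hg2⟩ : Subgroup.centralizer ({x} : Set G))))
  obtain ⟨j, hj⟩ := h.odd_cent hx
  have hj' : m = 2 * j + 1 := hj
  set w := g ^ m with hw
  have hwinv : w * x * w⁻¹ = x⁻¹ := by
    have hgj : (g * g) ^ j ∈ Subgroup.centralizer ({x} : Set G) := pow_mem hg2 _
    have hwe : w = g * (g * g) ^ j := by rw [hw, hj', pow_succ', pow_mul, sq]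
    rw [hwe, mul_inv_rev, ← mul_assoc, mul_assoc g, Subgroup.mem_centralizer_singleton_iff.1 hgj,
      ← mul_assoc g, mul_inv_cancel_right, hg]
  have hw2 : w * w = 1 := by rw [hw, ← (Commute.refl g).mul_pow, hpow]
  have hw1 : w ≠ 1 := fun e => by
    rw [e, one_mul, inv_one, mul_one] at hwinv
    have hx2 : x * x = 1 := by nth_rewrite 2 [hwinv]; exact mul_inv_cancel x
    exact hx.2 (h.ins_of_involution (orderOf_eq_two hx2 hx.1))
  have hb := (h.out_inverted hx (orderOf_eq_two hw2 hw1) hwinv).2.2.2.2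
  rw [S.neg_not_real h hx hxq] at hb
  exact (Nat.card_pos.ne' hb.symm)

lemma card_fiber_conj (x y : G) (hxy : IsConj x y) :
    Nat.card {g : G // g⁻¹ * x * g = y} = Nat.card (Subgroup.centralizer ({x} : Set G)) := by
  obtain ⟨c, hc⟩ := isConj_iff.1 hxy
  refine Nat.card_congr
    ⟨fun g => ⟨g.1 * c, Subgroup.mem_centralizer_singleton_iff.2 ?_⟩, fun z => ⟨z.1 * c⁻¹, ?_⟩,
      fun g => Subtype.ext (mul_inv_cancel_right _ _), fun z => Subtype.ext (inv_mul_cancel_right _ _)⟩
  · have h1 := g.2.trans hc.symm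
    calc g.1 * c * x = g.1 * (c * x * c⁻¹) * c := by group
      _ = x * (g.1 * c) := by rw [← h1]; group
  · have h1 := Subgroup.mem_centralizer_singleton_iff.1 z.2
    calc ((z : G) * c⁻¹)⁻¹ * x * ((z : G) * c⁻¹) = c * ((z : G)⁻¹ * (x * (z : G))) * c⁻¹ := by group
      _ = y := by rw [← h1, inv_mul_cancel_left, hc]

lemma class_mul_cent (x : G) :
    Nat.card {g : G // IsConj x g} * Nat.card (Subgroup.centralizer ({x} : Set G)) = Nat.card G := by
  cases nonempty_fintype G
  rw [← CfsgLib.Char.card_conjugates_mul x,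
    Nat.card_congr (Equiv.subtypeEquivRight fun g : G => isConj_comm (g := g) (h := x))]

/-- For `q ≡ 3 (mod 4)` the elements of the first kind form two inverse classes. -/
lemma Shape.neg_classes (h : Hyp t K s) (S : Shape K (-1) q a) {x : G} (hx : Out K x)
    (hxq : Nat.card (Subgroup.centralizer ({x} : Set G)) ∣ q) :
    Nat.card (Subgroup.centralizer ({x} : Set G)) = q ∧
      ∀ r : G, Out K r → Nat.card (Subgroup.centralizer ({r} : Set G)) ∣ q → IsConj x r ∨ IsConj x⁻¹ r := by
  cases nonempty_fintype G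
  obtain ⟨hq, ha, ha1, hq3⟩ := S.neg_facts h
  set R := (Finset.univ.filter (Out K)).filter fun g => Nat.card (Subgroup.centralizer ({g} : Set G)) ∣ q with hRdef
  have hcard_inv : Nat.card (Subgroup.centralizer ({x⁻¹} : Set G)) = Nat.card (Subgroup.centralizer ({x} : Set G)) := by
    congr 2
    ext z
    simp only [Subgroup.mem_centralizer_singleton_iff]
    exact ⟨fun hz => by simpa using (Commute.inv_right hz).eq, fun hz => (Commute.inv_right hz).eq⟩
  have hsub : ∀ y, Out K y → Nat.card (Subgroup.centralizer ({y} : Set G)) ∣ q →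
      (Finset.univ.filter fun g => IsConj y g) ⊆ R := by
    intro y hy hyq g hg
    obtain ⟨c, rfl⟩ := isConj_iff.1 (Finset.mem_filter.1 hg).2
    refine Finset.mem_filter.2 ⟨Finset.mem_filter.2 ⟨Finset.mem_univ _, out_conj c hy⟩, ?_⟩
    rw [card_cent_conj]; exact hyq
  set C1 := Finset.univ.filter fun g => IsConj x g with hC1
  set C2 := Finset.univ.filter fun g => IsConj x⁻¹ g with hC2
  have h1 : C1.card * Nat.card (Subgroup.centralizer ({x} : Set G)) = Nat.card G := by
    rw [← class_mul_cent x, Nat.card_eq_fintype_card (α := {g : G // IsConj x g}), Fintype.card_subtype]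
  have h2 : C2.card * Nat.card (Subgroup.centralizer ({x} : Set G)) = Nat.card G := by
    rw [← class_mul_cent x⁻¹, hcard_inv, Nat.card_eq_fintype_card (α := {g : G // IsConj x⁻¹ g}),
      Fintype.card_subtype]
  have hdisj : Disjoint C1 C2 := Finset.disjoint_left.2 fun g hg1 hg2 =>
    not_conj_inv_aux h S hx hxq ((Finset.mem_filter.1 hg1).2.trans (Finset.mem_filter.1 hg2).2.symm)
  have hun : C1 ∪ C2 ⊆ R := Finset.union_subset (hsub x hx hxq) (hsub x⁻¹ (out_inv hx) (hcard_inv ▸ hxq))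
  have hR : R.card = 4 * Nat.card K * a := by
    have h3 : R.card + 1 = q ^ 2 := S.cardR'
    rw [← ha] at hq ⊢
    rw [show q = 2 * a + 1 by omega] at h3
    nlinarith
  obtain ⟨r, hr⟩ := hxq
  set c := Nat.card (Subgroup.centralizer ({x} : Set G))
  have hc0 : 0 < c := Nat.card_pos
  rw [S.card_G h, hr] at h1 h2
  have hC1' : C1.card = 2 * Nat.card K * a * r := Nat.eq_of_mul_eq_mul_right hc0 (h1.trans (by ring))
  have hC2' : C2.card = 2 * Nat.card K * a * r := Nat.eq_of_mul_eq_mul_right hc0 (h2.trans (by ring))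
  have hle := Finset.card_le_card hun
  rw [Finset.card_union_of_disjoint hdisj, hC1', hC2', hR] at hle
  have hr1 : r = 1 := by
    have hpos : 0 < 4 * Nat.card K * a := Nat.mul_pos (Nat.mul_pos (by norm_num) Nat.card_pos) (by omega)
    have : 4 * Nat.card K * a * r ≤ 4 * Nat.card K * a * 1 := by linarith
    have := Nat.le_of_mul_le_mul_left this hpos
    rcases Nat.eq_zero_or_pos r with rfl | hr0
    · omega
    · omega
  refine ⟨by rw [hr, hr1, mul_one], fun z hz hzq => ?_⟩
  have heq : C1 ∪ C2 = R := Finset.eq_of_subset_of_card_le hun (by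
    rw [Finset.card_union_of_disjoint hdisj, hC1', hC2', hR, hr1]; linarith)
  have hzR : z ∈ C1 ∪ C2 := by
    rw [heq]
    exact Finset.mem_filter.2 ⟨Finset.mem_filter.2 ⟨Finset.mem_univ _, hz⟩, hzq⟩
  rcases Finset.mem_union.1 hzR with h3 | h3
  · exact Or.inl (Finset.mem_filter.1 h3).2
  · exact Or.inr (Finset.mem_filter.1 h3).2

/-- The key count: conjugators moving a non-identity element of `C(x)` into `C(x)` move `x` there. -/
lemma Shape.neg_key (h : Hyp t K s) (S : Shape K (-1) q a) {x : G} (hx : Out K x)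
    (hxq : Nat.card (Subgroup.centralizer ({x} : Set G)) ∣ q) :
    Nat.card {g : G // g⁻¹ * x * g ∈ Subgroup.centralizer ({x} : Set G)} = q * a ∧
    ∀ g y : G, y ∈ Subgroup.centralizer ({x} : Set G) → y ≠ 1 →
      g⁻¹ * y * g ∈ Subgroup.centralizer ({x} : Set G) → g⁻¹ * x * g ∈ Subgroup.centralizer ({x} : Set G) := by
  cases nonempty_fintype G
  obtain ⟨hq, ha, ha1, hq3⟩ := S.neg_facts h
  obtain ⟨hcx, hcls⟩ := S.neg_classes h hx hxq
  set Q := Subgroup.centralizer ({x} : Set G) with hQ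
  have hQR := fun y hy hy1 => S.cent_q h hx hxq (y := y) hy hy1
  -- the conjugates of `x` in `Q`
  set Y := Finset.univ.filter fun y : G => y ∈ Q ∧ IsConj x y with hY
  have hYcard : Y.card = a := by
    set Y' := Finset.univ.filter fun y : G => y ∈ Q ∧ IsConj x⁻¹ y with hY'
    have hdisj : Disjoint Y Y' := Finset.disjoint_left.2 fun g hg1 hg2 =>
      not_conj_inv_aux h S hx hxq
        ((Finset.mem_filter.1 hg1).2.2.trans (Finset.mem_filter.1 hg2).2.2.symm)
    have hcongr : Y.card = Y'.card := by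
      refine Finset.card_bij (fun y _ => y⁻¹) (fun y hy => ?_) (fun y _ z _ e => inv_injective e) (fun y hy => ?_)
      · obtain ⟨hy1, hy2⟩ := (Finset.mem_filter.1 hy).2
        obtain ⟨c, rfl⟩ := isConj_iff.1 hy2
        exact Finset.mem_filter.2 ⟨Finset.mem_univ _, inv_mem hy1, isConj_iff.2 ⟨c, by group⟩⟩
      · obtain ⟨hy1, hy2⟩ := (Finset.mem_filter.1 hy).2
        obtain ⟨c, rfl⟩ := isConj_iff.1 hy2
        exact ⟨_, Finset.mem_filter.2 ⟨Finset.mem_univ _, inv_mem hy1, isConj_iff.2 ⟨c, by group⟩⟩, inv_inv _⟩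
    have hun : Y ∪ Y' = (Finset.univ.filter fun y : G => y ∈ Q).erase 1 := by
      ext y
      simp only [hY, hY', Finset.mem_union, Finset.mem_filter, Finset.mem_univ, true_and, Finset.mem_erase]
      constructor
      · rintro (⟨hy, hc⟩ | ⟨hy, hc⟩)
        · exact ⟨fun e => hx.1 (isConj_one_left.1 (e ▸ hc)), hy⟩
        · exact ⟨fun e => hx.1 (inv_eq_one.1 (isConj_one_left.1 (e ▸ hc))), hy⟩
      · rintro ⟨hy1, hy⟩
        obtain ⟨ho, hd⟩ := hQR y hy hy1
        rcases hcls y ho hd with hc | hc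
        · exact Or.inl ⟨hy, hc⟩
        · exact Or.inr ⟨hy, hc⟩
    have h3 := Finset.card_union_of_disjoint hdisj
    rw [hun, Finset.card_erase_of_mem (Finset.mem_filter.2 ⟨Finset.mem_univ _, Q.one_mem⟩),
      show (Finset.univ.filter fun y : G => y ∈ Q).card = Nat.card Q by
        rw [Nat.card_eq_fintype_card]; exact (Fintype.card_subtype _).symm, hcx] at h3
    omega
  set S1 := Finset.univ.filter fun g : G => g⁻¹ * x * g ∈ Q with hS1
  have hS1card : S1.card = q * a := by
    rw [Finset.card_eq_sum_card_fiberwise (t := Y) (f := fun g : G => g⁻¹ * x * g) (fun g hg =>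
      Finset.mem_filter.2 ⟨Finset.mem_univ _, (Finset.mem_filter.1 hg).2, isConj_iff.2 ⟨g⁻¹, by simp⟩⟩),
      Finset.sum_congr rfl fun y hy => show (S1.filter fun g => g⁻¹ * x * g = y).card = q by
        rw [← hcx, ← card_fiber_conj x y (Finset.mem_filter.1 hy).2.2, Nat.card_eq_fintype_card,
          Fintype.card_subtype, hS1, Finset.filter_filter]
        congr 1
        exact Finset.filter_congr fun g _ => ⟨And.right, fun e => ⟨by rw [e]; exact (Finset.mem_filter.1 hy).2.1, e⟩⟩,
      Finset.sum_const, smul_eq_mul, hYcard, mul_comm]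
  -- the normalizer and the involutions
  set M := Subgroup.normalizer (Q : Set G) with hM
  obtain ⟨e, he⟩ : Nat.card Q ∣ Nat.card M := Subgroup.card_dvd_of_le Subgroup.le_normalizer
  have hcop : q.Coprime e := by
    refine Nat.Coprime.coprime_dvd_right ?_ S.coprime
    have h5 : q * e ∣ q * (2 * Nat.card K * a) := by
      rw [← hcx, ← he, hcx, show q * (2 * Nat.card K * a) = Nat.card G by rw [S.card_G h]; ring]
      exact Subgroup.card_subgroup_dvd_card _
    exact Nat.dvd_of_mul_dvd_mul_left (by omega) h5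
  have hRM : ∀ r ∈ M, Out K r → Nat.card (Subgroup.centralizer ({r} : Set G)) ∣ q → r ∈ Q := by
    intro r hr ho hd
    have hle : Q ≤ M := Subgroup.le_normalizer
    have hidx : (Q.subgroupOf M).index = e := by
      have h5 := Subgroup.card_mul_index (Q.subgroupOf M)
      rw [Nat.card_congr (Subgroup.subgroupOfEquivOfLe hle).toEquiv, he] at h5
      exact Nat.eq_of_mul_eq_mul_left Nat.card_pos h5
    have h1 : r ^ e ∈ Q := by
      have h5 := Subgroup.pow_index_mem (Q.subgroupOf M) (⟨r, hr⟩ : M)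
      rwa [hidx, Subgroup.mem_subgroupOf, SubmonoidClass.coe_pow] at h5
    obtain ⟨m, hm⟩ := exists_pow_eq_self_of_coprime (x := r) (n := e)
      (Nat.Coprime.coprime_dvd_right ((orderOf_dvd_cent r).trans hd) hcop.symm)
    rw [← hm]
    exact pow_mem h1 m
  have hdisjQ : ∀ v : G, orderOf v = 2 → ∀ y ∈ Q, v * y * v⁻¹ ∈ Q → y = 1 := by
    intro v hv y hy hvy
    by_contra hy1
    set J := Q ⊓ Q.map (MulAut.conj v).toMonoidHom with hJ
    have hmemJ : ∀ z, z ∈ J ↔ z ∈ Q ∧ v * z * v⁻¹ ∈ Q := by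
      intro z
      rw [hJ, Subgroup.mem_inf, and_congr_right_iff]
      intro _
      constructor
      · rintro ⟨w, hw, rfl⟩
        show v * (v * w * v⁻¹) * v⁻¹ ∈ Q
        rwa [inv_eq hv, show v * (v * w * v) * v = (v * v) * w * (v * v) by group, mul_self hv, one_mul, mul_one]
      · intro hz
        refine ⟨_, hz, ?_⟩
        show v * (v * z * v⁻¹) * v⁻¹ = z
        rw [inv_eq hv, show v * (v * z * v) * v = (v * v) * z * (v * v) by group, mul_self hv, one_mul, mul_one]
    have hinv := (inverts_of_fpf hv (A := J) (fun z hz => by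
        rw [hmemJ] at hz ⊢
        refine ⟨hz.2, ?_⟩
        rw [inv_eq hv, show v * (v * z * v) * v = (v * v) * z * (v * v) by group, mul_self hv, one_mul, mul_one]
        exact hz.1) (fun z hz hvz => by
        by_contra hz1
        exact (hQR z (Subgroup.mem_inf.1 hz).1 hz1).1.2 (h.ins_of_comm (h.ins_of_involution hv) hvz.symm hz1))).1
      y ((hmemJ y).2 ⟨hy, hvy⟩)
    obtain ⟨ho, hd⟩ := hQR y hy hy1
    have hb := (h.out_inverted ho hv hinv).2.2.2.2
    rw [S.neg_not_real h ho hd] at hb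
    exact Nat.card_pos.ne' hb.symm
  set I := Finset.univ.filter fun v : G => orderOf v = 2 with hI
  set MF := Finset.univ.filter fun g : G => g ∈ M with hMF
  set W := (I ×ˢ MF).image fun p => p.1 * p.2 with hW
  have hWcard : q * q * a ≤ W.card := by
    have hIc : I.card = q * a := by
      rw [← S.hn, numInv, Nat.card_eq_fintype_card]; exact (Fintype.card_subtype _).symm
    have hMc : MF.card = Nat.card M := by
      rw [Nat.card_eq_fintype_card]; exact (Fintype.card_subtype _).symm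
    have hfib : ∀ g ∈ W, ((I ×ˢ MF).filter fun p => p.1 * p.2 = g).card ≤ e := by
      intro g hg
      obtain ⟨⟨v₀, m₀⟩, hp, hg0⟩ := Finset.mem_image.1 hg
      simp only at hg0
      obtain ⟨hv₀, hm₀⟩ := Finset.mem_product.1 hp
      have hv₀' := (Finset.mem_filter.1 hv₀).2
      set L := M ⊓ M.map (MulAut.conj v₀).toMonoidHom with hL
      have hLQ : Nat.card L * Nat.card Q ≤ Nat.card M := by
        rw [← Nat.card_prod]
        refine Nat.card_le_card_of_injective (fun p : L × Q => (⟨(p.1 : G) * p.2,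
          mul_mem (Subgroup.mem_inf.1 p.1.2).1 (Subgroup.le_normalizer p.2.2)⟩ : M)) ?_
        rintro ⟨l, z⟩ ⟨l', z'⟩ e'
        have e1 : (l : G) * z = (l' : G) * z' := congrArg Subtype.val e'
        have e2 : (l' : G)⁻¹ * l = (z' : G) * (z : G)⁻¹ := by
          rw [inv_mul_eq_iff_eq_mul, ← mul_assoc, ← e1, mul_inv_cancel_right]
        have hzQ : (z' : G) * (z : G)⁻¹ ∈ Q := mul_mem z'.2 (inv_mem z.2)
        have e3 : (z' : G) * (z : G)⁻¹ = 1 := by
          by_contra hne
          obtain ⟨ho, hd⟩ := hQR _ hzQ hne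
          have hzL : (z' : G) * (z : G)⁻¹ ∈ L := e2 ▸ mul_mem (inv_mem l'.2) l.2
          obtain ⟨w, hw, hwe⟩ := (Subgroup.mem_inf.1 hzL).2
          change v₀ * w * v₀⁻¹ = _ at hwe
          have hw' : w = v₀ * ((z' : G) * (z : G)⁻¹) * v₀⁻¹ := by
            rw [← hwe, inv_eq hv₀', show v₀ * (v₀ * w * v₀) * v₀ = (v₀ * v₀) * w * (v₀ * v₀) by group,
              mul_self hv₀', one_mul, mul_one]
          refine hne (hdisjQ v₀ hv₀' _ hzQ ?_)
          rw [← hw']
          exact hRM w hw (hw' ▸ out_conj v₀ ho) (hw' ▸ (card_cent_conj _ v₀).symm ▸ hd)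
        rw [e3, inv_mul_eq_one] at e2
        exact Prod.ext (Subtype.ext e2.symm) (Subtype.ext (mul_inv_eq_one.1 e3).symm)
      have hLe : Nat.card L ≤ e := by
        rw [he, mul_comm] at hLQ
        exact Nat.le_of_mul_le_mul_left hLQ Nat.card_pos
      refine le_trans ?_ hLe
      rw [show Nat.card L = (Finset.univ.filter fun z : G => z ∈ L).card by
        rw [Nat.card_eq_fintype_card]; exact Fintype.card_subtype _]
      refine Finset.card_le_card_of_injOn (fun p => v₀ * p.1) (fun p hp' => ?_) (fun p hp' p' hp'' e' => ?_)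
      · obtain ⟨hp1, hp2⟩ := Finset.mem_filter.1 hp'
        obtain ⟨hv, hm⟩ := Finset.mem_product.1 hp1
        have hv' := (Finset.mem_filter.1 hv).2
        have e1 : v₀ * p.1 = m₀ * p.2⁻¹ := by
          rw [eq_mul_inv_iff_mul_eq, mul_assoc, hp2, ← hg0, ← mul_assoc, mul_self hv₀', one_mul]
        have hmem : v₀ * p.1 ∈ M := by
          rw [e1]; exact mul_mem (Finset.mem_filter.1 hm₀).2 (inv_mem (Finset.mem_filter.1 hm).2)
        refine Finset.mem_filter.2 ⟨Finset.mem_univ _, Subgroup.mem_inf.2 ⟨hmem, (v₀ * p.1)⁻¹, inv_mem hmem, ?_⟩⟩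
        show v₀ * (v₀ * p.1)⁻¹ * v₀⁻¹ = v₀ * p.1
        rw [mul_inv_rev, inv_eq hv', inv_eq hv₀', mul_assoc, mul_assoc, mul_self hv₀', mul_one]
      · have h5 : p.1 = p'.1 := mul_left_cancel e'
        refine Prod.ext h5 ?_
        have h6 := (Finset.mem_filter.1 hp').2.trans (Finset.mem_filter.1 hp'').2.symm
        rw [h5] at h6
        exact mul_left_cancel h6
    have h6 := Finset.card_le_mul_card_image (f := fun p : G × G => p.1 * p.2) (I ×ˢ MF) e hfib
    rw [Finset.card_product, hIc, hMc, he, hcx, ← hW] at h6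
    have he0 : 0 < e := Nat.pos_of_ne_zero fun e0 => by
      rw [e0, mul_zero] at he; exact Nat.card_pos.ne' he
    refine le_of_mul_le_mul_left (a := e) ?_ he0
    linarith
  have hsep : ∀ g ∈ W, ∀ y ∈ Q, y ≠ 1 → g⁻¹ * y * g ∉ Q := by
    intro g hg y hy hy1 hgy
    obtain ⟨⟨v, m⟩, hp, rfl⟩ := Finset.mem_image.1 hg
    obtain ⟨hv, hm⟩ := Finset.mem_product.1 hp
    have hv' := (Finset.mem_filter.1 hv).2
    have h1 := (Subgroup.mem_normalizer_iff.1 (Finset.mem_filter.1 hm).2 ((v * m)⁻¹ * y * (v * m))).1 hgy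
    rw [show m * ((v * m)⁻¹ * y * (v * m)) * m⁻¹ = v⁻¹ * y * v by group, inv_eq hv'] at h1
    exact hy1 (hdisjQ v hv' y hy (by rwa [inv_eq hv']))
  have hxQ : x ∈ Q := mem_cent_self x
  have hdisj : Disjoint W S1 := Finset.disjoint_left.2 fun g hg1 hg2 =>
    hsep g hg1 x hxQ hx.1 (Finset.mem_filter.1 hg2).2
  have huniv : W ∪ S1 = Finset.univ := by
    refine Finset.eq_univ_of_card _ (le_antisymm (Finset.card_le_univ _) ?_)
    rw [Finset.card_union_of_disjoint hdisj, hS1card, ← Nat.card_eq_fintype_card, S.card_G h, ← hq]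
    linarith
  refine ⟨by rw [← hS1card, Nat.card_eq_fintype_card]; exact Fintype.card_subtype _, fun g y hy hy1 hgy => ?_⟩
  have hg : g ∈ W ∪ S1 := by rw [huniv]; exact Finset.mem_univ g
  rcases Finset.mem_union.1 hg with hgW | hgS
  · exact absurd hgy (hsep g hgW y hy hy1)
  · exact (Finset.mem_filter.1 hgS).2

/-- For `q ≡ 3 (mod 4)` the centralizers of elements of the first kind are abelian. -/
lemma Shape.neg_abelian (h : Hyp t K s) (S : Shape K (-1) q a) {x : G} (hx : Out K x)
    (hxq : Nat.card (Subgroup.centralizer ({x} : Set G)) ∣ q) {y w : G}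
    (hy : y ∈ Subgroup.centralizer ({x} : Set G)) (hw : w ∈ Subgroup.centralizer ({x} : Set G)) :
    y * w = w * y := by
  by_cases hy1 : y = 1
  · rw [hy1, one_mul, mul_one]
  by_cases hw1 : w = 1
  · rw [hw1, one_mul, mul_one]
  obtain ⟨hyo, hyq⟩ := S.cent_q h hx hxq hy hy1
  obtain ⟨hwo, hwq⟩ := S.cent_q h hx hxq hw hw1
  have hxy : x ∈ Subgroup.centralizer ({y} : Set G) :=
    Subgroup.mem_centralizer_singleton_iff.2 (Subgroup.mem_centralizer_singleton_iff.1 hy).symm
  have hxw : x ∈ Subgroup.centralizer ({w} : Set G) :=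
    Subgroup.mem_centralizer_singleton_iff.2 (Subgroup.mem_centralizer_singleton_iff.1 hw).symm
  obtain ⟨hcy, hcls⟩ := S.neg_classes h hyo hyq
  have hC : ∀ c : G, Subgroup.centralizer ({c * y⁻¹ * c⁻¹} : Set G) = Subgroup.centralizer ({c * y * c⁻¹} : Set G) := by
    intro c
    ext z
    rw [mem_cent_conj, mem_cent_conj, Subgroup.mem_centralizer_singleton_iff, Subgroup.mem_centralizer_singleton_iff]
    exact ⟨fun e => by simpa using (Commute.inv_right e).eq, fun e => (Commute.inv_right e).eq⟩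
  obtain ⟨c, hc⟩ : ∃ c : G, Subgroup.centralizer ({w} : Set G) = Subgroup.centralizer ({c * y * c⁻¹} : Set G) := by
    rcases hcls w hwo hwq with hcj | hcj
    · obtain ⟨c, hc⟩ := isConj_iff.1 hcj
      exact ⟨c, by rw [hc]⟩
    · obtain ⟨c, hc⟩ := isConj_iff.1 hcj
      exact ⟨c, by rw [← hC c, hc]⟩
  have h1 : c⁻¹ * x * c ∈ Subgroup.centralizer ({y} : Set G) := by
    rw [← mem_cent_conj, ← hc]; exact hxw
  have h2 := (S.neg_key h hyo hyq).2 c x hxy hx.1 h1
  rw [← mem_cent_conj, ← hc] at h2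
  exact Subgroup.mem_centralizer_singleton_iff.1 h2

/-- For `q ≡ 3 (mod 4)` the elements of the second kind are inverted. -/
lemma Shape.neg_second (h : Hyp t K s) (S : Shape K (-1) q a) {g : G} (hg : Out K g)
    (hga : Nat.card (Subgroup.centralizer ({g} : Set G)) ∣ a) :
    Nat.card (Subgroup.centralizer ({g} : Set G)) = a ∧ ∃ u : G, orderOf u = 2 ∧ u * g * u⁻¹ = g⁻¹ := by
  cases nonempty_fintype G
  obtain ⟨hq, ha, ha1, hq3⟩ := S.neg_facts h
  have hp := h.pair_equation
  have hR := S.cardR'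
  have hO := h.card_out
  have hsplit : ∑ g ∈ Finset.univ.filter (Out K), beta g =
      ∑ g ∈ (Finset.univ.filter (Out K)).filter (fun g => ¬ Nat.card (Subgroup.centralizer ({g} : Set G)) ∣ q), beta g := by
    rw [← Finset.sum_filter_add_sum_filter_not (Finset.univ.filter (Out K))
      (fun g => Nat.card (Subgroup.centralizer ({g} : Set G)) ∣ q),
      Finset.sum_eq_zero (fun g hg => S.neg_not_real h (Finset.mem_filter.1 (Finset.mem_filter.1 hg).1).2
        (Finset.mem_filter.1 hg).2), zero_add]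
  set A := (Finset.univ.filter (Out K)).filter fun g => ¬ Nat.card (Subgroup.centralizer ({g} : Set G)) ∣ q with hAdef
  have hb : ∀ g ∈ A, beta g ≤ a := fun g hg => by
    have := S.beta_bound h (Finset.mem_filter.1 hg).1
    rwa [if_neg (Finset.mem_filter.1 hg).2] at this
  have h3 := Finset.card_filter_add_card_filter_not (s := Finset.univ.filter (Out K))
    (fun g => Nat.card (Subgroup.centralizer ({g} : Set G)) ∣ q)
  have hsum : ∑ g ∈ A, beta g = ∑ _g ∈ A, a := by
    rw [hsplit, show Nat.card {x : G // orderOf x = 2} = q * a from S.hn] at hp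
    rw [← h3, ← hAdef, S.card_G h, S.hn] at hO
    rw [Finset.sum_const, smul_eq_mul]
    obtain ⟨k, hk⟩ : ∃ k, Nat.card K = k + 1 := ⟨Nat.card K - 1, by omega⟩
    rw [hk, Nat.add_sub_cancel] at hp hO
    rw [hk] at ha hq
    obtain rfl : a = k := by omega
    obtain rfl : q = 2 * a + 1 := by omega
    zify at hR hO hp ⊢
    linear_combination -hp - (a : ℤ) * hO + (a : ℤ) * hR
  have hgA : g ∈ A := Finset.mem_filter.2 ⟨Finset.mem_filter.2 ⟨Finset.mem_univ _, hg⟩,
    fun hd => S.not_both hg hd hga⟩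
  have heq := (Finset.sum_eq_sum_iff_of_le hb).1 hsum g hgA
  exact ⟨le_antisymm (Nat.le_of_dvd (by omega) hga) (heq ▸ beta_le g),
    exists_inverting (by rw [heq]; omega)⟩

theorem neg_structure (h : Hyp t K s) (S : Shape K (-1) q a) :
    ∃ Q D : Subgroup G, 2 * Nat.card G = Nat.card ↥Q * (Nat.card ↥Q + 1) * (Nat.card ↥Q - 1) ∧
      (∀ x ∈ Q, x ≠ 1 → Subgroup.centralizer ({x} : Set G) = Q) ∧
      IsMulCommutative ↥D ∧ 2 * Nat.card ↥D + 1 = Nat.card ↥Q ∧ Q ⊓ D = ⊥ ∧
      Subgroup.normalizer (Q : Set G) = Q ⊔ D ∧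
      (∀ X : Subgroup G, X ≤ D → X ≠ ⊥ →
        Subgroup.normalizer (X : Set G) = Subgroup.normalizer (D : Set G) ∧
        ∃ u : G, orderOf u = 2 ∧ u ∉ D ∧ (∀ d ∈ D, u * d * u⁻¹ = d⁻¹) ∧
          Subgroup.normalizer (D : Set G) = D ⊔ Subgroup.zpowers u) ∧
      ∀ d ∈ D, d ≠ 1 → ∀ g : G, g * d * g⁻¹ ∈ D → g ∈ Subgroup.normalizer (D : Set G) := by
  cases nonempty_fintype G
  obtain ⟨hq, ha, ha1, hq3⟩ := S.neg_facts h
  obtain ⟨x, hx, hxq⟩ := S.exists_q h
  obtain ⟨hcx, -⟩ := S.neg_classes h hx hxq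
  set Q := Subgroup.centralizer ({x} : Set G) with hQ
  have hQR := fun y hy hy1 => S.cent_q h hx hxq (y := y) hy hy1
  have hCQ : ∀ y ∈ Q, y ≠ 1 → Subgroup.centralizer ({y} : Set G) = Q := by
    intro y hy hy1
    obtain ⟨ho, hd⟩ := hQR y hy hy1
    refine (Subgroup.eq_of_le_of_card_ge
      (fun w hw => Subgroup.mem_centralizer_singleton_iff.2 (S.neg_abelian h hx hxq hw hy)) ?_).symm
    rw [(S.neg_classes h ho hd).1, hcx]
  -- the normalizer has order `q a`
  set M := Subgroup.normalizer (Q : Set G) with hM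
  have hMcard : Nat.card M = q * a := by
    rw [← (S.neg_key h hx hxq).1]
    refine Nat.card_congr (Equiv.subtypeEquivRight fun g => ⟨fun hg => ?_, fun hg => ?_⟩)
    · exact (Subgroup.mem_normalizer_iff''.1 hg x).1 (mem_cent_self x)
    · rw [Subgroup.mem_normalizer_iff'']
      intro z
      have h1 := hCQ _ hg (by simpa [mul_assoc] using fun e : g⁻¹ * x * g⁻¹⁻¹ = 1 => hx.1 (conj_eq_one_iff.1 e))
      conv_rhs => rw [← h1]
      have h2 : g⁻¹ * x * g = g⁻¹ * x * g⁻¹⁻¹ := by rw [inv_inv]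
      rw [h2, mem_cent_conj, show g⁻¹⁻¹ * (g⁻¹ * z * g) * g⁻¹ = z by group]
  haveI : (Q.subgroupOf M).Normal := Subgroup.normal_in_normalizer
  have hQM : Q ≤ M := Subgroup.le_normalizer
  have hQcard : Nat.card (Q.subgroupOf M) = q := by
    rw [Nat.card_congr (Subgroup.subgroupOfEquivOfLe hQM).toEquiv, hcx]
  have hidx : (Q.subgroupOf M).index = a := by
    have h5 := Subgroup.card_mul_index (Q.subgroupOf M)
    rw [hQcard, hMcard] at h5
    exact Nat.eq_of_mul_eq_mul_left (by omega) h5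
  have hcopqa : q.Coprime a := Nat.Coprime.coprime_mul_left_right S.coprime
  obtain ⟨D₀, hD₀⟩ := Subgroup.exists_right_complement'_of_coprime (N := Q.subgroupOf M)
    (by rw [hQcard, hidx]; exact hcopqa)
  set D := D₀.map M.subtype with hD
  have hDcard : Nat.card D = a := by
    rw [hD, Subgroup.card_map_of_injective M.subtype_injective]
    have h5 := hD₀.card_mul_card
    rw [hQcard, hMcard] at h5
    exact Nat.eq_of_mul_eq_mul_left (by omega) h5
  -- non-identity elements of `D`
  have hDel : ∀ d ∈ D, d ≠ 1 → Out K d ∧ Nat.card (Subgroup.centralizer ({d} : Set G)) = a ∧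
      ∃ u : G, orderOf u = 2 ∧ u * d * u⁻¹ = d⁻¹ := by
    intro d hd hd1
    have hdo : orderOf d ∣ a := by
      have := orderOf_dvd_natCard (⟨d, hd⟩ : D)
      rwa [Subgroup.orderOf_mk, hDcard] at this
    have hout : Out K d := ⟨hd1, fun ⟨_, z, hz⟩ => by
      have h5 : orderOf d ∣ Nat.card K := by
        have := orderOf_dvd_natCard (⟨_, hz⟩ : K)
        rwa [Subgroup.orderOf_mk, orderOf_conj] at this
      have h6 : orderOf d ∣ Nat.gcd a (Nat.card K) := Nat.dvd_gcd hdo h5
      rw [← ha, Nat.gcd_self_add_right, Nat.gcd_one_right, Nat.dvd_one, orderOf_eq_one_iff] at h6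
      exact hd1 h6⟩
    have hda : Nat.card (Subgroup.centralizer ({d} : Set G)) ∣ a := by
      refine (S.split d hout).resolve_left fun hdq => hd1 (orderOf_eq_one_iff.1 (Nat.dvd_one.1 ?_))
      rw [← hcopqa.gcd_eq_one]
      exact Nat.dvd_gcd ((orderOf_dvd_cent d).trans hdq) hdo
    exact ⟨hout, S.neg_second h hout hda⟩
  -- the normalizer of `C(d)`
  have hNd : ∀ d ∈ D, d ≠ 1 → ∀ u : G, orderOf u = 2 → u * d * u⁻¹ = d⁻¹ →
      ∀ n ∈ Subgroup.normalizer (Subgroup.centralizer ({d} : Set G) : Set G),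
        n ∈ Subgroup.centralizer ({d} : Set G) ∨ n * u ∈ Subgroup.centralizer ({d} : Set G) := by
    intro d hd hd1 u hu hud n hn
    obtain ⟨hout, hcd, -⟩ := hDel d hd hd1
    obtain ⟨c, hc⟩ := isConj_iff.1 (h.hconj t u h.ht hu)
    obtain ⟨D', huD', -, -, -, hDk, hDa, hfac⟩ := h.normalizer_inverted hout hu hud c hc
    rw [hcd] at hDa
    have hD2 : Nat.card D' ∣ 2 := by
      have h5 : (Nat.card D' : ℤ) ∣ 2 := by
        have h6 : (Nat.card D' : ℤ) ∣ ((a - 1 : ℕ) : ℤ) := by exact_mod_cast hDa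
        have h7 : (Nat.card D' : ℤ) ∣ (Nat.card K : ℤ) := by exact_mod_cast hDk
        have h8 := dvd_sub h7 h6
        rwa [show (Nat.card K : ℤ) - ((a - 1 : ℕ) : ℤ) = 2 by omega] at h8
      exact_mod_cast h5
    obtain ⟨b, hb, w, hw, rfl⟩ := hfac n hn
    have hw2 : w = 1 ∨ w = u := by
      have hle : Subgroup.zpowers u ≤ D' := Subgroup.zpowers_le.2 huD'
      have heq : Subgroup.zpowers u = D' := Subgroup.eq_of_le_of_card_ge hle (by
        rw [Nat.card_zpowers, hu]; exact Nat.le_of_dvd two_pos hD2)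
      exact mul_eq_one_of_zpow_involution hu (heq ▸ hw)
    rcases hw2 with rfl | rfl
    · left; rwa [mul_one]
    · right; rwa [mul_assoc, mul_self hu, mul_one]
  -- `D` is contained in each centralizer
  have hDC : ∀ d ∈ D, d ≠ 1 → Subgroup.centralizer ({d} : Set G) = D := by
    intro d hd hd1
    obtain ⟨-, hcd, -⟩ := hDel d hd hd1
    refine (Subgroup.eq_of_le_of_card_ge ?_ (by rw [hDcard, hcd])).symm
    by_contra hnle
    -- conjugates inside `D` of the non-identity elements of `D ⊓ C(d)`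
    have hodd : ∀ g ∈ D, orderOf g ≠ 2 := fun g hg h2 => by
      obtain ⟨ho, -⟩ := hDel g hg (ne_one h2)
      exact ho.2 (h.ins_of_involution h2)
    have fam : ∀ e ∈ D, e ≠ 1 →
        Nat.card {g : D // g ≠ 1 ∧ ∃ z : D, z * g * z⁻¹ ∈ (Subgroup.centralizer ({e} : Set G)).subgroupOf D} *
          Nat.card ((Subgroup.centralizer ({e} : Set G)).subgroupOf D) =
        a * (Nat.card ((Subgroup.centralizer ({e} : Set G)).subgroupOf D) - 1) := by
      intro e he he1
      obtain ⟨heo, -, u, hu, hue⟩ := hDel e he he1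
      have h5 := card_conj_TI (G := D) ((Subgroup.centralizer ({e} : Set G)).subgroupOf D)
        ((Subgroup.centralizer ({e} : Set G)).subgroupOf D) ?_ ?_
      · rw [h5, hDcard]
      · intro z y hy hy1 hzy
        rw [Subgroup.mem_subgroupOf] at hy hzy ⊢
        have hn := h.mem_normalizer_cent heo hu hue hy (fun e' => hy1 (Subtype.ext e'))
          (x := (z : G)) (by simpa using hzy)
        refine (hNd e he he1 u hu hue z hn).resolve_right fun hzu => ?_
        obtain ⟨-, hinv, -, -, -⟩ := h.out_inverted heo hu hue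
        have h6 := hinv _ hzu
        have hz2 : (z : G) * z = 1 := by
          rw [show u * ((z : G) * u) * u⁻¹ = u * z by group, mul_inv_rev, inv_eq hu] at h6
          have h7 : (z : G) = (z : G)⁻¹ := mul_left_cancel h6
          nth_rewrite 2 [h7]
          exact mul_inv_cancel _
        by_cases hz1 : (z : G) = 1
        · exact (h.out_cent heo (y := u) (by simpa [hz1] using hzu) (ne_one hu)).2 (h.ins_of_involution hu)
        · exact hodd _ z.2 (orderOf_eq_two hz2 hz1)
      · intro n hn b hb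
        exact mul_mem (mul_mem hn hb) (inv_mem hn)
    have hbig : ∀ e ∈ D, e ≠ 1 → a ≤ 2 *
        Nat.card {g : D // g ≠ 1 ∧ ∃ z : D, z * g * z⁻¹ ∈ (Subgroup.centralizer ({e} : Set G)).subgroupOf D} := by
      intro e he he1
      have h5 := fam e he he1
      set b := Nat.card ((Subgroup.centralizer ({e} : Set G)).subgroupOf D) with hb
      have hb2 : 2 ≤ b := by
        by_contra hlt
        have hb1 : b = 1 := by have : 0 < b := Nat.card_pos; omega
        have h6 := Subgroup.card_eq_one.1 hb1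
        have : (⟨e, he⟩ : D) ∈ (Subgroup.centralizer ({e} : Set G)).subgroupOf D :=
          Subgroup.mem_subgroupOf.2 (mem_cent_self e)
        rw [h6, Subgroup.mem_bot] at this
        exact he1 (congrArg Subtype.val this)
      refine Nat.le_of_mul_le_mul_right ?_ (show 0 < b by omega)
      rw [mul_assoc, h5]
      have : a * b ≤ a * (2 * (b - 1)) := Nat.mul_le_mul_left _ (by omega)
      linarith
    -- a second family
    set B := (Subgroup.centralizer ({d} : Set G)).subgroupOf D with hB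
    set F1 := Finset.univ.filter fun g : D => g ≠ 1 ∧ ∃ z : D, z * g * z⁻¹ ∈ B with hF1
    have hF1card : F1.card * Nat.card B = a * (Nat.card B - 1) := by
      rw [← fam d hd hd1, Nat.card_eq_fintype_card (α := {g : D // g ≠ 1 ∧ ∃ z : D, z * g * z⁻¹ ∈ B}),
        Fintype.card_subtype]
    have hUcard : (Finset.univ.erase (1 : D)).card = a - 1 := by
      rw [Finset.card_erase_of_mem (Finset.mem_univ _), Finset.card_univ, ← Nat.card_eq_fintype_card, hDcard]
    have hBlt : Nat.card B < a := by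
      rw [← hDcard]
      refine lt_of_le_of_ne (Subgroup.card_le_card_group B) fun e => hnle fun g hg => ?_
      have := Subgroup.eq_top_of_card_eq B e
      exact Subgroup.mem_subgroupOf.1 (show (⟨g, hg⟩ : D) ∈ B by rw [this]; trivial)
    obtain ⟨e, he1, heF⟩ : ∃ e : D, e ≠ 1 ∧ e ∉ F1 := by
      by_contra hcon
      push Not at hcon
      have h5 : a - 1 ≤ F1.card := hUcard ▸ Finset.card_le_card fun g hg => hcon g (Finset.ne_of_mem_erase hg)
      have h6 := Nat.mul_le_mul_right (Nat.card B) h5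
      rw [hF1card, Nat.mul_sub_one, Nat.sub_mul, one_mul] at h6
      have h7 : Nat.card B ≤ a * Nat.card B := Nat.le_mul_of_pos_left _ (by omega)
      have h8 : a ≤ a * Nat.card B := Nat.le_mul_of_pos_right _ Nat.card_pos
      omega
    have he1' : (e : G) ≠ 1 := fun e' => he1 (Subtype.ext e')
    set F2 := Finset.univ.filter fun g : D => g ≠ 1 ∧ ∃ z : D, z * g * z⁻¹ ∈
      (Subgroup.centralizer ({(e : G)} : Set G)).subgroupOf D with hF2
    have hdisj : Disjoint F1 F2 := by
      refine Finset.disjoint_left.2 fun g hg1 hg2 => heF ?_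
      obtain ⟨hg, z, hz⟩ := (Finset.mem_filter.1 hg1).2
      obtain ⟨-, z', hz'⟩ := (Finset.mem_filter.1 hg2).2
      rw [hB, Subgroup.mem_subgroupOf] at hz
      rw [Subgroup.mem_subgroupOf] at hz'
      obtain ⟨hdo, -, u, hu, hud⟩ := hDel d hd hd1
      obtain ⟨heo, -, u', hu', hue⟩ := hDel _ e.2 he1'
      obtain ⟨-, -, hcd', -, -⟩ := h.out_inverted hdo hu hud
      obtain ⟨-, -, hce', -, -⟩ := h.out_inverted heo hu' hue
      have hne : ∀ w : D, ((w * g * w⁻¹ : D) : G) ≠ 1 := fun w e' =>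
        hg (conj_eq_one_iff.1 (Subtype.ext e' : w * g * w⁻¹ = 1))
      refine Finset.mem_filter.2 ⟨Finset.mem_univ _, he1, z * z'⁻¹, ?_⟩
      rw [hB, Subgroup.mem_subgroupOf, ← (hcd' _ hz (hne z)).2]
      have h5 : (e : G) ∈ Subgroup.centralizer ({((z' * g * z'⁻¹ : D) : G)} : Set G) := by
        rw [(hce' _ hz' (hne z')).2]; exact mem_cent_self _
      have h6 : ((z * g * z⁻¹ : D) : G) = ((z * z'⁻¹ : D) : G) * ((z' * g * z'⁻¹ : D) : G) * ((z * z'⁻¹ : D) : G)⁻¹ := by
        push_cast; group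
      rw [h6, mem_cent_conj]
      convert h5 using 1
      push_cast; group
    have hb1 := hbig d hd hd1
    have hb2 := hbig _ e.2 he1'
    rw [Nat.card_eq_fintype_card, Fintype.card_subtype] at hb1 hb2
    have h9 : F1.card + F2.card ≤ a - 1 := by
      rw [← Finset.card_union_of_disjoint hdisj, ← hUcard]
      refine Finset.card_le_card fun g hg => Finset.mem_erase.2 ⟨?_, Finset.mem_univ _⟩
      rcases Finset.mem_union.1 hg with h5 | h5
      · exact (Finset.mem_filter.1 h5).2.1
      · exact (Finset.mem_filter.1 h5).2.1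
    change a ≤ 2 * F1.card at hb1
    change a ≤ 2 * F2.card at hb2
    omega
  have hDab : ∀ d ∈ D, ∀ e ∈ D, d * e = e * d := by
    intro d hd e he
    by_cases hd1 : d = 1
    · rw [hd1, one_mul, mul_one]
    · rw [← hDC d hd hd1] at he
      exact (Subgroup.mem_centralizer_singleton_iff.1 he).symm
  refine ⟨Q, D, ?_, hCQ, ⟨⟨fun d e => Subtype.ext (hDab d d.2 e e.2)⟩⟩, ?_, ?_, ?_, ?_, ?_⟩
  · rw [hcx, S.card_G h, hq, show q - 1 = 2 * a by omega]
    ring
  · rw [hDcard, hcx]; omega
  · refine (disjoint_iff).1 (Subgroup.disjoint_of_coprime_natCard ?_)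
    rw [hcx, hDcard]; exact hcopqa
  · have h5 := congrArg (Subgroup.map M.subtype) hD₀.sup_eq_top
    rw [Subgroup.map_sup, Subgroup.map_subgroupOf_eq_of_le hQM, ← MonoidHom.range_eq_map,
      Subgroup.range_subtype] at h5
    exact h5.symm
  · intro X hX hX1
    obtain ⟨⟨y, hy⟩, hy1'⟩ := (Subgroup.ne_bot_iff_exists_ne_one).1 hX1
    have hy1 : y ≠ 1 := fun e => hy1' (Subtype.ext e)
    have hyD := hX hy
    obtain ⟨hyo, -, u, hu, huy⟩ := hDel y hyD hy1
    obtain ⟨-, hinv, -, -, -⟩ := h.out_inverted hyo hu huy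
    have hCy := hDC y hyD hy1
    rw [hCy] at hinv
    have huD : u ∉ D := fun e => by
      obtain ⟨ho, -⟩ := hDel u e (ne_one hu)
      exact ho.2 (h.ins_of_involution hu)
    have hgen : ∀ n ∈ Subgroup.normalizer (D : Set G), n ∈ D ∨ n * u ∈ D := by
      intro n hn
      have := hNd y hyD hy1 u hu huy n (by rw [hCy]; exact hn)
      rwa [hCy] at this
    have hXle : Subgroup.normalizer (D : Set G) ≤ Subgroup.normalizer (X : Set G) := by
      have key : ∀ n ∈ Subgroup.normalizer (D : Set G), ∀ z ∈ X, n * z * n⁻¹ ∈ X := by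
        intro n hn z hz
        rcases hgen n hn with h5 | h5
        · rwa [hDab n h5 z (hX hz), mul_inv_cancel_right]
        · have h6 : n * z * n⁻¹ = z⁻¹ := by
            rw [show n * z * n⁻¹ = n * u * (u⁻¹ * z * u⁻¹⁻¹) * (n * u)⁻¹ by group, inv_eq hu, hinv z (hX hz),
              hDab (n * u) h5 z⁻¹ (inv_mem (hX hz)), mul_inv_cancel_right]
          rw [h6]; exact inv_mem hz
      intro n hn
      rw [Subgroup.mem_normalizer_iff]
      refine fun z => ⟨key n hn z, fun hz => ?_⟩
      simpa [mul_assoc] using key n⁻¹ (inv_mem hn) _ hz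
    refine ⟨le_antisymm (fun n hn => ?_) hXle, u, hu, huD, hinv, le_antisymm (fun n hn => ?_) ?_⟩
    · rw [← hCy]
      refine h.mem_normalizer_cent hyo hu huy (mem_cent_self y) hy1 ?_
      rw [hCy]
      exact hX ((Subgroup.mem_normalizer_iff.1 hn y).1 hy)
    · rcases hgen n hn with h5 | h5
      · exact Subgroup.mem_sup_left h5
      · have h6 : n = n * u * u := by rw [mul_assoc, mul_self hu, mul_one]
        rw [h6]
        exact Subgroup.mul_mem_sup h5 (Subgroup.mem_zpowers u)
    · refine sup_le Subgroup.le_normalizer (Subgroup.zpowers_le.2 ?_)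
      rw [Subgroup.mem_normalizer_iff]
      refine fun z => ⟨fun hz => by rw [hinv z hz]; exact inv_mem hz, fun hz => ?_⟩
      have h5 := hinv _ hz
      rw [inv_eq hu] at hz
      rw [inv_eq hu, show u * (u * z * u) * u = (u * u) * z * (u * u) by group, mul_self hu, one_mul,
        mul_one] at h5
      rw [h5]
      exact inv_mem hz
  · intro d hd hd1 g hg
    obtain ⟨hdo, -, u, hu, hud⟩ := hDel d hd hd1
    rw [← hDC d hd hd1] at hg ⊢
    exact h.mem_normalizer_cent hdo hu hud (mem_cent_self d) hd1 hg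

end Neg

/-- The abstract Brauer–Suzuki–Wall theorem. -/
theorem structure_theorem (h : Hyp t K s) :
    ∃ Q D : Subgroup G, 2 * Nat.card G = Nat.card ↥Q * (Nat.card ↥Q + 1) * (Nat.card ↥Q - 1) ∧
      (∀ x ∈ Q, x ≠ 1 → Subgroup.centralizer ({x} : Set G) = Q) ∧
      IsMulCommutative ↥D ∧ 2 * Nat.card ↥D + 1 = Nat.card ↥Q ∧ Q ⊓ D = ⊥ ∧
      Subgroup.normalizer (Q : Set G) = Q ⊔ D ∧
      (∀ X : Subgroup G, X ≤ D → X ≠ ⊥ →
        Subgroup.normalizer (X : Set G) = Subgroup.normalizer (D : Set G) ∧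
        ∃ u : G, orderOf u = 2 ∧ u ∉ D ∧ (∀ d ∈ D, u * d * u⁻¹ = d⁻¹) ∧
          Subgroup.normalizer (D : Set G) = D ⊔ Subgroup.zpowers u) ∧
      ∀ d ∈ D, d ≠ 1 → ∀ g : G, g * d * g⁻¹ ∈ D → g ∈ Subgroup.normalizer (D : Set G) := by
  obtain ⟨δ, q, a, S⟩ := exists_shape h
  rcases S.hδ with rfl | rfl
  · exact pos_structure h S
  · exact neg_structure h S

end CfsgLib.Characterizations.BSW
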