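import Mathlib
import Cfsg.Agent.Lib.FrobRealize.Quaternion
import Cfsg.Agent.Lib.PGroup.Frattini

/-!
2-groups with a maximal subgroup `D` of the centre such that the quotient by `D` is generalized quaternion.
-/

set_option autoImplicit false

namespace CfsgLib.Characterizations.CentralQuaternion

variable {S : Type*} [Group S] [Finite S]

theorem exists_data (hS : IsPGroup 2 S) (D : Subgroup ↥(Subgroup.center S)) (hD : IsCoatom D)
    [hDn : (D.map (Subgroup.center S).subtype).Normal]
    (hna : ¬ IsMulCommutative (S ⧸ D.map (Subgroup.center S).subtype))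
    (hu : ∃! x : S ⧸ D.map (Subgroup.center S).subtype, orderOf x = 2) :
    ∃ (N : ℕ) (a b : S), 2 ≤ N ∧ 2 ∣ N ∧
      a ^ N ∈ Subgroup.center S ∧ a ^ N ∉ D.map (Subgroup.center S).subtype ∧
      b ^ 2 ∈ Subgroup.center S ∧ b ^ 2 ∉ D.map (Subgroup.center S).subtype ∧
      (b * a) ^ 2 ∉ D.map (Subgroup.center S).subtype ∧
      b * a * b⁻¹ * a ∈ D.map (Subgroup.center S).subtype ∧
      (∀ i : ℕ, a ^ i ∈ Subgroup.center S → N ∣ i) ∧ (∀ i : ℕ, b * a ^ i ∉ Subgroup.center S) ∧
      (∀ x : S, x ^ 2 ∈ D.map (Subgroup.center S).subtype → x ∈ Subgroup.center S) ∧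
      ∀ g : S, ∃ i : ℕ, (a ^ i)⁻¹ * g ∈ D.map (Subgroup.center S).subtype ∨
        (b * a ^ i)⁻¹ * g ∈ D.map (Subgroup.center S).subtype := by
  set D' := D.map (Subgroup.center S).subtype with hD'
  set q := QuotientGroup.mk' D' with hq
  have hDZ : D' ≤ Subgroup.center S := Subgroup.map_subtype_le _
  have hidx : D.index = 2 := CfsgLib.PGroup.Frattini.index_of_isCoatom (hS.to_subgroup _) hD
  obtain ⟨z, hz⟩ : ∃ z : ↥(Subgroup.center S), z ∉ D := by
    by_contra! h
    exact hD.1 ((Subgroup.eq_top_iff' D).mpr h)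
  obtain ⟨w, hw, huniq⟩ := hu
  have hzq : q (z : S) = w := by
    refine huniq _ ?_
    refine orderOf_eq_prime ?_ ?_
    · rw [← map_pow]
      refine (QuotientGroup.eq_one_iff _).mpr ?_
      exact ⟨z ^ 2, Subgroup.sq_mem_of_index_two hidx z, by simp⟩
    · intro h
      obtain ⟨v, hv, hvz⟩ := (QuotientGroup.eq_one_iff _).mp h
      exact hz ((Subtype.ext hvz : v = z) ▸ hv)
  have hcen : ∀ x : S, x ∈ Subgroup.center S ↔ q x = 1 ∨ q x = w := by
    intro x
    constructor
    · intro hx
      by_cases h : (⟨x, hx⟩ : ↥(Subgroup.center S)) ∈ D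
      · exact Or.inl ((QuotientGroup.eq_one_iff _).mpr ⟨_, h, rfl⟩)
      · right
        rw [← hzq]
        refine QuotientGroup.eq.mpr ⟨(⟨x, hx⟩ : ↥(Subgroup.center S))⁻¹ * z, ?_, by simp⟩
        exact (Subgroup.mul_mem_iff_of_index_two hidx).mpr (iff_of_false (by simpa using h) hz)
    · rintro (h | h)
      · exact hDZ ((QuotientGroup.eq_one_iff _).mp h)
      · rw [← hzq] at h
        have h1 := hDZ (QuotientGroup.eq.mp h)
        have := (Subgroup.center S).mul_mem z.2 ((Subgroup.center S).inv_mem h1)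
        rwa [mul_inv_rev, inv_inv, ← mul_assoc, mul_inv_cancel, one_mul] at this
  have hQ : IsPGroup 2 (S ⧸ D') := hS.of_surjective q (QuotientGroup.mk'_surjective D')
  have hsq : ∀ y : S ⧸ D', y ^ 2 = 1 → y = 1 ∨ y = w := fun y hy =>
    or_iff_not_imp_left.mpr fun h => huniq y (orderOf_eq_prime hy h)
  obtain ⟨m, ⟨e⟩⟩ : ∃ m : ℕ, Nonempty (S ⧸ D' ≃* QuaternionGroup (2 ^ m)) := by
    refine ((CfsgLib.FrobRealize.Quaternion.cyclic_or_quaternion hQ ?_).resolve_left ?_).2
    · refine le_trans (Nat.card_le_card_of_injective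
        (fun y : {y : S ⧸ D' // y ^ 2 = 1} => (⟨y.1, hsq y.1 y.2⟩ : {y : S ⧸ D' // y = 1 ∨ y = w}))
        (fun u v h => Subtype.ext (congrArg Subtype.val h :))) ?_
      show Nat.card ↥({1, w} : Set (S ⧸ D')) ≤ 2
      rw [Nat.card_coe_set_eq]
      exact (Set.ncard_insert_le _ _).trans (by rw [Set.ncard_singleton])
    · intro h
      exact hna IsCyclic.isMulCommutative
  have hm : 1 ≤ m := by
    by_contra hm0
    obtain rfl : m = 0 := by omega
    haveI : IsCyclic (S ⧸ D') := by
      haveI : IsCyclic (QuaternionGroup (2 ^ 0)) := by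
        refine isCyclic_of_orderOf_eq_card (QuaternionGroup.xa 0) ?_
        rw [QuaternionGroup.orderOf_xa, Nat.card_eq_fintype_card, QuaternionGroup.card]
        norm_num
      exact isCyclic_of_surjective e.symm.toMonoidHom e.symm.surjective
    exact hna IsCyclic.isMulCommutative
  set N := 2 ^ m with hN
  have hN2 : 2 ≤ N := Nat.le_self_pow (by omega) 2
  haveI : NeZero N := ⟨by omega⟩
  obtain ⟨a, ha⟩ := QuotientGroup.mk'_surjective D' (e.symm (QuaternionGroup.a 1))
  obtain ⟨b, hb⟩ := QuotientGroup.mk'_surjective D' (e.symm (QuaternionGroup.xa 0))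
  have ea : ∀ i : ℕ, e (q (a ^ i)) = QuaternionGroup.a (i : ZMod (2 * N)) := fun i => by
    rw [map_pow, map_pow, hq, ha, MulEquiv.apply_symm_apply, QuaternionGroup.a_one_pow]
  have eb : ∀ i : ℕ, e (q (b * a ^ i)) = QuaternionGroup.xa (i : ZMod (2 * N)) := fun i => by
    rw [map_mul, map_mul, ea, hq, hb, MulEquiv.apply_symm_apply, QuaternionGroup.xa_mul_a, zero_add]
  have hew : e w = QuaternionGroup.a (N : ZMod (2 * N)) := by
    have h1 : e.symm (QuaternionGroup.a (N : ZMod (2 * N))) = w := by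
      refine huniq _ ?_
      show orderOf (e.symm _) = 2
      rw [MulEquiv.orderOf_eq, ← QuaternionGroup.a_one_pow,
        orderOf_pow_of_dvd (by omega) (by rw [QuaternionGroup.orderOf_a_one]; exact dvd_mul_left N 2),
        QuaternionGroup.orderOf_a_one, Nat.mul_div_cancel _ (by omega)]
    rw [← h1, MulEquiv.apply_symm_apply]
  have key : ∀ x : S, e (q x) = QuaternionGroup.a (N : ZMod (2 * N)) → x ∈ Subgroup.center S ∧ x ∉ D' := by
    intro x hx
    have h1 : q x = w := e.injective (hx.trans hew.symm)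
    refine ⟨(hcen x).mpr (Or.inr h1), fun h => ?_⟩
    rw [show q x = 1 from (QuotientGroup.eq_one_iff _).mpr h] at h1
    rw [← h1, orderOf_one] at hw
    exact absurd hw (by norm_num)
  have hbsq : ∀ i : ℕ, e (q ((b * a ^ i) ^ 2)) = QuaternionGroup.a (N : ZMod (2 * N)) := fun i => by
    rw [map_pow, map_pow, eb, QuaternionGroup.xa_sq]
  refine ⟨N, a, b, hN2, dvd_pow_self 2 (by omega), (key _ (ea N)).1, (key _ (ea N)).2, ?_, ?_, ?_, ?_, ?_, ?_, ?_, ?_⟩
  · simpa using (key _ (hbsq 0)).1
  · simpa using (key _ (hbsq 0)).2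
  · simpa using (key _ (hbsq 1)).2
  · refine (QuotientGroup.eq_one_iff _).mp (e.injective ?_)
    show e (q (b * a * b⁻¹ * a)) = e 1
    have h1 := eb 1
    have h2 := eb 0
    rw [pow_one] at h1
    rw [pow_zero, mul_one] at h2
    have h3 := ea 1
    rw [pow_one] at h3
    rw [map_mul, map_mul, h3, map_mul, map_mul, h1, map_inv, map_inv, h2, map_one]
    push_cast
    have h4 : (QuaternionGroup.xa (0 : ZMod (2 * N)))⁻¹ * QuaternionGroup.a 1 =
        (QuaternionGroup.xa (1 : ZMod (2 * N)))⁻¹ := by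
      rw [eq_inv_iff_mul_eq_one, mul_assoc, QuaternionGroup.a_mul_xa, sub_self, inv_mul_cancel]
    rw [mul_assoc, h4, mul_inv_cancel]
  · intro i hi
    rcases (hcen _).mp hi with h | h
    · have h1 := ea i
      rw [h, map_one, QuaternionGroup.one_def, QuaternionGroup.a.injEq, eq_comm, ZMod.natCast_eq_zero_iff] at h1
      exact (Dvd.intro_left 2 rfl).trans h1
    · have h1 := ea i
      rw [h, hew, QuaternionGroup.a.injEq, ZMod.natCast_eq_natCast_iff] at h1
      exact (Nat.modEq_zero_iff_dvd).mp ((h1.of_mul_left 2).symm.trans (Nat.modEq_zero_iff_dvd.mpr dvd_rfl))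
  · intro i hi
    have h1 := eb i
    rcases (hcen _).mp hi with h | h
    · rw [h, map_one, QuaternionGroup.one_def] at h1
      cases h1
    · rw [h, hew] at h1
      cases h1
  · intro x hx
    exact (hcen x).mpr (hsq (q x) (by rw [← map_pow]; exact (QuotientGroup.eq_one_iff _).mpr hx))
  · intro g
    rcases hg : e (q g) with i | i
    · refine ⟨i.val, Or.inl (QuotientGroup.eq.mp (e.injective ?_))⟩
      show e (q (a ^ i.val)) = e (q g)
      rw [ea, hg, ZMod.natCast_zmod_val]
    · refine ⟨i.val, Or.inr (QuotientGroup.eq.mp (e.injective ?_))⟩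
      show e (q (b * a ^ i.val)) = e (q g)
      rw [eb, hg, ZMod.natCast_zmod_val]

end CfsgLib.Characterizations.CentralQuaternion
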