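import Mathlib
import Cfsg.Prelude.Def_Transfer
import Cfsg.Prelude.Def_Solvable
import Cfsg.Agent.Lib.ThreeTransp.Extraspecial
import Cfsg.Agent.Lib.KGroups.ExtraspecialDual

/-!
Parity of the transfer into the centraliser `H` of an involution `z` whose `O₂` is a large extraspecial
group `E`, computed one `E`-orbit on the cosets of `H` at a time.
-/

set_option autoImplicit false
set_option linter.unusedSectionVars false

namespace CfsgLib.Characterizations.LargeExtraspecialTransfer

open Subgroup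
open CfsgLib.ThreeTransp.Extraspecial (Extra)

variable {G : Type*} [Group G]

lemma two_zero (a : ZMod 2) : a + a = 0 := by
  revert a; decide

lemma eq_add_one_of_ne {a b : ZMod 2} (h : a ≠ b) : a = b + 1 := by
  revert h; revert a b; decide

section Cocycle

variable {H : Subgroup G} {M : Type*} [AddCommGroup M]

lemma cocy_mem (g : G) (q : G ⧸ H) : (g • q).out⁻¹ * g * q.out ∈ H := by
  rw [mul_assoc, ← QuotientGroup.eq, QuotientGroup.out_eq']
  exact (MulAction.Quotient.mk_smul_out (H := H) g q).symm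

/-- The value at `q` of the transfer cocycle of `f`. -/
noncomputable def cocy (f : H → M) (g : G) (q : G ⧸ H) : M :=
  f ⟨(g • q).out⁻¹ * g * q.out, cocy_mem g q⟩

variable (f : H → M) (hf : ∀ a b, f (a * b) = f a + f b)
include hf

lemma cocy_mul (g₁ g₂ : G) (q : G ⧸ H) :
    cocy f (g₁ * g₂) q = cocy f g₁ (g₂ • q) + cocy f g₂ q := by
  unfold cocy
  rw [← hf]
  congr 1
  apply Subtype.ext
  simp only [Subgroup.coe_mul, mul_smul]
  group

lemma cocy_one (q : G ⧸ H) : cocy f (1 : G) q = 0 := by
  have h := cocy_mul f hf 1 1 q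
  rw [one_mul, one_smul] at h
  simpa using h

lemma map_one_zero : f 1 = 0 := by
  have h := hf 1 1
  rw [one_mul] at h
  simpa using h

lemma map_inv_neg (a : H) : f a⁻¹ = - f a := by
  have h := hf a a⁻¹
  rw [mul_inv_cancel, map_one_zero f hf] at h
  exact (neg_eq_of_add_eq_zero_right h.symm).symm

lemma cocy_base {u : G} (hu : u ∈ H) : cocy f u ((1 : G) : G ⧸ H) = f ⟨u, hu⟩ := by
  have e : u • ((1 : G) : G ⧸ H) = ((1 : G) : G ⧸ H) := by
    rw [MulAction.Quotient.smul_coe, smul_eq_mul, mul_one, QuotientGroup.eq]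
    simpa using H.inv_mem hu
  have hr : (((1 : G) : G ⧸ H)).out ∈ H := by
    have := QuotientGroup.out_eq' ((1 : G) : G ⧸ H)
    rw [QuotientGroup.eq, mul_one] at this
    simpa using this
  unfold cocy
  have : (⟨(u • ((1 : G) : G ⧸ H)).out⁻¹ * u * (((1 : G) : G ⧸ H)).out, cocy_mem u _⟩ : H) =
      (⟨_, hr⟩ : H)⁻¹ * ⟨u, hu⟩ * ⟨_, hr⟩ := Subtype.ext (by simp only [e, Subgroup.coe_mul, InvMemClass.coe_inv])
  rw [this, hf, hf, map_inv_neg f hf]
  abel

/-- If `G = O^2(G)` every transfer into a group of exponent `2` is trivial. -/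
lemma sum_cocy [Fintype (G ⧸ H)] (hM : ∀ m : M, m + m = 0) (hres : Cfsg.pResidual 2 G = ⊤) (g : G) :
    ∑ q : G ⧸ H, cocy f g q = 0 := by
  have hV : ∀ g₁ g₂ : G, ∑ q : G ⧸ H, cocy f (g₁ * g₂) q =
      ∑ q : G ⧸ H, cocy f g₁ q + ∑ q : G ⧸ H, cocy f g₂ q := by
    intro g₁ g₂
    simp only [cocy_mul f hf, Finset.sum_add_distrib]
    congr 1
    exact Equiv.sum_comp (MulAction.toPerm g₂) (cocy f g₁)
  have hV1 : ∑ q : G ⧸ H, cocy f (1 : G) q = 0 := by simp [cocy_one f hf]
  have hVp : ∀ (g : G) (n : ℕ),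
      ∑ q : G ⧸ H, cocy f (g ^ n) q = n • ∑ q : G ⧸ H, cocy f g q := by
    intro g n
    induction n with
    | zero => simpa using hV1
    | succ n ih => rw [pow_succ, hV, ih, succ_nsmul]
  have hg : g ∈ Cfsg.pResidual 2 G := hres ▸ mem_top g
  induction hg using Subgroup.closure_induction with
  | mem x hx =>
    have h := hVp x (orderOf x)
    rw [pow_orderOf_eq_one, hV1] at h
    obtain ⟨m, hm⟩ := Nat.coprime_two_right.1 (show Nat.Coprime (orderOf x) 2 from hx)
    rw [hm, add_nsmul, one_nsmul, two_mul, add_nsmul, hM, zero_add] at h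
    exact h.symm
  | one => exact hV1
  | mul x y _ _ hx hy => rw [hV, hx, hy, add_zero]
  | inv x _ hx =>
    have h := hV x x⁻¹
    rwa [mul_inv_cancel, hV1, hx, zero_add, eq_comm] at h

end Cocycle

/-- The sum of an affine function over an orbit of `2`-power size. -/
lemma sum_orbit_affine {A X : Type*} [Group A] [MulAction A X] (O : Finset X) (q₀ : X)
    (hO : ∀ q, q ∈ O ↔ q ∈ MulAction.orbit A q₀) (g : X → ZMod 2) (c : ZMod 2) (ψ : A → ZMod 2)
    (hψ : ∀ a b, ψ (a * b) = ψ a + ψ b) (hg : ∀ a, g (a • q₀) = c + ψ a)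
    (heven : 2 ∣ O.card) (h4 : ∀ a, ψ a ≠ 0 → 4 ∣ O.card) : ∑ q ∈ O, g q = 0 := by
  classical
  have hnsmul : ∀ (n : ℕ) (a : ZMod 2), 2 ∣ n → n • a = 0 := by
    rintro n a ⟨m, rfl⟩
    rw [mul_comm, mul_smul, two_nsmul, two_zero, nsmul_zero]
  have hmem : ∀ q ∈ O, ∃ a : A, a • q₀ = q := fun q hq => MulAction.mem_orbit_iff.1 ((hO q).1 hq)
  by_cases hall : ∀ a, ψ a = 0
  · rw [Finset.sum_congr rfl (g := fun _ => c) fun q hq => by
      obtain ⟨a, rfl⟩ := hmem q hq
      rw [hg, hall, add_zero], Finset.sum_const]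
    exact hnsmul _ _ heven
  push Not at hall
  obtain ⟨a₁, ha₁⟩ := hall
  have ha₁' : ψ a₁ = 1 := by
    have := eq_add_one_of_ne ha₁
    simpa using this
  have h4' := h4 a₁ ha₁
  have hcard : (O.filter fun q => g q = c).card = (O.filter fun q => ¬ g q = c).card := by
    refine Finset.card_bij' (fun q _ => a₁ • q) (fun q _ => a₁⁻¹ • q) ?_ ?_ ?_ ?_
    · intro q hq
      rw [Finset.mem_filter] at hq ⊢
      obtain ⟨a, rfl⟩ := hmem q hq.1
      refine ⟨(hO _).2 (by rw [← mul_smul]; exact MulAction.mem_orbit _ _), ?_⟩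
      rw [← mul_smul, hg, hψ, ha₁']
      have h0 := hq.2
      rw [hg, add_eq_left] at h0
      simp [h0]
    · intro q hq
      rw [Finset.mem_filter] at hq ⊢
      obtain ⟨a, rfl⟩ := hmem q hq.1
      refine ⟨(hO _).2 (by rw [← mul_smul]; exact MulAction.mem_orbit _ _), ?_⟩
      rw [← mul_smul, hg, add_eq_left]
      have h0 : ψ a ≠ 0 := fun h => hq.2 (by rw [hg, h, add_zero])
      have h1 := hψ a₁ (a₁⁻¹ * a)
      rw [mul_inv_cancel_left, ha₁', eq_add_one_of_ne h0, zero_add] at h1
      exact add_eq_left.1 h1.symm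
    · intro q _; simp
    · intro q _; simp
  have hsum := Finset.card_filter_add_card_filter_not (s := O) (fun q => g q = c)
  have hA : 2 ∣ (O.filter fun q => g q = c).card := by omega
  rw [← Finset.sum_filter_add_sum_filter_not O (fun q => g q = c)]
  rw [Finset.sum_congr rfl (g := fun _ => c) (fun q hq => (Finset.mem_filter.1 hq).2),
    Finset.sum_congr rfl (g := fun _ => c + 1)
      (fun q hq => eq_add_one_of_ne (Finset.mem_filter.1 hq).2),
    Finset.sum_const, Finset.sum_const, hnsmul _ _ hA, hnsmul _ _ (hcard ▸ hA), add_zero]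

/-- Extending an additive function to a subgroup whose squares and commutators lie in `⟨z⟩`. -/
lemma exists_extend [Finite G] {E : Subgroup G} {z : G} (hE : Extra E z) (M : Subgroup G) :
    z ∈ M → M ≤ E → ∀ l : G → ZMod 2, (∀ x ∈ M, ∀ y ∈ M, l (x * y) = l x + l y) → l z = 0 →
      ∃ L : G → ZMod 2, (∀ x ∈ E, ∀ y ∈ E, L (x * y) = L x + L y) ∧ L z = 0 ∧ ∀ x ∈ M, L x = l x := by
  classical
  induction M using WellFoundedGT.induction with
  | _ M ih =>
    intro hzM hME l hl hlz
    by_cases hEM : E ≤ M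
    · exact ⟨l, fun x hx y hy => hl x (hEM hx) y (hEM hy), hlz, fun _ _ => rfl⟩
    obtain ⟨e, heE, heM⟩ := SetLike.not_le_iff_exists.1 hEM
    have hee : e * e ∈ M := by
      rcases hE.sq_cases heE with h | h <;> rw [h]
      · exact one_mem _
      · exact hzM
    have hlee : l (e * e) = 0 := by
      rcases hE.sq_cases heE with h | h <;> rw [h]
      · have := hl 1 (one_mem _) 1 (one_mem _)
        rw [one_mul] at this
        simpa using this
      · exact hlz
    have hconj : ∀ m ∈ M, e⁻¹ * m * e ∈ M ∧ l (e⁻¹ * m * e) = l m := by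
      intro m hm
      rcases hE.conj_cases (hME hm) (E.inv_mem heE) with h | h <;> rw [inv_inv] at h <;> rw [h]
      · exact ⟨hm, rfl⟩
      · exact ⟨mul_mem hm hzM, by rw [hl m hm z hzM, hlz, add_zero]⟩
    -- the subgroup `M ∪ eM`
    let M' : Subgroup G :=
      { carrier := {x | x ∈ M ∨ e⁻¹ * x ∈ M}
        one_mem' := Or.inl M.one_mem
        mul_mem' := fun {x y} hx hy => by
          rcases hx with hx | hx <;> rcases hy with hy | hy
          · exact Or.inl (M.mul_mem hx hy)
          · refine Or.inr ?_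
            have := M.mul_mem (hconj x hx).1 hy
            rwa [show e⁻¹ * x * e * (e⁻¹ * y) = e⁻¹ * (x * y) by group] at this
          · refine Or.inr ?_
            rw [← mul_assoc]
            exact M.mul_mem hx hy
          · refine Or.inl ?_
            have h1 := M.mul_mem hee (M.mul_mem (hconj _ hx).1 hy)
            rwa [show e * e * (e⁻¹ * (e⁻¹ * x) * e * (e⁻¹ * y)) = x * y by group] at h1
        inv_mem' := fun {x} hx => by
          rcases hx with hx | hx
          · exact Or.inl (M.inv_mem hx)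
          · refine Or.inr ?_
            have h1 := M.mul_mem (hconj _ (M.inv_mem hx)).1 (M.inv_mem hee)
            rwa [show e⁻¹ * (e⁻¹ * x)⁻¹ * e * (e * e)⁻¹ = e⁻¹ * x⁻¹ by group] at h1 }
    have hMM' : M < M' := lt_of_le_of_ne (fun x hx => Or.inl hx)
      (fun h => heM (h ▸ Or.inr (by simpa using M.one_mem)))
    have hM'E : M' ≤ E := by
      rintro x (hx | hx)
      · exact hME hx
      · have := E.mul_mem heE (hME hx)
        rwa [mul_inv_cancel_left] at this
    let l' : G → ZMod 2 := fun x => if x ∈ M then l x else l (e⁻¹ * x)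
    have hl'1 : ∀ x ∈ M, l' x = l x := fun x hx => if_pos hx
    have hl'2 : ∀ x, e⁻¹ * x ∈ M → l' x = l (e⁻¹ * x) := by
      intro x hx
      refine if_neg fun hxM => heM ?_
      have := M.mul_mem hxM (M.inv_mem hx)
      rwa [show x * (e⁻¹ * x)⁻¹ = e by group] at this
    have hl' : ∀ x ∈ M', ∀ y ∈ M', l' (x * y) = l' x + l' y := by
      rintro x (hx | hx) y (hy | hy)
      · rw [hl'1 _ hx, hl'1 _ hy, hl'1 _ (M.mul_mem hx hy), hl x hx y hy]
      · have h1 := M.mul_mem (hconj x hx).1 hy
        have e1 : e⁻¹ * x * e * (e⁻¹ * y) = e⁻¹ * (x * y) := by group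
        rw [hl'1 _ hx, hl'2 _ hy, hl'2 _ (e1 ▸ h1), ← e1, hl _ (hconj x hx).1 _ hy, (hconj x hx).2]
      · rw [hl'2 _ hx, hl'1 _ hy, hl'2 _ (by rw [← mul_assoc]; exact M.mul_mem hx hy), ← mul_assoc,
          hl _ hx _ hy]
      · have h1 := M.mul_mem hee (M.mul_mem (hconj _ hx).1 hy)
        have e1 : e * e * (e⁻¹ * (e⁻¹ * x) * e * (e⁻¹ * y)) = x * y := by group
        rw [hl'2 _ hx, hl'2 _ hy, hl'1 _ (e1 ▸ h1), ← e1,
          hl _ hee _ (M.mul_mem (hconj _ hx).1 hy), hl _ (hconj _ hx).1 _ hy, (hconj _ hx).2, hlee,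
          zero_add]
    obtain ⟨L, hL, hLz, hLl⟩ := ih M' hMM' (hMM'.le hzM) hM'E l' hl' (by rw [hl'1 _ hzM]; exact hlz)
    exact ⟨L, hL, hLz, fun x hx => by rw [hLl x (Or.inl hx), hl'1 _ hx]⟩

section Setting

variable [Finite G] {E : Subgroup G} {z : G}

/-- The hypotheses on `(z, E)`. -/
structure Setting (E : Subgroup G) (z : G) : Prop where
  extra : Extra E z
  le_H : E ≤ centralizer ({z} : Set G)
  normal : ∀ h ∈ centralizer ({z} : Set G), ∀ e ∈ E, h * e * h⁻¹ ∈ E
  cent : centralizer (E : Set G) ≤ E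

namespace Setting

theorem eq_base (hS : Setting E z) (q : G ⧸ centralizer ({z} : Set G))
    (hq : ∀ e ∈ E, e • q = q) : q = ((1 : G) : G ⧸ centralizer ({z} : Set G)) := by
  set x := q.out with hx
  have hxq : (x : G ⧸ centralizer ({z} : Set G)) = q := QuotientGroup.out_eq' q
  have hc : x * z * x⁻¹ ∈ centralizer (E : Set G) := by
    refine mem_centralizer_iff.2 fun e he => ?_
    have h1 := hq e he
    rw [← hxq, MulAction.Quotient.smul_coe, smul_eq_mul, QuotientGroup.eq] at h1
    have h2 : x⁻¹ * e * x ∈ centralizer ({z} : Set G) := by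
      have := inv_mem h1
      rwa [show ((e * x)⁻¹ * x)⁻¹ = x⁻¹ * e * x by group] at this
    rw [mem_centralizer_singleton_iff] at h2
    calc e * (x * z * x⁻¹) = x * ((x⁻¹ * e * x) * z) * x⁻¹ := by group
      _ = x * (z * (x⁻¹ * e * x)) * x⁻¹ := by rw [h2]
      _ = x * z * x⁻¹ * e := by group
  have hzx : x * z * x⁻¹ = z := by
    rcases hS.extra.mem_center_cases (hS.cent hc)
      (fun e he => (mem_centralizer_iff.1 hc e he).symm) with h | h
    · exact absurd (conj_eq_one_iff.1 h) hS.extra.z_ne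
    · exact h
  rw [← hxq, QuotientGroup.eq, mul_one, inv_mem_iff, mem_centralizer_singleton_iff]
  exact mul_inv_eq_iff_eq_mul.1 hzx

end Setting

/-- The `E`-orbit of a coset. -/
noncomputable def orb [Fintype (G ⧸ centralizer ({z} : Set G))] (E : Subgroup G)
    (q : G ⧸ centralizer ({z} : Set G)) : Finset (G ⧸ centralizer ({z} : Set G)) := by
  classical exact Finset.univ.filter fun q' => q' ∈ MulAction.orbit E q

variable [Fintype (G ⧸ centralizer ({z} : Set G))]

lemma mem_orb {q q' : G ⧸ centralizer ({z} : Set G)} :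
    q' ∈ orb E q ↔ q' ∈ MulAction.orbit E q := by
  classical simp [orb]

lemma smul_mem_orb {e : G} (he : e ∈ E) {q q' : G ⧸ centralizer ({z} : Set G)} (hq : q' ∈ orb E q) :
    e • q' ∈ orb E q := by
  rw [mem_orb] at hq ⊢
  exact MulAction.mem_orbit_of_mem_orbit (⟨e, he⟩ : E) hq

lemma exists_of_mem_orb {q q' : G ⧸ centralizer ({z} : Set G)} (hq : q' ∈ orb E q) :
    ∃ e ∈ E, e • q = q' := by
  obtain ⟨e, he⟩ := MulAction.mem_orbit_iff.1 (mem_orb.1 hq)
  exact ⟨e, e.2, he⟩

lemma card_orb_eq (q : G ⧸ centralizer ({z} : Set G)) :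
    (orb E q).card = (MulAction.stabilizer E q).index := by
  classical
  rw [MulAction.index_stabilizer, Set.ncard_eq_toFinset_card']
  congr 1
  ext q'
  simp [mem_orb]

lemma base_fixed (hS : Setting E z) {e : G} (he : e ∈ centralizer ({z} : Set G)) :
    e • ((1 : G) : G ⧸ centralizer ({z} : Set G)) = ((1 : G) : G ⧸ centralizer ({z} : Set G)) := by
  rw [MulAction.Quotient.smul_coe, smul_eq_mul, mul_one, QuotientGroup.eq, mul_one, inv_mem_iff]
  exact he

/-- An orbit off the base point has `2`-power order `> 1`. -/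
lemma card_orb (hS : Setting E z) {q : G ⧸ centralizer ({z} : Set G)}
    (hq : q ≠ ((1 : G) : G ⧸ centralizer ({z} : Set G))) :
    2 ∣ (orb E q).card ∧ ((orb E q).card ≠ 2 → 4 ∣ (orb E q).card) := by
  haveI : Fact (Nat.Prime 2) := ⟨Nat.prime_two⟩
  obtain ⟨k, hk⟩ := (hS.extra.isPGroup).index (MulAction.stabilizer E q)
  rw [card_orb_eq, hk]
  cases k with
  | zero =>
    refine absurd (hS.eq_base q fun e he => ?_) hq
    rw [pow_zero, Subgroup.index_eq_one] at hk
    have : (⟨e, he⟩ : E) ∈ MulAction.stabilizer E q := hk ▸ mem_top _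
    exact this
  | succ k =>
    refine ⟨dvd_pow_self 2 k.succ_ne_zero, fun h => ?_⟩
    cases k with
    | zero => exact absurd (by norm_num) h
    | succ k => exact ⟨2 ^ k, by ring⟩

variable {M : Type*} [AddCommGroup M] (f : centralizer ({z} : Set G) → M)
  (hf : ∀ a b, f (a * b) = f a + f b)
include hf

/-- A coset in an orbit of length `2` is fixed by `z`, and `z` takes the value zero there. -/
lemma cocy_z_of_card_two (hS : Setting E z) (h32 : 32 ≤ Nat.card E)
    {q : G ⧸ centralizer ({z} : Set G)} (h2 : (orb E q).card = 2) :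
    z • q = q ∧ cocy f z q = 0 := by
  set D := MulAction.stabilizer E q with hD
  have hi : D.index = 2 := by rw [← card_orb_eq, h2]
  have hmemD : ∀ x : E, x ∈ D ↔ (x : G) • q = q := fun x => Iff.rfl
  let z' : E := ⟨z, hS.extra.z_mem⟩
  have hne : ∀ g : E, g ∉ D → (∀ x ∈ D, ∀ y ∈ D, x * y = y * x) → False := by
    intro g hg hab
    have hcen : ∀ d ∈ D, d * g = g * d → d ∈ center E := fun d hd h2 =>
      Subgroup.mem_center_iff.2 fun y => by
        by_cases hy : y ∈ D
        · exact hab y hy d hd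
        · have hy' : g⁻¹ * y ∈ D :=
            (Subgroup.mul_mem_iff_of_index_two hi).2 (iff_of_false (by rwa [inv_mem_iff]) hy)
          calc y * d = g * ((g⁻¹ * y) * d) := by group
            _ = g * (d * (g⁻¹ * y)) := by rw [hab _ hy' d hd]
            _ = g * d * (g⁻¹ * y) := by rw [mul_assoc]
            _ = d * g * (g⁻¹ * y) := by rw [h2]
            _ = d * y := by group
    have hcard : Nat.card D ≤ 2 * Nat.card (center E) := by
      by_cases hall : ∀ d ∈ D, d * g = g * d
      · exact CfsgLib.KGroups.ExtraspecialDual.card_le_two_mul 1 fun x hx =>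
          Or.inl (hcen x hx (hall x hx))
      push Not at hall
      obtain ⟨d₀, hd₀, hd₀g⟩ := hall
      refine CfsgLib.KGroups.ExtraspecialDual.card_le_two_mul d₀⁻¹ fun x hx => ?_
      by_cases hxg : x * g = g * x
      · exact Or.inl (hcen x hx hxg)
      · refine Or.inr (hcen _ (mul_mem (inv_mem hd₀) hx) (Subtype.ext ?_))
        have e1 : ∀ w : E, w * g ≠ g * w → (w : G) * g * (w : G)⁻¹ = (g : G) * z := fun w hw =>
          hS.extra.conj_eq_of_not_comm g.2 w.2 fun h => hw (Subtype.ext h)
        have h1 := e1 x hxg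
        have h2 := e1 d₀ hd₀g
        show (d₀ : G)⁻¹ * x * g = g * ((d₀ : G)⁻¹ * x)
        calc (d₀ : G)⁻¹ * x * g = (d₀ : G)⁻¹ * ((x : G) * g * (x : G)⁻¹) * x := by group
          _ = (d₀ : G)⁻¹ * ((d₀ : G) * g * (d₀ : G)⁻¹) * x := by rw [h1, h2]
          _ = g * ((d₀ : G)⁻¹ * x) := by group
    rw [hS.extra.ext.2] at hcard
    have := Subgroup.card_mul_index D
    rw [hi] at this
    omega
  have hsq : ∀ x : E, x * x ∈ D := fun x => Subgroup.mul_self_mem_of_index_two hi x
  have hzD : z' ∈ D := by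
    by_contra hzD
    refine hne z' hzD fun x hx y hy => ?_
    rcases hS.extra.conj_cases y.2 x.2 with h | h
    · exact Subtype.ext (mul_inv_eq_iff_eq_mul.1 h)
    · exfalso
      refine hzD ?_
      have h' : y⁻¹ * (x * y * x⁻¹) = z' := Subtype.ext (by
        show (y : G)⁻¹ * ((x : G) * y * (x : G)⁻¹) = z
        rw [h, inv_mul_cancel_left])
      rw [← h']
      exact mul_mem (inv_mem hy) (mul_mem (mul_mem hx hy) (inv_mem hx))
  refine ⟨(hmemD z').1 hzD, ?_⟩
  obtain ⟨d₁, hd₁, d₂, hd₂, hd⟩ : ∃ d₁ ∈ D, ∃ d₂ ∈ D, d₁ * d₂ ≠ d₂ * d₁ := by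
    by_contra hab
    push Not at hab
    obtain ⟨g, hg⟩ : ∃ g : E, g ∉ D := by
      by_contra h
      push Not at h
      rw [Subgroup.index_eq_one.2 (eq_top_iff.2 fun x _ => h x)] at hi
      omega
    exact hne g hg hab
  have h1 : (d₁ : G) * d₂ * (d₁ : G)⁻¹ = (d₂ : G) * z :=
    hS.extra.conj_eq_of_not_comm d₂.2 d₁.2 fun h => hd (Subtype.ext h)
  have h2 : (d₁ : G) * d₂ = (d₂ : G) * d₁ * z := by
    calc (d₁ : G) * d₂ = (d₁ : G) * d₂ * (d₁ : G)⁻¹ * d₁ := by group
      _ = _ := by rw [h1, mul_assoc, hS.extra.z_comm d₁.2, ← mul_assoc]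
  have h3 := congrArg (fun x => cocy f x q) h2
  simp only [cocy_mul f hf, (hmemD d₁).1 hd₁, (hmemD d₂).1 hd₂, (hmemD z').1 hzD] at h3
  have hzz : z • q = q := (hmemD z').1 hzD
  rw [hzz, (hmemD d₁).1 hd₁] at h3
  have h4 : cocy f (d₁ : G) q + cocy f (d₂ : G) q + cocy f z q = cocy f (d₁ : G) q + cocy f (d₂ : G) q := by
    rw [add_comm (cocy f (d₁ : G) q) (cocy f (d₂ : G) q)]
    rw [← h3]
    abel
  exact add_eq_left.1 h4

omit hf

/-- The extension of the cocycle from a stabiliser to `E`. -/
lemma exists_ext (hS : Setting E z) (χ : centralizer ({z} : Set G) → ZMod 2)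
    (hχ : ∀ a b, χ (a * b) = χ a + χ b) {q : G ⧸ centralizer ({z} : Set G)}
    (hz : z • q = q → cocy χ z q = 0) :
    ∃ L : G → ZMod 2, (∀ x ∈ E, ∀ y ∈ E, L (x * y) = L x + L y) ∧
      ∀ x ∈ E, x • q = q → L x = cocy χ x q := by
  classical
  have hzz : z * z = 1 := hS.extra.z_sq
  have hz1 : z⁻¹ = z := hS.extra.inv_z
  let M : Subgroup G :=
    { carrier := {x | x ∈ E ∧ (x • q = q ∨ (z * x) • q = q)}
      one_mem' := ⟨E.one_mem, Or.inl (one_smul _ _)⟩
      mul_mem' := fun {x y} hx hy => by
        refine ⟨E.mul_mem hx.1 hy.1, ?_⟩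
        rcases hx.2 with h | h <;> rcases hy.2 with h' | h'
        · exact Or.inl (by rw [mul_smul, h', h])
        · refine Or.inr ?_
          rw [← mul_assoc, hS.extra.z_comm hx.1, mul_assoc, mul_smul, h', h]
        · exact Or.inr (by rw [← mul_assoc, mul_smul, h', h])
        · refine Or.inl ?_
          have e : x * y = (z * x) * (z * y) := by
            rw [hS.extra.z_comm hx.1, mul_assoc, ← mul_assoc z, hzz, one_mul]
          rw [e, mul_smul, h', h]
      inv_mem' := fun {x} hx => by
        refine ⟨E.inv_mem hx.1, ?_⟩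
        rcases hx.2 with h | h
        · exact Or.inl (inv_smul_eq_iff.2 h.symm)
        · refine Or.inr ?_
          have e : z * x⁻¹ = (z * x)⁻¹ := by
            rw [mul_inv_rev, hz1, hS.extra.z_comm (E.inv_mem hx.1)]
          rw [e]
          exact inv_smul_eq_iff.2 h.symm }
  let l : G → ZMod 2 := fun x => if x • q = q then cocy χ x q else cocy χ (z * x) q
  have hl1 : ∀ x, x • q = q → l x = cocy χ x q := fun x hx => if_pos hx
  have hl2 : ∀ x, (z * x) • q = q → l x = cocy χ (z * x) q := by
    intro x hx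
    by_cases h : x • q = q
    · rw [hl1 x h]
      have h0 : z • q = q := by rwa [mul_smul, h] at hx
      rw [cocy_mul χ hχ, h, hz h0, zero_add]
    · exact if_neg h
  have hladd : ∀ x ∈ M, ∀ y ∈ M, l (x * y) = l x + l y := by
    rintro x ⟨hxE, hx | hx⟩ y ⟨hyE, hy | hy⟩
    · rw [hl1 _ hx, hl1 _ hy, hl1 _ (by rw [mul_smul, hy, hx]), cocy_mul χ hχ, hy]
    · have e : z * (x * y) = x * (z * y) := by rw [← mul_assoc, hS.extra.z_comm hxE, mul_assoc]
      rw [hl1 _ hx, hl2 _ hy, hl2 _ (by rw [e, mul_smul, hy, hx]), e, cocy_mul χ hχ, hy]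
    · have e : z * (x * y) = (z * x) * y := (mul_assoc _ _ _).symm
      rw [hl2 _ hx, hl1 _ hy, hl2 _ (by rw [e, mul_smul, hy, hx]), e, cocy_mul χ hχ, hy]
    · have e : x * y = (z * x) * (z * y) := by
        rw [hS.extra.z_comm hxE, mul_assoc, ← mul_assoc z, hzz, one_mul]
      rw [hl2 _ hx, hl2 _ hy, hl1 _ (by rw [e, mul_smul, hy, hx]), e, cocy_mul χ hχ, hy]
  have hlz : l z = 0 := by rw [hl2 z (by rw [hzz, one_smul]), hzz, cocy_one χ hχ]
  obtain ⟨L, hL, -, hLl⟩ := exists_extend hS.extra M
    ⟨hS.extra.z_mem, Or.inr (by rw [hzz, one_smul])⟩ (fun x hx => hx.1) l hladd hlz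
  exact ⟨L, hL, fun x hx hxq => by rw [hLl x ⟨hx, Or.inl hxq⟩, hl1 x hxq]⟩

/-- A character of exponent two of `H` is trivial once its cocycle extends on every non-trivial orbit. -/
theorem chi_eq_zero (hS : Setting E z) (hres : Cfsg.pResidual 2 G = ⊤)
    (χ : centralizer ({z} : Set G) → ZMod 2) (hχ : ∀ a b, χ (a * b) = χ a + χ b)
    (hgood : ∀ q, q ≠ ((1 : G) : G ⧸ centralizer ({z} : Set G)) →
      (z • q = q → cocy χ z q = 0) ∧
        ((orb E q).card = 2 → ∀ e ∈ E, e • q = q → cocy χ e q = 0))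
    (u : centralizer ({z} : Set G)) : χ u = 0 := by
  classical
  set q₁ : G ⧸ centralizer ({z} : Set G) := ((1 : G) : G ⧸ centralizer ({z} : Set G)) with hq₁
  obtain ⟨u, hu⟩ := u
  have hfix : ∀ e ∈ E, e • q₁ = q₁ := fun e he => base_fixed hS (hS.le_H he)
  let cls : G ⧸ centralizer ({z} : Set G) → MulAction.orbitRel.Quotient E (G ⧸ centralizer ({z} : Set G)) :=
    fun q => Quotient.mk'' q
  let b : G ⧸ centralizer ({z} : Set G) → G ⧸ centralizer ({z} : Set G) := fun q => (cls q).out
  have hcls : ∀ q q', cls q' = cls q ↔ q' ∈ orb E q := fun q q' => by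
    rw [mem_orb]
    exact Quotient.eq''
  have hb : ∀ q, q ∈ orb E (b q) := fun q => (hcls _ _).1 (Quotient.out_eq (cls q)).symm
  have hbq : ∀ q, ∀ e ∈ E, b (e • q) = b q := fun q e he => by
    show (cls (e • q)).out = (cls q).out
    rw [(hcls _ _).2 (smul_mem_orb he (mem_orb.2 (MulAction.mem_orbit_self q)))]
  have hne : ∀ q, q ≠ q₁ → b q ≠ q₁ := by
    intro q hq h
    obtain ⟨e, he, heq⟩ := exists_of_mem_orb (hb q)
    rw [h, hfix e he] at heq
    exact hq heq.symm
  have hext : ∀ q, ∃ L : G → ZMod 2, (∀ x ∈ E, ∀ y ∈ E, L (x * y) = L x + L y) ∧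
      (q ≠ q₁ → (∀ x ∈ E, x • q = q → L x = cocy χ x q) ∧ ((orb E q).card = 2 → ∀ x, L x = 0)) := by
    intro q
    by_cases hq : q = q₁
    · exact ⟨fun _ => 0, fun _ _ _ _ => (add_zero 0).symm, fun h => absurd hq h⟩
    by_cases h2 : (orb E q).card = 2
    · exact ⟨fun _ => 0, fun _ _ _ _ => (add_zero 0).symm,
        fun _ => ⟨fun x hx hxq => ((hgood q hq).2 h2 x hx hxq).symm, fun _ _ => rfl⟩⟩
    · obtain ⟨L, hL, hLx⟩ := exists_ext hS χ hχ (hgood q hq).1
      exact ⟨L, hL, fun _ => ⟨hLx, fun h => absurd h h2⟩⟩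
  choose L hLadd hLprop using hext
  choose w hwE hwq using fun q => exists_of_mem_orb (hb q)
  let c : G ⧸ centralizer ({z} : Set G) → ZMod 2 := fun q => cocy χ (w q) (b q) + L (b q) (w q)
  let a' : G → G ⧸ centralizer ({z} : Set G) → ZMod 2 := fun g q => cocy χ g q + c q + c (g • q)
  have ha'mul : ∀ g₁ g₂ q, a' (g₁ * g₂) q = a' g₁ (g₂ • q) + a' g₂ q := by
    intro g₁ g₂ q
    simp only [a', cocy_mul χ hχ, mul_smul]
    ring_nf
    have := two_zero (c (g₂ • q))
    rw [← two_mul] at this
    grind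
  have ha'E : ∀ q, q ≠ q₁ → ∀ e ∈ E, a' e q = L (b q) e := by
    intro q hq e he
    obtain ⟨hL1, -⟩ := hLprop (b q) (hne q hq)
    -- two expressions for the correction at `e • q`
    have hfixd : ((w (e • q))⁻¹ * (e * w q)) • b q = b q := by
      rw [mul_smul, mul_smul, hwq, inv_smul_eq_iff]
      have := hwq (e • q)
      rw [hbq q e he] at this
      exact this.symm
    have hmemd : (w (e • q))⁻¹ * (e * w q) ∈ E := mul_mem (inv_mem (hwE _)) (mul_mem he (hwE q))
    have h1 : cocy χ (e * w q) (b q) =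
        cocy χ (w (e • q)) (b q) + cocy χ ((w (e • q))⁻¹ * (e * w q)) (b q) := by
      conv_lhs => rw [← mul_inv_cancel_left (w (e • q)) (e * w q)]
      rw [cocy_mul χ hχ, hfixd]
    rw [← hL1 _ hmemd hfixd, cocy_mul χ hχ, hwq] at h1
    have h2 : L (b q) e + L (b q) (w q) =
        L (b q) (w (e • q)) + L (b q) ((w (e • q))⁻¹ * (e * w q)) := by
      rw [← hLadd _ e he _ (hwE q), ← hLadd _ _ (hwE _) _ hmemd, mul_inv_cancel_left]
    simp only [a', c, hbq q e he]
    linear_combination (norm := skip) h1 + h2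
    ring_nf
    grind
  have hV : ∑ q : G ⧸ centralizer ({z} : Set G), a' u q = 0 := by
    simp only [a', Finset.sum_add_distrib]
    rw [show ∑ q : G ⧸ centralizer ({z} : Set G), c (u • q) = ∑ q, c q from
      Equiv.sum_comp (MulAction.toPerm u) c, sum_cocy χ hχ two_zero hres u, zero_add, two_zero]
  have hu1 : a' u q₁ = χ ⟨u, hu⟩ := by
    simp only [a', q₁]
    rw [cocy_base χ hχ hu, base_fixed hS hu, add_assoc, two_zero, add_zero]
  have hother : ∀ o, o ≠ cls q₁ → ∑ q ∈ Finset.univ.filter (fun q => cls q = o), a' u q = 0 := by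
    intro o ho
    obtain ⟨q, rfl⟩ : ∃ q, cls q = o := ⟨o.out, Quotient.out_eq o⟩
    have hq : q ≠ q₁ := fun h => ho (h ▸ rfl)
    have huq : u • q ≠ q₁ := fun h => hq (MulAction.injective u (h.trans (base_fixed hS hu).symm))
    rw [show Finset.univ.filter (fun q' => cls q' = cls q) = orb E q by ext q'; simp [hcls]]
    have hconj : ∀ e ∈ E, u * e * u⁻¹ ∈ E := hS.normal u hu
    refine sum_orbit_affine (A := E) (orb E q) q (fun q' => mem_orb) _ (a' u q)
      (fun e => L (b (u • q)) (u * (e : G) * u⁻¹) + L (b q) e) ?_ ?_ (card_orb hS hq).1 ?_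
    · intro x y
      show L (b (u • q)) (u * ((x : G) * y) * u⁻¹) + L (b q) ((x : G) * y) = _
      rw [show u * ((x : G) * y) * u⁻¹ = (u * x * u⁻¹) * (u * y * u⁻¹) by group,
        hLadd _ _ (hconj x x.2) _ (hconj y y.2), hLadd _ _ x.2 _ y.2]
      abel
    · intro e
      show a' u ((e : G) • q) = _
      have h1 : a' (u * e) q = a' u ((e : G) • q) + L (b q) e := by
        rw [ha'mul, ha'E q hq e e.2]
      have h2 : a' (u * e) q = L (b (u • q)) (u * (e : G) * u⁻¹) + a' u q := by
        conv_lhs => rw [show u * (e : G) = u * e * u⁻¹ * u by group]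
        rw [ha'mul, ha'E _ huq _ (hconj e e.2)]
      linear_combination (norm := skip) h1.symm.trans h2
      ring_nf
      grind
    · intro e hne'
      refine (card_orb hS hq).2 fun h2 => hne' ?_
      have hc : ∀ q', q' ≠ q₁ → (orb E q').card = 2 → (orb E (b q')).card = 2 := fun q' _ h => by
        rw [← h]
        congr 1
        ext x
        rw [← hcls, ← hcls]
        show cls x = cls (cls q').out ↔ _
        rw [show cls (cls q').out = cls q' from Quotient.out_eq _]
      have hcu : (orb E (u • q)).card = 2 := by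
        rw [← h2]
        refine (Finset.card_bij' (fun x _ => u • x) (fun x _ => u⁻¹ • x) ?_ ?_ ?_ ?_).symm
        · intro x hx
          obtain ⟨a, ha, rfl⟩ := exists_of_mem_orb hx
          rw [← mul_smul, show u * a = u * a * u⁻¹ * u by group, mul_smul]
          exact smul_mem_orb (hconj a ha) (mem_orb.2 (MulAction.mem_orbit_self _))
        · intro x hx
          obtain ⟨a, ha, rfl⟩ := exists_of_mem_orb hx
          rw [← mul_smul, ← mul_smul]
          exact smul_mem_orb (by simpa [mul_assoc] using hS.normal _ (inv_mem hu) a ha)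
            (mem_orb.2 (MulAction.mem_orbit_self _))
        · intro x _; simp
        · intro x _; simp
      rw [(hLprop _ (hne _ huq)).2 (hc _ huq hcu), (hLprop _ (hne _ hq)).2 (hc _ hq h2), add_zero]
  rw [← Finset.sum_fiberwise Finset.univ cls (fun q => a' u q),
    Finset.sum_eq_single (cls q₁) (fun o _ ho => hother o ho) (fun h => absurd (Finset.mem_univ _) h)] at hV
  rw [show Finset.univ.filter (fun q => cls q = cls q₁) = {q₁} by
    ext q
    simp only [Finset.mem_filter, Finset.mem_univ, true_and, Finset.mem_singleton, hcls]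
    constructor
    · intro h
      obtain ⟨e, he, rfl⟩ := exists_of_mem_orb h
      exact hfix e he
    · rintro rfl; exact mem_orb.2 (MulAction.mem_orbit_self _),
    Finset.sum_singleton, hu1] at hV
  exact hV

/-- A character of exponent two of `H` vanishes on `E`. -/
theorem chi_E_eq_zero (hS : Setting E z) (h32 : 32 ≤ Nat.card E) (hres : Cfsg.pResidual 2 G = ⊤)
    (χ : centralizer ({z} : Set G) → ZMod 2) (hχ : ∀ a b, χ (a * b) = χ a + χ b)
    {e : G} (he : e ∈ E) : χ ⟨e, hS.le_H he⟩ = 0 := by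
  classical
  set q₁ : G ⧸ centralizer ({z} : Set G) := ((1 : G) : G ⧸ centralizer ({z} : Set G)) with hq₁
  let cls : G ⧸ centralizer ({z} : Set G) → MulAction.orbitRel.Quotient E (G ⧸ centralizer ({z} : Set G)) :=
    fun q => Quotient.mk'' q
  have hcls : ∀ q q', cls q' = cls q ↔ q' ∈ orb E q := fun q q' => by
    rw [mem_orb]
    exact Quotient.eq''
  have hV := sum_cocy χ hχ two_zero hres e
  rw [← Finset.sum_fiberwise Finset.univ cls (fun q => cocy χ e q),
    Finset.sum_eq_single (cls q₁) ?_ (fun h => absurd (Finset.mem_univ _) h)] at hV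
  · rw [show Finset.univ.filter (fun q => cls q = cls q₁) = {q₁} by
      ext q
      simp only [Finset.mem_filter, Finset.mem_univ, true_and, Finset.mem_singleton, hcls]
      constructor
      · intro h
        obtain ⟨a, ha, rfl⟩ := exists_of_mem_orb h
        exact base_fixed hS (hS.le_H ha)
      · rintro rfl; exact mem_orb.2 (MulAction.mem_orbit_self _),
      Finset.sum_singleton] at hV
    rwa [cocy_base χ hχ (hS.le_H he)] at hV
  intro o _ ho
  obtain ⟨q, rfl⟩ : ∃ q, cls q = o := ⟨o.out, Quotient.out_eq o⟩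
  have hq : q ≠ q₁ := fun h => ho (h ▸ rfl)
  rw [show Finset.univ.filter (fun q' => cls q' = cls q) = orb E q by ext q'; simp [hcls]]
  have heven := (card_orb hS hq).1
  by_cases hz : z • q = q → cocy χ z q = 0
  · -- the cocycle is additive after a correction
    obtain ⟨L, hL, hLx⟩ := exists_ext hS χ hχ hz
    choose w hwE hwq using fun q' (h : q' ∈ orb E q) => exists_of_mem_orb h
    let c : G ⧸ centralizer ({z} : Set G) → ZMod 2 := fun q' =>
      if h : q' ∈ orb E q then cocy χ (w q' h) q + L (w q' h) else 0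
    have key : ∀ q' ∈ orb E q, cocy χ e q' = (L e + c q') + c (e • q') := by
      intro q' hq'
      have hq'' := smul_mem_orb he hq'
      have hfixd : ((w _ hq'')⁻¹ * (e * w q' hq')) • q = q := by
        rw [mul_smul, mul_smul, hwq, inv_smul_eq_iff, hwq]
      have hmemd : (w _ hq'')⁻¹ * (e * w q' hq') ∈ E :=
        mul_mem (inv_mem (hwE _ _)) (mul_mem he (hwE q' hq'))
      have h1 : cocy χ (e * w q' hq') q =
          cocy χ (w _ hq'') q + cocy χ ((w _ hq'')⁻¹ * (e * w q' hq')) q := by
        conv_lhs => rw [← mul_inv_cancel_left (w _ hq'') (e * w q' hq')]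
        rw [cocy_mul χ hχ, hfixd]
      rw [← hLx _ hmemd hfixd, cocy_mul χ hχ, hwq] at h1
      have h2 : L e + L (w q' hq') = L (w _ hq'') + L ((w _ hq'')⁻¹ * (e * w q' hq')) := by
        rw [← hL e he _ (hwE q' hq'), ← hL _ (hwE _ _) _ hmemd, mul_inv_cancel_left]
      simp only [c, dif_pos hq', dif_pos hq'']
      linear_combination (norm := skip) h1 + h2
      ring_nf
      grind
    have hperm : ∑ q' ∈ orb E q, c (e • q') = ∑ q' ∈ orb E q, c q' :=
      Finset.sum_bij' (fun x _ => e • x) (fun x _ => e⁻¹ • x) (fun x hx => smul_mem_orb he hx)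
        (fun x hx => smul_mem_orb (inv_mem he) hx) (fun x _ => by simp) (fun x _ => by simp)
        (fun x _ => rfl)
    rw [Finset.sum_congr rfl key, Finset.sum_add_distrib, Finset.sum_add_distrib, hperm, add_assoc,
      two_zero, add_zero, Finset.sum_const]
    obtain ⟨m, hm⟩ := heven
    rw [hm, mul_comm, mul_smul, two_nsmul, two_zero, nsmul_zero]
  · push Not at hz
    obtain ⟨hzq, hz1⟩ := hz
    have h4 : 4 ∣ (orb E q).card :=
      (card_orb hS hq).2 fun h => hz1 (cocy_z_of_card_two χ hχ hS h32 h).2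
    have hzfix : ∀ a ∈ E, z • (a • q) = a • q := fun a ha => by
      rw [← mul_smul, hS.extra.z_comm ha, mul_smul, hzq]
    have hzv : ∀ a ∈ E, cocy χ z (a • q) = 1 := by
      intro a ha
      have h1 := congrArg (fun x => cocy χ x q) (hS.extra.z_comm ha)
      simp only [cocy_mul χ hχ, hzq] at h1
      rw [add_comm (cocy χ a q)] at h1
      rw [add_right_cancel h1, eq_add_one_of_ne hz1, zero_add]
    by_cases heq : e • q = q
    · -- `e` fixes the whole orbit
      refine sum_orbit_affine (A := E) (orb E q) q (fun _ => mem_orb) _ (cocy χ e q)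
        (fun a => if (a : G) * e = e * a then 0 else 1) ?_ ?_ heven (fun _ _ => h4)
      · intro x y
        have hc : ∀ v : E, ¬ (v : G) * e = e * v → (v : G) * e * (v : G)⁻¹ = e * z := fun v hv =>
          hS.extra.conj_eq_of_not_comm he v.2 hv
        have hc0 : ∀ v : E, (v : G) * e = e * v → (v : G) * e * (v : G)⁻¹ = e := fun v hv =>
          mul_inv_eq_iff_eq_mul.2 hv
        have hsplit : ((x * y : E) : G) * e * ((x * y : E) : G)⁻¹ =
            (x : G) * ((y : G) * e * (y : G)⁻¹) * (x : G)⁻¹ := by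
          push_cast; group
        have hez : (x : G) * (e * z) * (x : G)⁻¹ = (x : G) * e * (x : G)⁻¹ * z := by
          have : (x : G)⁻¹ * z = z * (x : G)⁻¹ := (hS.extra.z_comm (inv_mem x.2)).symm
          rw [mul_assoc _ _ z, this]; group
        have hiff : ((x * y : E) : G) * e = e * ((x * y : E) : G) ↔
            ((x * y : E) : G) * e * ((x * y : E) : G)⁻¹ = e := mul_inv_eq_iff_eq_mul.symm
        by_cases hx : (x : G) * e = e * x <;> by_cases hy : (y : G) * e = e * y
        · rw [if_pos hx, if_pos hy, if_pos (hiff.2 (by rw [hsplit, hc0 y hy, hc0 x hx])), add_zero]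
        · rw [if_pos hx, if_neg hy, if_neg, zero_add]
          rw [hiff, hsplit, hc y hy, hez, hc0 x hx]
          simpa using hS.extra.z_ne
        · rw [if_neg hx, if_pos hy, if_neg, add_zero]
          rw [hiff, hsplit, hc0 y hy, hc x hx]
          simpa using hS.extra.z_ne
        · rw [if_neg hx, if_neg hy, if_pos, two_zero]
          rw [hiff, hsplit, hc y hy, hez, hc x hx, mul_assoc, hS.extra.z_sq, mul_one]
      · intro a
        show cocy χ e ((a : G) • q) = _
        by_cases ha : (a : G) * e = e * a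
        · rw [if_pos ha, add_zero]
          have h1 := congrArg (fun x => cocy χ x q) ha
          have hfa : e • ((a : G) • q) = (a : G) • q := by rw [← mul_smul, ← ha, mul_smul, heq]
          simp only [cocy_mul χ hχ, heq] at h1
          rw [add_comm (cocy χ (a : G) q)] at h1
          exact (add_right_cancel h1).symm
        · rw [if_neg ha]
          have hc := hS.extra.conj_eq_of_not_comm he a.2 ha
          have e1 : e * (a : G) = (a : G) * (e * z) := by
            have : (a : G) * e = e * z * a := by rw [← hc]; group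
            calc e * (a : G) = e * (z * z) * a := by rw [hS.extra.z_sq, mul_one]
              _ = e * z * (z * a) := by group
              _ = e * z * a * z := by rw [hS.extra.z_comm a.2]; group
              _ = (a : G) * e * z := by rw [this]
              _ = _ := mul_assoc _ _ _
          have h1 := congrArg (fun x => cocy χ x q) e1
          simp only [cocy_mul χ hχ, mul_smul, hzq, heq] at h1
          rw [show cocy χ z q = 1 from by rw [eq_add_one_of_ne hz1, zero_add],
            add_comm (cocy χ (a : G) q)] at h1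
          exact add_right_cancel h1
    · -- `e` moves every point of the orbit
      have hmove : ∀ q' ∈ orb E q, e • q' ≠ q' := by
        intro q' hq' h
        obtain ⟨a, ha, rfl⟩ := exists_of_mem_orb hq'
        apply heq
        rcases hS.extra.conj_cases he (inv_mem ha) with h' | h' <;> rw [inv_inv] at h'
        · have : (a⁻¹ * e * a) • q = q := by rw [mul_smul, mul_smul, h, inv_smul_smul]
          rwa [h'] at this
        · have : (a⁻¹ * e * a) • q = q := by rw [mul_smul, mul_smul, h, inv_smul_smul]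
          rwa [h', mul_smul, hzq] at this
      have hee : e * e = 1 ∨ e * e = z := hS.extra.sq_cases he
      have hinv : ∀ q' ∈ orb E q, e • (e • q') = q' := by
        intro q' hq'
        obtain ⟨a, ha, rfl⟩ := exists_of_mem_orb hq'
        rw [← mul_smul e e]
        rcases hee with h | h <;> rw [h]
        · rw [one_smul]
        · exact hzfix a ha
      obtain ⟨k, hk⟩ : ∃ k, ∀ q' ∈ orb E q, cocy χ e (e • q') + cocy χ e q' = k := by
        rcases hee with h | h
        · refine ⟨0, fun q' _ => ?_⟩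
          rw [← cocy_mul χ hχ, h, cocy_one χ hχ]
        · refine ⟨1, fun q' hq' => ?_⟩
          obtain ⟨a, ha, rfl⟩ := exists_of_mem_orb hq'
          rw [← cocy_mul χ hχ, h, hzv a ha]
      by_cases hk0 : k = 0
      · exact Finset.sum_involution (fun x _ => e • x)
          (fun x hx => by rw [add_comm, hk x hx, hk0]) (fun x hx _ => hmove x hx)
          (fun x hx => smul_mem_orb he hx) (fun x hx => hinv x hx)
      · have hswap : ∀ x ∈ orb E q, cocy χ e (e • x) = cocy χ e x + 1 := by
          intro x hx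
          have := hk x hx
          rw [eq_add_one_of_ne hk0, zero_add] at this
          linear_combination (norm := skip) this
          ring_nf
          grind
        have hcard : ((orb E q).filter fun x => cocy χ e x = 0).card =
            ((orb E q).filter fun x => ¬ cocy χ e x = 0).card := by
          refine Finset.card_bij' (fun x _ => e • x) (fun x _ => e • x) ?_ ?_ ?_ ?_
          · intro x hx
            rw [Finset.mem_filter] at hx ⊢
            exact ⟨smul_mem_orb he hx.1, by rw [hswap x hx.1, hx.2]; decide⟩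
          · intro x hx
            rw [Finset.mem_filter] at hx ⊢
            exact ⟨smul_mem_orb he hx.1, by rw [hswap x hx.1, eq_add_one_of_ne hx.2]; decide⟩
          · exact fun x hx => hinv x (Finset.mem_filter.1 hx).1
          · exact fun x hx => hinv x (Finset.mem_filter.1 hx).1
        have hsum := Finset.card_filter_add_card_filter_not (s := orb E q) (fun x => cocy χ e x = 0)
        obtain ⟨m, hm⟩ := h4
        rw [← Finset.sum_filter_add_sum_filter_not (orb E q) (fun x => cocy χ e x = 0),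
          Finset.sum_eq_zero (fun x hx => (Finset.mem_filter.1 hx).2), zero_add,
          Finset.sum_congr rfl (g := fun _ => (0 : ZMod 2) + 1)
            (fun x hx => eq_add_one_of_ne (Finset.mem_filter.1 hx).2), Finset.sum_const,
          show ((orb E q).filter fun x => ¬ cocy χ e x = 0).card = 2 * m by omega, mul_comm, mul_smul,
          two_nsmul, two_zero, nsmul_zero]

end Setting

/-- The setting from the usual hypotheses. -/
theorem setting_of [Finite G] {E : Subgroup G} {z : G} (hz : orderOf z = 2)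
    (hE : E = (Cfsg.pCore 2 ↥(centralizer ({z} : Set G))).map (centralizer ({z} : Set G)).subtype)
    (hext : Cfsg.IsExtraspecial 2 ↥E) (hcent : centralizer (E : Set G) ≤ E) : Setting E z := by
  set C := centralizer ({z} : Set G) with hC
  have hzC : z ∈ C := mem_centralizer_singleton_iff.2 rfl
  have hEC : E ≤ C := hE ▸ map_subtype_le _
  have hn : ∀ h ∈ C, ∀ e ∈ E, h * e * h⁻¹ ∈ E := by
    intro h hh e he
    rw [hE] at he ⊢
    obtain ⟨e', he', rfl⟩ := he
    exact ⟨⟨h, hh⟩ * e' * (⟨h, hh⟩)⁻¹, (inferInstance : (Cfsg.pCore 2 ↥C).Normal).conj_mem e' he' _, rfl⟩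
  have hzcen : (⟨z, hzC⟩ : C) ∈ center C := Subgroup.mem_center_iff.2 fun g =>
    Subtype.ext (mem_centralizer_singleton_iff.1 g.2)
  haveI : (zpowers (⟨z, hzC⟩ : C)).Normal := ⟨fun a ha g => by
    rwa [(Subgroup.mem_center_iff.1 (zpowers_le.2 hzcen ha) g), mul_inv_cancel_right]⟩
  have hzE : z ∈ E := by
    rw [hE]
    refine ⟨⟨z, hzC⟩, CfsgLib.Solvable.Cores.le_pCore (IsPGroup.of_card (n := 1) ?_)
      (mem_zpowers _), rfl⟩
    rw [Nat.card_zpowers, Subgroup.orderOf_mk, hz, pow_one]
  obtain ⟨z', hz'⟩ := CfsgLib.ThreeTransp.Extraspecial.exists_extra hext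
  rcases hz'.mem_center_cases hzE fun e he => (mem_centralizer_singleton_iff.1 (hEC he)).symm with h | h
  · rw [h, orderOf_one] at hz; omega
  · subst h
    exact ⟨hz', hEC, hn, hcent⟩

end CfsgLib.Characterizations.LargeExtraspecialTransfer
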