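import Mathlib
import Cfsg.Agent.Lib.Characterizations.LargeExtraspecialTransfer

/-!
Quadratic corrections of the transfer cocycle on the `E`-orbits, and the transvection case: with a large
extraspecial `E = O₂(C(z))` of width at least three, `z` is fused into `E` as soon as `C(z)` has a subgroup
of index two.
-/

set_option autoImplicit false
set_option linter.unusedSectionVars false

namespace CfsgLib.Characterizations.LargeExtraspecialTransfer

open Subgroup
open CfsgLib.ThreeTransp.Extraspecial (Extra)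

variable {G : Type*} [Group G]

/-- The sum of a quadratic function over an orbit of `2`-power size at least `8`. -/
lemma sum_orbit_quadratic {A X : Type*} [Group A] [MulAction A X] (O : Finset X) (q₀ : X)
    (hO : ∀ q, q ∈ O ↔ q ∈ MulAction.orbit A q₀) (g : X → ZMod 2) (c : ZMod 2) (P : A → ZMod 2)
    (β : A → A → ZMod 2) (hP : ∀ x y, P (x * y) = P x + P y + β x y)
    (hβr : ∀ x y y', β x (y * y') = β x y + β x y') (hg : ∀ v, g (v • q₀) = c + P v)
    (h8 : 8 ∣ O.card) (a : A) (η : A → ZMod 2) (hη : ∀ x y, η (x * y) = η x + η y) (hηa : η a = 1)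
    (hηs : ∀ v : A, v • q₀ = q₀ → η v = 0) (haa : ∀ x ∈ O, a • a • x = x) :
    ∑ q ∈ O, g q = 0 := by
  classical
  let K : Subgroup A :=
    { carrier := {v | η v = 0}
      one_mem' := by
        have h := hη 1 1
        rw [one_mul] at h
        show η 1 = 0
        simpa using h
      mul_mem' := fun {x y} hx hy => by
        show η (x * y) = 0
        rw [hη, show η x = 0 from hx, show η y = 0 from hy, add_zero]
      inv_mem' := fun {x} hx => by
        have h := hη x x⁻¹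
        have h1 := hη 1 1
        rw [one_mul] at h1
        rw [mul_inv_cancel, show η x = 0 from hx, zero_add] at h
        show η x⁻¹ = 0
        rw [← h]
        simpa using h1 }
  have hmem : ∀ q ∈ O, ∃ v : A, v • q₀ = q := fun q hq => MulAction.mem_orbit_iff.1 ((hO q).1 hq)
  have hKiff : ∀ v : A, v • q₀ ∈ MulAction.orbit K q₀ ↔ η v = 0 := by
    intro v
    constructor
    · intro h
      obtain ⟨k, hk⟩ := MulAction.mem_orbit_iff.1 h
      have h1 : ((k : A)⁻¹ * v) • q₀ = q₀ := by rw [mul_smul, inv_smul_eq_iff]; exact hk.symm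
      have h2 := hη (k : A) ((k : A)⁻¹ * v)
      rw [mul_inv_cancel_left, hηs _ h1, show η (k : A) = 0 from k.2, add_zero] at h2
      exact h2
    · exact fun h => ⟨⟨v, h⟩, rfl⟩
  set O₀ := O.filter fun q => q ∈ MulAction.orbit K q₀ with hO₀
  have hswap : ∀ x ∈ O, (a • x ∈ MulAction.orbit K q₀ ↔ ¬ x ∈ MulAction.orbit K q₀) ∧ a • x ∈ O := by
    intro x hx
    obtain ⟨v, rfl⟩ := hmem x hx
    refine ⟨?_, (hO _).2 (by rw [← mul_smul]; exact MulAction.mem_orbit _ _)⟩
    rw [← mul_smul, hKiff, hKiff, hη, hηa]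
    generalize η v = t
    revert t; decide
  have hsum1 : ∑ q ∈ O.filter (fun q => ¬ q ∈ MulAction.orbit K q₀), g q = ∑ q ∈ O₀, g (a • q) := by
    refine Finset.sum_bij' (fun x _ => a • x) (fun x _ => a • x) ?_ ?_ ?_ ?_ ?_
    · intro x hx
      rw [Finset.mem_filter] at hx ⊢
      exact ⟨(hswap x hx.1).2, (hswap x hx.1).1.2 hx.2⟩
    · intro x hx
      rw [Finset.mem_filter] at hx ⊢
      exact ⟨(hswap x hx.1).2, fun h => (hswap x hx.1).1.1 h hx.2⟩
    · exact fun x hx => haa x (Finset.mem_filter.1 hx).1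
    · exact fun x hx => haa x (Finset.mem_filter.1 hx).1
    · intro x hx
      rw [haa x (Finset.mem_filter.1 hx).1]
  have hcard : (O.filter fun q => ¬ q ∈ MulAction.orbit K q₀).card = O₀.card := by
    refine Finset.card_bij' (fun x _ => a • x) (fun x _ => a • x) ?_ ?_ ?_ ?_
    · intro x hx
      rw [Finset.mem_filter] at hx ⊢
      exact ⟨(hswap x hx.1).2, (hswap x hx.1).1.2 hx.2⟩
    · intro x hx
      rw [Finset.mem_filter] at hx ⊢
      exact ⟨(hswap x hx.1).2, fun h => (hswap x hx.1).1.1 h hx.2⟩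
    · exact fun x hx => haa x (Finset.mem_filter.1 hx).1
    · exact fun x hx => haa x (Finset.mem_filter.1 hx).1
  have h4 : 4 ∣ O₀.card := by
    have := Finset.card_filter_add_card_filter_not (s := O) (fun q => q ∈ MulAction.orbit K q₀)
    rw [← hO₀] at this
    omega
  rw [← Finset.sum_filter_add_sum_filter_not O (fun q => q ∈ MulAction.orbit K q₀), hsum1, ← hO₀,
    ← Finset.sum_add_distrib]
  refine sum_orbit_affine (A := K) O₀ q₀ ?_ _ (P a) (fun v => β a (v : A)) (fun x y => hβr a x y) ?_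
    (dvd_trans (by norm_num) h4) (fun _ _ => h4)
  · intro q
    rw [hO₀, Finset.mem_filter]
    refine ⟨fun h => h.2, fun h => ⟨?_, h⟩⟩
    obtain ⟨k, rfl⟩ := MulAction.mem_orbit_iff.1 h
    exact (hO _).2 (MulAction.mem_orbit q₀ (k : A))
  · intro v
    show g ((v : A) • q₀) + g (a • (v : A) • q₀) = _
    rw [← mul_smul, hg, hg, hP]
    generalize c = c'
    generalize P (v : A) = p
    generalize P a = p'
    generalize β a (v : A) = b'
    revert c' p p' b'; decide

/-- Extending a character with value `1` at `z` to a quadratic function on `E`. -/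
lemma exists_quad [Finite G] {E : Subgroup G} {z : G} (hE : Extra E z) (M₀ : Subgroup G) (hzM₀ : z ∈ M₀)
    (M : Subgroup G) :
    M₀ ≤ M → M ≤ E → ∀ (Φ : G → ZMod 2) (β : G → G → ZMod 2), Φ z = 1 →
      (∀ x ∈ M, ∀ y ∈ M, Φ (x * y) = Φ x + Φ y + β x y) →
      (∀ x ∈ M, ∀ x' ∈ M, ∀ y ∈ M, β (x * x') y = β x y + β x' y) →
      (∀ x ∈ M, ∀ y ∈ M, ∀ y' ∈ M, β x (y * y') = β x y + β x y') →
      (∀ x ∈ M, ∀ d ∈ M₀, β x d = 0) →
      ∃ (Φ' : G → ZMod 2) (β' : G → G → ZMod 2),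
        (∀ x ∈ E, ∀ y ∈ E, Φ' (x * y) = Φ' x + Φ' y + β' x y) ∧
        (∀ x ∈ E, ∀ x' ∈ E, ∀ y ∈ E, β' (x * x') y = β' x y + β' x' y) ∧
        (∀ x ∈ E, ∀ y ∈ E, ∀ y' ∈ E, β' x (y * y') = β' x y + β' x y') ∧
        (∀ x ∈ E, ∀ d ∈ M₀, β' x d = 0) ∧ ∀ x ∈ M, Φ' x = Φ x := by
  classical
  induction M using WellFoundedGT.induction with
  | _ M ih =>
    intro hM₀M hME Φ β hΦz hΦ hβl hβr hβd
    by_cases hEM : E ≤ M
    · exact ⟨Φ, β, fun x hx y hy => hΦ x (hEM hx) y (hEM hy),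
        fun x hx x' hx' y hy => hβl x (hEM hx) x' (hEM hx') y (hEM hy),
        fun x hx y hy y' hy' => hβr x (hEM hx) y (hEM hy) y' (hEM hy'),
        fun x hx d hd => hβd x (hEM hx) d hd, fun _ _ => rfl⟩
    obtain ⟨e, heE, heM⟩ := SetLike.not_le_iff_exists.1 hEM
    have hzM : z ∈ M := hM₀M hzM₀
    have hz2 := hE.z_sq
    let zp : ZMod 2 → G := fun t => if t = 0 then 1 else z
    have hzp0 : zp 0 = 1 := if_pos rfl
    have hzp1 : zp 1 = z := if_neg one_ne_zero
    have h01 : ∀ t : ZMod 2, t = 0 ∨ t = 1 := by decide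
    have hzpM₀ : ∀ t, zp t ∈ M₀ := fun t => by
      rcases h01 t with rfl | rfl
      · rw [hzp0]; exact one_mem _
      · rw [hzp1]; exact hzM₀
    have hzpM : ∀ t, zp t ∈ M := fun t => hM₀M (hzpM₀ t)
    have hzpadd : ∀ s t, zp (s + t) = zp s * zp t := by
      intro s t
      rcases h01 s with rfl | rfl <;> rcases h01 t with rfl | rfl <;>
        simp [hzp0, hzp1, two_zero, hz2]
    have hzpc : ∀ t, ∀ x ∈ E, zp t * x = x * zp t := by
      intro t x hx
      rcases h01 t with rfl | rfl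
      · rw [hzp0, one_mul, mul_one]
      · rw [hzp1]; exact hE.z_comm hx
    have hΦ1 : Φ 1 = 0 := by
      have h := hΦ 1 (one_mem _) 1 (one_mem _)
      rw [one_mul, hβd 1 (one_mem _) 1 (one_mem _), add_zero] at h
      simpa using h
    have hΦzp : ∀ w ∈ M, ∀ t, Φ (w * zp t) = Φ w + t := by
      intro w hw t
      rw [hΦ w hw _ (hzpM t), hβd w hw _ (hzpM₀ t), add_zero]
      rcases h01 t with rfl | rfl
      · rw [hzp0, hΦ1]
      · rw [hzp1, hΦz]
    have hβzp : ∀ y ∈ M, ∀ t, β (zp t) y = 0 := by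
      intro y hy t
      have h := hΦzp y hy t
      rw [← hzpc t y (hME hy), hΦ _ (hzpM t) y hy] at h
      have h' := hΦzp 1 (one_mem _) t
      rw [one_mul, hΦ1, zero_add] at h'
      rw [h'] at h
      linear_combination (norm := skip) h
      ring_nf
    -- the form of `e`
    let bB : G → ZMod 2 := fun m => if e * m = m * e then 0 else 1
    have hbB : ∀ m ∈ E, e⁻¹ * m * e = m * zp (bB m) := by
      intro m hm
      by_cases h : e * m = m * e
      · simp only [bB, if_pos h, hzp0, mul_one]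
        rw [mul_assoc, ← h, inv_mul_cancel_left]
      · simp only [bB, if_neg h, hzp1]
        have h' := hE.conj_eq_of_not_comm hm (E.inv_mem heE) fun h2 => h (by
          calc e * m = e * (m * e⁻¹) * e := by group
            _ = e * (e⁻¹ * m) * e := by rw [h2]
            _ = m * e := by group)
        rwa [inv_inv] at h'
    have hzpinj : ∀ s t, zp s = zp t → s = t := by
      intro s t h
      rcases h01 s with rfl | rfl <;> rcases h01 t with rfl | rfl <;> simp_all [hE.z_ne, Ne.symm hE.z_ne]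
    have hbBmul : ∀ m ∈ E, ∀ m' ∈ E, bB (m * m') = bB m + bB m' := by
      intro m hm m' hm'
      apply hzpinj
      have h1 := hbB _ (E.mul_mem hm hm')
      rw [show e⁻¹ * (m * m') * e = (e⁻¹ * m * e) * (e⁻¹ * m' * e) by group, hbB m hm, hbB m' hm',
        mul_assoc m (zp (bB m)), ← mul_assoc (zp (bB m)), hzpc _ m' hm', mul_assoc m', ← hzpadd,
        ← mul_assoc] at h1
      exact (mul_left_cancel h1).symm
    have hbBzp : ∀ t, bB (zp t) = 0 := fun t => if_pos (hzpc t e heE).symm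
    let eps : ZMod 2 := if e * e = 1 then 0 else 1
    have heps : e * e = zp eps := by
      by_cases h : e * e = 1
      · simp only [eps, if_pos h, hzp0, h]
      · simp only [eps, if_neg h, hzp1]
        exact (hE.sq_cases heE).resolve_left h
    -- the subgroup `M ∪ eM`
    let j : G → ZMod 2 := fun x => if x ∈ M then 0 else 1
    let μ : G → G := fun x => if x ∈ M then x else e⁻¹ * x
    let M' : Subgroup G :=
      { carrier := {x | x ∈ M ∨ e⁻¹ * x ∈ M}
        one_mem' := Or.inl M.one_mem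
        mul_mem' := fun {x y} hx hy => by
          have hc : ∀ m ∈ M, e⁻¹ * m * e ∈ M := fun m hm => by
            rw [hbB m (hME hm)]; exact M.mul_mem hm (hzpM _)
          rcases hx with hx | hx <;> rcases hy with hy | hy
          · exact Or.inl (M.mul_mem hx hy)
          · refine Or.inr ?_
            have := M.mul_mem (hc x hx) hy
            rwa [show e⁻¹ * x * e * (e⁻¹ * y) = e⁻¹ * (x * y) by group] at this
          · refine Or.inr ?_
            rw [← mul_assoc]
            exact M.mul_mem hx hy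
          · refine Or.inl ?_
            have h1 := M.mul_mem (show e * e ∈ M from heps ▸ hzpM eps) (M.mul_mem (hc _ hx) hy)
            rwa [show e * e * (e⁻¹ * (e⁻¹ * x) * e * (e⁻¹ * y)) = x * y by group] at h1
        inv_mem' := fun {x} hx => by
          have hc : ∀ m ∈ M, e⁻¹ * m * e ∈ M := fun m hm => by
            rw [hbB m (hME hm)]; exact M.mul_mem hm (hzpM _)
          rcases hx with hx | hx
          · exact Or.inl (M.inv_mem hx)
          · refine Or.inr ?_
            have h1 := M.mul_mem (hc _ (M.inv_mem hx)) (M.inv_mem (show e * e ∈ M from heps ▸ hzpM eps))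
            rwa [show e⁻¹ * (e⁻¹ * x)⁻¹ * e * (e * e)⁻¹ = e⁻¹ * x⁻¹ by group] at h1 }
    have hMM' : M < M' := lt_of_le_of_ne (fun x hx => Or.inl hx)
      (fun h => heM (h ▸ Or.inr (by simpa using M.one_mem)))
    have hM'E : M' ≤ E := by
      rintro x (hx | hx)
      · exact hME hx
      · have := E.mul_mem heE (hME hx)
        rwa [mul_inv_cancel_left] at this
    have hμ : ∀ x ∈ M', (x ∈ M ∧ j x = 0 ∧ μ x = x) ∨
        (x ∉ M ∧ j x = 1 ∧ μ x = e⁻¹ * x ∧ e⁻¹ * x ∈ M) := by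
      rintro x hx
      by_cases h : x ∈ M
      · exact Or.inl ⟨h, if_pos h, if_pos h⟩
      · exact Or.inr ⟨h, if_neg h, if_neg h, hx.resolve_left h⟩
    have hμM : ∀ x ∈ M', μ x ∈ M := by
      intro x hx
      rcases hμ x hx with ⟨h, -, h'⟩ | ⟨-, -, h', h⟩ <;> rw [h'] <;> exact h
    have hkey : ∀ x ∈ M', ∀ y ∈ M',
        μ (x * y) = μ x * μ y * zp (j y * bB (μ x) + j x * j y * eps) ∧ j (x * y) = j x + j y := by
      intro x hx y hy
      rcases hμ x hx with ⟨hxM, jx, ex⟩ | ⟨hxM, jx, ex, hxe⟩ <;>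
        rcases hμ y hy with ⟨hyM, jy, ey⟩ | ⟨hyM, jy, ey, hye⟩
      · have hM' : x * y ∈ M := M.mul_mem hxM hyM
        rw [jx, jy, ex, ey]
        simp [j, μ, hM', hzp0]
      · have hM' : x * y ∉ M := fun h => hyM ((M.mul_mem_cancel_left hxM).1 h)
        rw [jx, jy, ex, ey]
        refine ⟨?_, by simp [j, hM']⟩
        simp only [μ, if_neg hM', one_mul, mul_one, zero_mul, add_zero]
        rw [show e⁻¹ * (x * y) = e⁻¹ * x * e * (e⁻¹ * y) by group, hbB x (hME hxM), mul_assoc x,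
          hzpc _ _ (hME hye), ← mul_assoc]
      · have hM' : x * y ∉ M := fun h => hxM ((M.mul_mem_cancel_right hyM).1 h)
        rw [jx, jy, ex, ey]
        refine ⟨?_, by simp [j, hM']⟩
        simp only [μ, if_neg hM', zero_mul, mul_zero, add_zero, hzp0, mul_one]
        rw [mul_assoc]
      · have e1 : x * y = (e⁻¹ * x) * (e⁻¹ * y) * zp (bB (e⁻¹ * x) + eps) := by
          calc x * y = e * e * ((e⁻¹ * (e⁻¹ * x) * e) * (e⁻¹ * y)) := by group
            _ = zp eps * ((e⁻¹ * x) * zp (bB (e⁻¹ * x)) * (e⁻¹ * y)) := by rw [heps, hbB _ (hME hxe)]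
            _ = zp eps * ((e⁻¹ * x) * (e⁻¹ * y) * zp (bB (e⁻¹ * x))) := by
              rw [mul_assoc (e⁻¹ * x), hzpc _ _ (hME hye), ← mul_assoc (e⁻¹ * x)]
            _ = (e⁻¹ * x) * (e⁻¹ * y) * zp (bB (e⁻¹ * x)) * zp eps :=
              hzpc _ _ (hME (M.mul_mem (M.mul_mem hxe hye) (hzpM _)))
            _ = _ := by rw [mul_assoc, ← hzpadd]
        have hM' : x * y ∈ M := e1 ▸ M.mul_mem (M.mul_mem hxe hye) (hzpM _)
        rw [jx, jy, ex, ey]
        refine ⟨?_, by simp only [j, if_pos hM', two_zero]⟩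
        simp only [μ, if_pos hM', one_mul]
        exact e1
    let Φ' : G → ZMod 2 := fun x => Φ (μ x)
    let β' : G → G → ZMod 2 := fun x y => β (μ x) (μ y) + j y * bB (μ x) + j x * j y * eps
    have hμd : ∀ d ∈ M₀, μ d = d ∧ j d = 0 := fun d hd => ⟨if_pos (hM₀M hd), if_pos (hM₀M hd)⟩
    have h1 : ∀ x ∈ M', ∀ y ∈ M', Φ' (x * y) = Φ' x + Φ' y + β' x y := by
      intro x hx y hy
      simp only [Φ', β', (hkey x hx y hy).1, hΦzp _ (M.mul_mem (hμM x hx) (hμM y hy)),
        hΦ _ (hμM x hx) _ (hμM y hy)]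
      ring
    have h2 : ∀ x ∈ M', ∀ x' ∈ M', ∀ y ∈ M', β' (x * x') y = β' x y + β' x' y := by
      intro x hx x' hx' y hy
      have hm := M.mul_mem (hμM x hx) (hμM x' hx')
      simp only [β', (hkey x hx x' hx').1, (hkey x hx x' hx').2,
        hβl _ hm _ (hzpM _) _ (hμM y hy), hβzp _ (hμM y hy), hβl _ (hμM x hx) _ (hμM x' hx') _ (hμM y hy),
        hbBmul _ (hME hm) _ (hME (hzpM _)), hbBzp, hbBmul _ (hME (hμM x hx)) _ (hME (hμM x' hx'))]
      ring
    have h3 : ∀ x ∈ M', ∀ y ∈ M', ∀ y' ∈ M', β' x (y * y') = β' x y + β' x y' := by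
      intro x hx y hy y' hy'
      have hm := M.mul_mem (hμM y hy) (hμM y' hy')
      simp only [β', (hkey y hy y' hy').1, (hkey y hy y' hy').2,
        hβr _ (hμM x hx) _ hm _ (hzpM _), hβd _ (hμM x hx) _ (hzpM₀ _),
        hβr _ (hμM x hx) _ (hμM y hy) _ (hμM y' hy')]
      ring
    have h4 : ∀ x ∈ M', ∀ d ∈ M₀, β' x d = 0 := by
      intro x hx d hd
      simp only [β', (hμd d hd).1, (hμd d hd).2, hβd _ (hμM x hx) d hd, zero_mul, mul_zero, add_zero]
    obtain ⟨Φ'', β'', g1, g2, g3, g4, g5⟩ := ih M' hMM' (hM₀M.trans hMM'.le) hM'E Φ' β'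
      (by simp only [Φ', (hμd z hzM₀).1, hΦz]) h1 h2 h3 h4
    refine ⟨Φ'', β'', g1, g2, g3, g4, fun x hx => ?_⟩
    rw [g5 x (Or.inl hx)]
    simp only [Φ', μ, if_pos hx]

/-- The commutation bit. -/
noncomputable def cb (x y : G) : ZMod 2 := by
  classical exact if x * y = y * x then 0 else 1

lemma cb_eq_zero_iff {x y : G} : cb x y = 0 ↔ x * y = y * x := by
  classical
  unfold cb
  split_ifs with h <;> simp [h]

lemma cb_eq_zero {x y : G} (h : x * y = y * x) : cb x y = 0 := cb_eq_zero_iff.2 h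

lemma cb_comm (x y : G) : cb x y = cb y x := by
  classical
  unfold cb
  simp only [eq_comm]

lemma cb_conj (g x y : G) : cb (g * x * g⁻¹) (g * y * g⁻¹) = cb x y := by
  classical
  unfold cb
  have : (g * x * g⁻¹) * (g * y * g⁻¹) = (g * y * g⁻¹) * (g * x * g⁻¹) ↔ x * y = y * x := by
    constructor
    · intro h
      have := congrArg (fun t => g⁻¹ * t * g) h
      simpa [mul_assoc] using this
    · intro h
      calc (g * x * g⁻¹) * (g * y * g⁻¹) = g * (x * y) * g⁻¹ := by group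
        _ = g * (y * x) * g⁻¹ := by rw [h]
        _ = _ := by group
  simp only [this]

/-- On `O^2(G)` every transfer into a group of exponent `2` is trivial. -/
lemma sum_cocy_mem {H : Subgroup G} {M : Type*} [AddCommGroup M] (f : H → M) (hf : ∀ a b, f (a * b) = f a + f b)
    [Fintype (G ⧸ H)] (hM : ∀ m : M, m + m = 0) {g : G} (hg : g ∈ Cfsg.pResidual 2 G) :
    ∑ q : G ⧸ H, cocy f g q = 0 := by
  have hV : ∀ g₁ g₂ : G, ∑ q : G ⧸ H, cocy f (g₁ * g₂) q =
      ∑ q : G ⧸ H, cocy f g₁ q + ∑ q : G ⧸ H, cocy f g₂ q := by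
    intro g₁ g₂
    simp only [cocy_mul f hf, Finset.sum_add_distrib]
    congr 1
    exact Equiv.sum_comp (MulAction.toPerm g₂) (cocy f g₁)
  have hV1 : ∑ q : G ⧸ H, cocy f (1 : G) q = 0 := by simp [cocy_one f hf]
  have hVp : ∀ (g : G) (n : ℕ),
      ∑ q : G ⧸ H, cocy f (g ^ n) q = n • ∑ q : G ⧸ H, cocy f g q := by
    intro g n
    induction n with
    | zero => simpa using hV1
    | succ n ih => rw [pow_succ, hV, ih, succ_nsmul]
  induction hg using Subgroup.closure_induction with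
  | mem x hx =>
    have h := hVp x (orderOf x)
    rw [pow_orderOf_eq_one, hV1] at h
    obtain ⟨m, hm⟩ := Nat.coprime_two_right.1 (show Nat.Coprime (orderOf x) 2 from hx)
    rw [hm, add_nsmul, one_nsmul, two_mul, add_nsmul, hM, zero_add] at h
    exact h.symm
  | one => exact hV1
  | mul x y _ _ hx hy => rw [hV, hx, hy, add_zero]
  | inv x _ hx =>
    have h := hV x x⁻¹
    rwa [mul_inv_cancel, hV1, hx, zero_add, eq_comm] at h


section Extra

variable [Finite G] {E : Subgroup G} {z : G}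

lemma cb_mul_right (hE : Extra E z) {x y y' : G} (hx : x ∈ E) (hy : y ∈ E) (hy' : y' ∈ E) :
    cb x (y * y') = cb x y + cb x y' := by
  have hc : ∀ v ∈ E, cb x v = 1 → v * x * v⁻¹ = x * z := fun v hv h =>
    hE.conj_eq_of_not_comm hx hv fun h' => by rw [cb_eq_zero h'.symm] at h; exact zero_ne_one h
  have hc0 : ∀ v, cb x v = 0 → v * x * v⁻¹ = x := fun v h =>
    mul_inv_eq_iff_eq_mul.2 (cb_eq_zero_iff.1 h).symm
  have hback : ∀ v, v * x * v⁻¹ = x → cb x v = 0 := fun v h =>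
    cb_eq_zero (mul_inv_eq_iff_eq_mul.1 h).symm
  have hzy : y * (x * z) * y⁻¹ = y * x * y⁻¹ * z := by
    rw [mul_assoc _ y⁻¹ z, ← hE.z_comm (inv_mem hy)]; group
  have h01 : ∀ t : ZMod 2, t = 0 ∨ t = 1 := by decide
  have hsplit : y * y' * x * (y * y')⁻¹ = y * (y' * x * y'⁻¹) * y⁻¹ := by group
  rcases h01 (cb x y) with h1 | h1 <;> rcases h01 (cb x y') with h2 | h2
  · rw [h1, h2, add_zero]
    exact hback _ (by rw [hsplit, hc0 _ h2, hc0 _ h1])
  · rw [h1, h2, zero_add]
    refine (h01 _).resolve_left fun h => hE.z_ne ?_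
    have := hc0 _ h
    rw [hsplit, hc _ hy' h2, hzy, hc0 _ h1] at this
    simpa using this
  · rw [h1, h2, add_zero]
    refine (h01 _).resolve_left fun h => hE.z_ne ?_
    have := hc0 _ h
    rw [hsplit, hc0 _ h2, hc _ hy h1] at this
    simpa using this
  · rw [h1, h2, two_zero]
    exact hback _ (by rw [hsplit, hc _ hy' h2, hzy, hc _ hy h1, mul_assoc, hE.z_sq, mul_one])

lemma cb_mul_left (hE : Extra E z) {x x' y : G} (hx : x ∈ E) (hx' : x' ∈ E) (hy : y ∈ E) :
    cb (x * x') y = cb x y + cb x' y := by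
  rw [cb_comm, cb_mul_right hE hy hx hx', cb_comm y x, cb_comm y x']

lemma cb_z (hE : Extra E z) {x : G} (hx : x ∈ E) : cb x z = 0 := cb_eq_zero (hE.z_comm hx).symm

/-- Duality in `E`. -/
lemma card_dual (hE : Extra E z) {C : Subgroup G} (hC : C ≤ E) (hzC : z ∈ C) :
    Nat.card (E ⊓ centralizer (C : Set G) : Subgroup G) * Nat.card C = 2 * Nat.card E := by
  have hZ : center E ≤ C.subgroupOf E := fun x hx => by
    rcases hE.eq_one_or_z_of_mem_center hx with e | e <;> rw [mem_subgroupOf, e]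
    · exact one_mem _
    · exact hzC
  have h := CfsgLib.KGroups.ExtraspecialDual.card_mul hE.ext hZ
  rw [Nat.card_congr (Subgroup.subgroupOfEquivOfLe hC).toEquiv] at h
  rw [← h]
  congr 1
  refine Nat.card_congr
    { toFun := fun v => ⟨⟨v, (mem_inf.1 v.2).1⟩, mem_centralizer_iff.2 fun c hc =>
        Subtype.ext (mem_centralizer_iff.1 (mem_inf.1 v.2).2 (c : G) (mem_subgroupOf.1 hc))⟩
      invFun := fun v => ⟨((v : E) : G), (v : E).2, mem_centralizer_iff.2 fun c hc =>
        congrArg Subtype.val (mem_centralizer_iff.1 v.2 ⟨c, hC hc⟩ hc)⟩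
      left_inv := fun _ => rfl
      right_inv := fun _ => rfl }

/-- An abelian subgroup of `E` has order at most `√(2|E|)`. -/
lemma card_sq_le (hE : Extra E z) {C : Subgroup G} (hC : C ≤ E)
    (hab : ∀ x ∈ C, ∀ y ∈ C, x * y = y * x) : Nat.card C * Nat.card C ≤ 2 * Nat.card E := by
  set C' := C ⊔ zpowers z with hC'
  have hC'E : C' ≤ E := sup_le hC (zpowers_le.2 hE.z_mem)
  have hC'ab : C' ≤ E ⊓ centralizer (C' : Set G) := by
    refine le_inf hC'E (sup_le ?_ (zpowers_le.2 ?_))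
    · rw [le_centralizer_iff]
      exact sup_le (fun x hx => mem_centralizer_iff.2 fun y hy => (hab x hx y hy).symm)
        (zpowers_le.2 (mem_centralizer_iff.2 fun y hy => (hE.z_comm (hC hy)).symm))
    · exact mem_centralizer_iff.2 fun y hy => (hE.z_comm (hC'E hy)).symm
  have h := card_dual hE hC'E (mem_sup_right (mem_zpowers z))
  have h1 := Subgroup.card_le_of_le (le_sup_left : C ≤ C')
  have h2 := Subgroup.card_le_of_le hC'ab
  rw [← h]
  exact Nat.mul_le_mul (h1.trans h2) h1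

end Extra

section Main

variable [Finite G] {E : Subgroup G} {z : G} [Fintype (G ⧸ centralizer ({z} : Set G))]

/-- The stabiliser of a coset inside `E`. -/
def stabE (E : Subgroup G) (q : G ⧸ centralizer ({z} : Set G)) : Subgroup G :=
  E ⊓ MulAction.stabilizer G q

lemma mem_stabE {q : G ⧸ centralizer ({z} : Set G)} {d : G} :
    d ∈ stabE E q ↔ d ∈ E ∧ d • q = q := Iff.rfl

lemma card_stabE_mul (q : G ⧸ centralizer ({z} : Set G)) :
    Nat.card (stabE E q) * (orb E q).card = Nat.card E := by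
  rw [card_orb_eq, ← Subgroup.card_mul_index (MulAction.stabilizer E q)]
  congr 1
  exact Nat.card_congr
    { toFun := fun d => ⟨⟨d, (mem_stabE.1 d.2).1⟩, (mem_stabE.1 d.2).2⟩
      invFun := fun d => ⟨((d : E) : G), mem_stabE.2 ⟨(d : E).2, d.2⟩⟩
      left_inv := fun _ => rfl
      right_inv := fun _ => rfl }

/-- A coset fixed by `z` on which `z` has value one lies in an orbit of length at least `8`. -/
lemma eight_dvd (hS : Setting E z) (h128 : 128 ≤ Nat.card E)
    (χ : centralizer ({z} : Set G) → ZMod 2) (hχ : ∀ a b, χ (a * b) = χ a + χ b)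
    {q : G ⧸ centralizer ({z} : Set G)} (hzq : z • q = q) (hz1 : cocy χ z q ≠ 0) :
    8 ∣ (orb E q).card := by
  have hab : ∀ x ∈ stabE E q, ∀ y ∈ stabE E q, x * y = y * x := by
    intro x hx y hy
    obtain ⟨hxE, hxq⟩ := mem_stabE.1 hx
    obtain ⟨hyE, hyq⟩ := mem_stabE.1 hy
    by_contra hne
    apply hz1
    have h1 := hS.extra.conj_eq_of_not_comm hyE hxE hne
    have h2 : x * y = y * x * z := by
      calc x * y = x * y * x⁻¹ * x := by group
        _ = _ := by rw [h1, mul_assoc, hS.extra.z_comm hxE, ← mul_assoc]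
    have h3 := congrArg (fun v => cocy χ v q) h2
    simp only [cocy_mul χ hχ, mul_smul, hzq, hxq, hyq] at h3
    rw [add_comm (cocy χ y q) (cocy χ x q)] at h3
    exact left_eq_add.1 h3
  have h1 := card_sq_le hS.extra (fun d hd => (mem_stabE.1 hd).1) hab
  have h2 := card_stabE_mul (E := E) q
  obtain ⟨k, hk⟩ := (@IsPGroup.index 2 _ _ hS.extra.isPGroup ⟨Nat.prime_two⟩
    (MulAction.stabilizer E q) inferInstance)
  rw [← card_orb_eq] at hk
  rw [hk] at h2 ⊢
  refine pow_dvd_pow 2 (show 3 ≤ k by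
    by_contra hlt
    have : (2 : ℕ) ^ k ≤ 4 := (Nat.pow_le_pow_right (by norm_num) (show k ≤ 2 by omega)).trans (by norm_num)
    nlinarith [Nat.mul_le_mul_left (Nat.card (stabE E q)) this])

/-- `y`-conjugation with fixed hyperplane: an orbit of length two forces a fusion of `z` into `E`. -/
theorem no_card_two (hS : Setting E z) (h128 : 128 ≤ Nat.card E)
    (hnf : ∀ g : G, g * z * g⁻¹ ∈ E → g * z * g⁻¹ = z)
    {q : G ⧸ centralizer ({z} : Set G)} (hq : q ≠ ((1 : G) : G ⧸ centralizer ({z} : Set G))) :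
    (orb E q).card ≠ 2 := by
  intro h2
  classical
  have hE := hS.extra
  have hzE := hE.z_mem
  have hzH : z ∈ (centralizer ({z} : Set G)) := hS.le_H hzE
  have hcz : ∀ h ∈ (centralizer ({z} : Set G)), h * z * h⁻¹ = z := fun h hh => by
    rw [mem_centralizer_singleton_iff.1 hh, mul_inv_cancel_right]
  obtain ⟨x, hx⟩ : ∃ x, x = q.out := ⟨_, rfl⟩
  have hfixq : ∀ d : G, d • q = q ↔ x⁻¹ * d * x ∈ (centralizer ({z} : Set G)) := by
    intro d
    conv_lhs => rw [← QuotientGroup.out_eq' q, ← hx, MulAction.Quotient.smul_coe, smul_eq_mul,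
      QuotientGroup.eq]
    rw [← inv_mem_iff]
    rw [show ((d * x)⁻¹ * x)⁻¹ = x⁻¹ * d * x by group]
  have hxH : x ∉ (centralizer ({z} : Set G)) := fun h => hq (by
    rw [← QuotientGroup.out_eq' q, ← hx, QuotientGroup.eq, mul_one]
    exact inv_mem h)
  have hzq : z • q = q := by
    have := card_stabE_mul (E := E) q
    by_contra hzq
    have h32 : 32 ≤ Nat.card E := by omega
    exact hzq (cocy_z_of_card_two (fun _ => (0 : ZMod 2)) (fun _ _ => (add_zero 0).symm) hS h32 h2).1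
  set y := x * z * x⁻¹ with hy
  set w := x⁻¹ * z * x with hw
  have hwH : w ∈ (centralizer ({z} : Set G)) := (hfixq z).1 hzq
  have hyE : y ∉ E := fun h => hxH (by
    rw [mem_centralizer_singleton_iff]
    exact mul_inv_eq_iff_eq_mul.1 (hnf x h))
  have hwE : w ∉ E := fun h => by
    have h1 := hnf x⁻¹ (by rwa [inv_inv])
    rw [inv_inv] at h1
    apply hxH
    have h2 : z * x = x * z := by
      rw [mul_assoc, inv_mul_eq_iff_eq_mul] at h1
      exact h1
    exact mem_centralizer_singleton_iff.2 h2.symm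
  -- `D`
  let D := stabE E q
  have hDcard : Nat.card D * 2 = Nat.card E := by rw [← h2]; exact card_stabE_mul q
  have hDy : ∀ d, d ∈ D ↔ d ∈ E ∧ d * y = y * d := by
    intro d
    rw [mem_stabE, hfixq, mem_centralizer_singleton_iff]
    refine and_congr_right fun _ => ⟨fun h => ?_, fun h => ?_⟩
    · calc d * y = x * ((x⁻¹ * d * x) * z) * x⁻¹ := by rw [hy]; group
        _ = x * (z * (x⁻¹ * d * x)) * x⁻¹ := by rw [h]
        _ = y * d := by rw [hy]; group
    · calc (x⁻¹ * d * x) * z = x⁻¹ * (d * y) * x := by rw [hy]; group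
        _ = x⁻¹ * (y * d) * x := by rw [h]
        _ = _ := by rw [hy]; group
  have hDE : ∀ d ∈ D, d ∈ E := fun d hd => (mem_stabE.1 hd).1
  have hzD : z ∈ D := mem_stabE.2 ⟨hzE, hzq⟩
  have hyH : y ∈ (centralizer ({z} : Set G)) := mem_centralizer_singleton_iff.2 ((hDy z).1 hzD).2.symm
  have hphi : ∀ d ∈ D, x⁻¹ * d * x ∈ (centralizer ({z} : Set G)) := fun d hd => (hfixq d).1 (mem_stabE.1 hd).2
  obtain ⟨g, hgE, hgD⟩ : ∃ g ∈ E, g ∉ D := by
    by_contra h
    push Not at h
    have := Subgroup.card_le_of_le (show E ≤ D from h)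
    omega
  have hcov : ∀ e ∈ E, e ∉ D → g⁻¹ * e ∈ D := by
    have hi : (D.subgroupOf E).index = 2 := by
      have h := Subgroup.card_mul_index (D.subgroupOf E)
      rw [Nat.card_congr (Subgroup.subgroupOfEquivOfLe (hDE : D ≤ E)).toEquiv, ← hDcard] at h
      exact Nat.eq_of_mul_eq_mul_left Nat.card_pos h
    intro e he heD
    have := (Subgroup.mul_mem_iff_of_index_two hi (a := (⟨g, hgE⟩ : E)⁻¹) (b := ⟨e, he⟩)).2
      (iff_of_false (by rw [inv_mem_iff]; exact hgD) heD)
    exact this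
  have hcentral : ∀ m ∈ E, (∀ d ∈ D, m * d = d * m) → m * g = g * m → m = 1 ∨ m = z := by
    intro m hm hd hg
    refine hE.mem_center_cases hm fun e he => ?_
    by_cases heD : e ∈ D
    · exact hd e heD
    · have h := hd _ (hcov e he heD)
      calc m * e = (m * g) * (g⁻¹ * e) := by group
        _ = g * (m * (g⁻¹ * e)) := by rw [hg, mul_assoc]
        _ = g * ((g⁻¹ * e) * m) := by rw [h]
        _ = e * m := by group
  -- `φ D ∩ E` is trivial
  have hcap : ∀ d ∈ D, x⁻¹ * d * x ∈ E → d = 1 := by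
    intro d₀ hd₀ hiE
    by_contra hd1
    have hd₀E := hDE d₀ hd₀
    have hd₀z : d₀ ≠ z := fun h => hwE (by rw [hw]; rwa [h] at hiE)
    have hsq : d₀ * d₀ = 1 := (hE.sq_cases hd₀E).resolve_right fun h => hwE (by
      have := E.mul_mem hiE hiE
      rwa [show x⁻¹ * d₀ * x * (x⁻¹ * d₀ * x) = x⁻¹ * (d₀ * d₀) * x by group, h] at this)
    have hd₀c : ∀ d ∈ D, d₀ * d = d * d₀ := by
      intro d hd
      rcases hE.conj_cases hd₀E (hDE d hd) with h | h
      · exact (mul_inv_eq_iff_eq_mul.1 h).symm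
      · exfalso
        apply hwE
        have h1 := hS.normal _ (hphi d hd) _ hiE
        rw [show x⁻¹ * d * x * (x⁻¹ * d₀ * x) * (x⁻¹ * d * x)⁻¹ = x⁻¹ * (d * d₀ * d⁻¹) * x by group,
          h, show x⁻¹ * (d₀ * z) * x = (x⁻¹ * d₀ * x) * w by rw [hw]; group,
          E.mul_mem_cancel_left hiE] at h1
        exact h1
    have hd₀g : d₀ * g ≠ g * d₀ := fun h => by
      rcases hcentral d₀ hd₀E hd₀c h with h' | h'
      · exact hd1 h'
      · exact hd₀z h'
    have hd₀gc := hE.conj_eq_of_not_comm hgE hd₀E hd₀g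
    set g' := y * g * y⁻¹ with hg'
    have hg'E : g' ∈ E := hS.normal y hyH g hgE
    set m := g⁻¹ * g' with hm
    have hmE : m ∈ E := mul_mem (inv_mem hgE) hg'E
    have hgm : g' = g * m := by rw [hm, mul_inv_cancel_left]
    have hmD : ∀ d ∈ D, m * d = d * m := by
      intro d hd
      have hgd : g * d * g⁻¹ ∈ D := by
        rcases hE.conj_cases (hDE d hd) hgE with h | h <;> rw [h]
        · exact hd
        · exact mul_mem hd hzD
      have hd' := ((hDy d).1 hd).2
      have hgd' := ((hDy _).1 hgd).2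
      have h1 : g' * d * g'⁻¹ = g * d * g⁻¹ := by
        calc g' * d * g'⁻¹ = y * g * (y⁻¹ * (d * y)) * g⁻¹ * y⁻¹ := by rw [hg']; group
          _ = y * g * (y⁻¹ * (y * d)) * g⁻¹ * y⁻¹ := by rw [hd']
          _ = y * (g * d * g⁻¹) * y⁻¹ := by group
          _ = g * d * g⁻¹ := by rw [← hgd', mul_inv_cancel_right]
      calc m * d = g⁻¹ * (g' * d * g'⁻¹) * g * m := by rw [hm]; group
        _ = g⁻¹ * (g * d * g⁻¹) * g * m := by rw [h1]
        _ = d * m := by group
    have hdec : ∀ e ∈ E, e ∈ D ∨ ∃ d ∈ D, e = g * d := fun e he => by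
      by_cases h : e ∈ D
      · exact Or.inl h
      · exact Or.inr ⟨_, hcov e he h, (mul_inv_cancel_left g e).symm⟩
    have hcentE : ∀ t : G, (∀ d ∈ D, t * d = d * t) → t * g = g * t → t ∈ E := by
      intro t htd htg
      refine hS.cent (mem_centralizer_iff.2 fun e he => ?_)
      rcases hdec e he with h | ⟨d, hd, rfl⟩
      · exact (htd e h).symm
      · rw [mul_assoc, ← htd d hd, ← mul_assoc, ← htg, mul_assoc]
    by_cases hmg : m * g = g * m
    · rcases hcentral m hmE hmD hmg with h | h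
      · -- `y` centralises `E`
        apply hyE
        refine hcentE y (fun d hd => ((hDy d).1 hd).2.symm) ?_
        rw [h, mul_one] at hgm
        rw [hg'] at hgm
        exact mul_inv_eq_iff_eq_mul.1 hgm
      · apply hyE
        have hyd : d₀ * y ∈ E := by
          refine hcentE _ (fun d hd => ?_) ?_
          · rw [mul_assoc, ← ((hDy d).1 hd).2, ← mul_assoc, hd₀c d hd, mul_assoc]
          · have h1 : y * g = g * z * y := by
              rw [← h, ← hgm, hg', inv_mul_cancel_right]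
            have h3 : d₀ * g * z = g * d₀ := by
              calc d₀ * g * z = (d₀ * g * d₀⁻¹) * d₀ * z := by group
                _ = g * (z * d₀) * z := by rw [hd₀gc]; group
                _ = g * (d₀ * z) * z := by rw [hE.z_comm hd₀E]
                _ = g * d₀ * (z * z) := by group
                _ = _ := by rw [hE.z_sq, mul_one]
            calc d₀ * y * g = d₀ * (y * g) := mul_assoc _ _ _
              _ = (d₀ * g * z) * y := by rw [h1]; group
              _ = g * (d₀ * y) := by rw [h3, mul_assoc]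
        exact (E.mul_mem_cancel_left hd₀E).1 hyd
    · -- `m` is a multiple of `d₀`
      have hmd₀g : (m * d₀) * g = g * (m * d₀) := by
        rw [← cb_eq_zero_iff, cb_mul_left hE hmE hd₀E hgE]
        have h1 : cb m g = 1 := eq_add_one_of_ne (fun h => hmg (cb_eq_zero_iff.1 h)) |>.trans (zero_add 1)
        have h2 : cb d₀ g = 1 := eq_add_one_of_ne (fun h => hd₀g (cb_eq_zero_iff.1 h)) |>.trans (zero_add 1)
        rw [h1, h2, two_zero]
      have hmd₀ := hcentral (m * d₀) (mul_mem hmE hd₀E)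
        (fun d hd => by rw [mul_assoc, hd₀c d hd, ← mul_assoc, hmD d hd, mul_assoc]) hmd₀g
      have hmm : m * m = 1 := by
        have : m = d₀ ∨ m = z * d₀ := by
          have e : m = m * d₀ * d₀ := by rw [mul_assoc, hsq, mul_one]
          rcases hmd₀ with h | h <;> rw [h] at e
          · exact Or.inl (by rw [e, one_mul])
          · exact Or.inr e
        rcases this with h | h <;> rw [h]
        · exact hsq
        · rw [show z * d₀ * (z * d₀) = z * (d₀ * z) * d₀ by group, ← hE.z_comm hd₀E, ← mul_assoc,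
            hE.z_sq, one_mul, hsq]
      have hgg : g' * g' = g * g := by
        rw [show g' * g' = y * (g * g) * y⁻¹ by rw [hg']; group]
        rcases hE.sq_cases hgE with h | h <;> rw [h]
        · group
        · exact hcz y hyH
      rw [hgm] at hgg
      have hgm' := hE.conj_eq_of_not_comm hmE (inv_mem hgE) (fun h => hmg (by
        calc m * g = g * (g⁻¹ * m) * g := by group
          _ = g * (m * g⁻¹) * g := by rw [h]
          _ = g * m := by group))
      rw [inv_inv] at hgm'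
      apply hE.z_ne
      have h4 : g * m * (g * m) = g * g * ((g⁻¹ * m * g) * m) := by group
      rw [h4, hgm', mul_assoc m, hE.z_comm hmE, ← mul_assoc m, hmm, one_mul] at hgg
      exact mul_eq_left.1 hgg
  -- `A = C_E(w)` is centralised by `φ D`
  let A : Subgroup G := E ⊓ centralizer ({w} : Set G)
  have hBw : ∀ d ∈ D, (x⁻¹ * d * x) * w = w * (x⁻¹ * d * x) := by
    intro d hd
    calc x⁻¹ * d * x * (x⁻¹ * z * x) = x⁻¹ * (d * z) * x := by group
      _ = x⁻¹ * (z * d) * x := by rw [hE.z_comm (hDE d hd)]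
      _ = _ := by rw [hw]; group
  have hAB : ∀ a ∈ A, ∀ d ∈ D, a * (x⁻¹ * d * x) = (x⁻¹ * d * x) * a := by
    intro a ha d hd
    obtain ⟨haE, haw⟩ := mem_inf.1 ha
    rw [mem_centralizer_singleton_iff] at haw
    have ha' : x * a * x⁻¹ ∈ (centralizer ({z} : Set G)) := by
      rw [mem_centralizer_singleton_iff]
      calc x * a * x⁻¹ * z = x * (a * (x⁻¹ * z * x)) * x⁻¹ := by group
        _ = x * ((x⁻¹ * z * x) * a) * x⁻¹ := by rw [haw]
        _ = _ := by group
    set b := x⁻¹ * d * x with hb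
    have hcE : a * b * a⁻¹ * b⁻¹ ∈ E := by
      rw [show a * b * a⁻¹ * b⁻¹ = a * (b * a⁻¹ * b⁻¹) by group]
      exact mul_mem haE (hS.normal b (hphi d hd) a⁻¹ (inv_mem haE))
    set d' := (x * a * x⁻¹) * d * (x * a * x⁻¹)⁻¹ * d⁻¹ with hd'
    have hd'E : d' ∈ E := mul_mem (hS.normal _ ha' d (hDE d hd)) (inv_mem (hDE d hd))
    have e : a * b * a⁻¹ * b⁻¹ = x⁻¹ * d' * x := by rw [hd', hb]; group
    have hd'D : d' ∈ D := mem_stabE.2 ⟨hd'E, (hfixq d').2 (e ▸ hS.le_H hcE)⟩
    have h1 := hcap d' hd'D (e ▸ hcE)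
    rw [h1, mul_one, inv_mul_cancel, mul_inv_eq_one, mul_inv_eq_iff_eq_mul] at e
    exact e
  have hzA : z ∈ A := mem_inf.2 ⟨hzE, mem_centralizer_singleton_iff.2
    (mem_centralizer_singleton_iff.1 hwH).symm⟩
  have hwz : w * z = z * w := mem_centralizer_singleton_iff.1 hwH
  have hwn : ∀ e ∈ E, w * e * w⁻¹ ∈ E := hS.normal w hwH
  -- the preimage `Cb` of the fixed points of `w`
  let Cb : Subgroup G :=
    { carrier := {e | e ∈ E ∧ (w * e * w⁻¹ = e ∨ w * e * w⁻¹ = e * z)}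
      one_mem' := ⟨one_mem _, Or.inl (by group)⟩
      mul_mem' := fun {a b} ha hb => by
        refine ⟨mul_mem ha.1 hb.1, ?_⟩
        have e : w * (a * b) * w⁻¹ = (w * a * w⁻¹) * (w * b * w⁻¹) := by group
        rw [e]
        rcases ha.2 with h | h <;> rcases hb.2 with h' | h' <;> rw [h, h']
        · exact Or.inl rfl
        · exact Or.inr (by rw [mul_assoc])
        · exact Or.inr (by rw [mul_assoc, hE.z_comm hb.1, ← mul_assoc])
        · refine Or.inl ?_
          rw [mul_assoc a z, ← mul_assoc z b, hE.z_comm hb.1, mul_assoc b, hE.z_sq, mul_one]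
      inv_mem' := fun {a} ha => by
        refine ⟨inv_mem ha.1, ?_⟩
        have e : w * a⁻¹ * w⁻¹ = (w * a * w⁻¹)⁻¹ := by group
        rw [e]
        rcases ha.2 with h | h <;> rw [h]
        · exact Or.inl rfl
        · exact Or.inr (by rw [mul_inv_rev, hE.inv_z, hE.z_comm (inv_mem ha.1)]) }
  have hCbE : Cb ≤ E := fun e he => he.1
  have hACb : A ≤ Cb := fun a ha => ⟨(mem_inf.1 ha).1, Or.inl (mul_inv_eq_iff_eq_mul.2
    (mem_centralizer_singleton_iff.1 (mem_inf.1 ha).2).symm)⟩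
  have hCbA : Nat.card Cb ≤ 2 * Nat.card A := by
    by_cases hall : ∀ a ∈ Cb, w * a * w⁻¹ = a
    · refine CfsgLib.KGroups.ExtraspecialDual.card_le_two_mul 1 fun a ha => Or.inl ?_
      exact mem_inf.2 ⟨ha.1, mem_centralizer_singleton_iff.2 (mul_inv_eq_iff_eq_mul.1 (hall a ha)).symm⟩
    push Not at hall
    obtain ⟨a₀, ha₀, ha₀'⟩ := hall
    have h0 := ha₀.2.resolve_left ha₀'
    refine CfsgLib.KGroups.ExtraspecialDual.card_le_two_mul a₀⁻¹ fun a ha => ?_
    rcases ha.2 with h | h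
    · exact Or.inl (mem_inf.2 ⟨ha.1, mem_centralizer_singleton_iff.2 (mul_inv_eq_iff_eq_mul.1 h).symm⟩)
    · refine Or.inr (mem_inf.2 ⟨mul_mem (inv_mem ha₀.1) ha.1, mem_centralizer_singleton_iff.2
        (mul_inv_eq_iff_eq_mul.1 ?_).symm⟩)
      rw [show w * (a₀⁻¹ * a) * w⁻¹ = (w * a₀ * w⁻¹)⁻¹ * (w * a * w⁻¹) by group, h0, h, mul_inv_rev,
        hE.inv_z, mul_assoc, ← mul_assoc a₀⁻¹, ← hE.z_comm (mul_mem (inv_mem ha₀.1) ha.1), ← mul_assoc,
        ← mul_assoc, hE.z_sq, one_mul]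
  let U : Subgroup G := E ⊓ centralizer (A : Set G)
  let T : Subgroup G := E ⊓ centralizer (Cb : Set G)
  have hTU : T ≤ U := inf_le_inf_left _ (centralizer_le (SetLike.coe_subset_coe.2 hACb))
  have hUE : U ≤ E := inf_le_left
  have hTE : T ≤ E := inf_le_left
  have hUT : Nat.card U ≤ 2 * Nat.card T := by
    have h1 : Nat.card U * Nat.card A = 2 * Nat.card E := card_dual hE inf_le_left hzA
    have h3 : Nat.card T * Nat.card Cb = 2 * Nat.card E := card_dual hE hCbE (hACb hzA)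
    have := Nat.mul_le_mul_left (Nat.card T) hCbA
    by_contra hlt
    nlinarith [Nat.card_pos (α := A)]
  have hzT : z ∈ T := mem_inf.2 ⟨hzE, mem_centralizer_iff.2 fun c hc => (hE.z_comm (hCbE hc)).symm⟩
  -- commutators with `w`
  have hcbw : ∀ e ∈ E, ∀ c ∈ Cb, cb (w * e * w⁻¹) c = cb e c := by
    intro e he c hc
    rcases hc.2 with h | h
    · conv_lhs => rw [← h]
      exact cb_conj w e c
    · have h' : w * (c * z) * w⁻¹ = c := by
        rw [show w * (c * z) * w⁻¹ = (w * c * w⁻¹) * (w * z * w⁻¹) by group, h, hcz w hwH, mul_assoc,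
          hE.z_sq, mul_one]
      conv_lhs => rw [← h']
      rw [cb_conj, cb_mul_right hE he hc.1 hzE, cb_z hE he, add_zero]
  have hwcT : ∀ e ∈ E, w * e * w⁻¹ * e⁻¹ ∈ T := by
    intro e he
    refine mem_inf.2 ⟨mul_mem (hwn e he) (inv_mem he), mem_centralizer_iff.2 fun c hc => ?_⟩
    have h1 : cb (w * e * w⁻¹ * e⁻¹ * e) c = cb (w * e * w⁻¹ * e⁻¹) c + cb e c :=
      cb_mul_left hE (mul_mem (hwn e he) (inv_mem he)) he (hCbE hc)
    rw [inv_mul_cancel_right, hcbw e he c hc] at h1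
    exact (cb_eq_zero_iff.1 (right_eq_add.1 h1)).symm
  have hgen : ∀ v e : G, v * v = 1 → v * (v * e * v⁻¹) * v⁻¹ = e := by
    intro v e h2
    have h3 : v⁻¹ = v := inv_eq_of_mul_eq_one_right h2
    rw [h3, ← mul_assoc, ← mul_assoc, h2, one_mul, mul_assoc, h2, mul_one]
  have hw2 : ∀ e : G, w * (w * e * w⁻¹) * w⁻¹ = e := by
    intro e
    refine hgen w e ?_
    rw [hw, show x⁻¹ * z * x * (x⁻¹ * z * x) = x⁻¹ * (z * z) * x by group, hE.z_sq]; group
  -- every element of `T` is a commutator with `w` up to `⟨z⟩`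
  have hTsurj : ∀ t ∈ T, ∃ e ∈ E, (w * e * w⁻¹ * e⁻¹)⁻¹ * t = 1 ∨ (w * e * w⁻¹ * e⁻¹)⁻¹ * t = z := by
    let Ψ : E →* E ⧸ center E :=
      { toFun := fun e => ((⟨w * (e : G) * w⁻¹ * (e : G)⁻¹,
          mul_mem (hwn e e.2) (inv_mem e.2)⟩ : E) : E ⧸ center E)
        map_one' := by
          show ((_ : E) : E ⧸ center E) = ((1 : E) : E ⧸ center E)
          exact congrArg _ (Subtype.ext (by simp))
        map_mul' := fun a b => by
          have hcom : ∀ p r : E ⧸ center E, p * r = r * p := by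
            intro p r
            induction p using QuotientGroup.induction_on with
            | _ p =>
            induction r using QuotientGroup.induction_on with
            | _ r =>
            rw [← QuotientGroup.mk_mul, ← QuotientGroup.mk_mul, QuotientGroup.eq]
            have := Subgroup.commutator_mem_commutator (Subgroup.mem_top (r⁻¹ : E))
              (Subgroup.mem_top (p⁻¹ : E))
            rw [← _root_.commutator_def, hE.ext.1.2.2] at this
            simpa [commutatorElement_def, mul_assoc] using this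
          have e : (⟨w * ((a * b : E) : G) * w⁻¹ * ((a * b : E) : G)⁻¹,
              mul_mem (hwn _ (a * b).2) (inv_mem (a * b).2)⟩ : E) =
              ⟨w * (a : G) * w⁻¹ * (a : G)⁻¹, mul_mem (hwn a a.2) (inv_mem a.2)⟩ * a *
              ⟨w * (b : G) * w⁻¹ * (b : G)⁻¹, mul_mem (hwn b b.2) (inv_mem b.2)⟩ * a⁻¹ := by
            apply Subtype.ext; push_cast; group
          show ((_ : E) : E ⧸ center E) = _ * _
          rw [e]
          simp only [QuotientGroup.mk_mul, QuotientGroup.mk_inv]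
          rw [mul_assoc (_ : E ⧸ center E) (a : E ⧸ center E), hcom (a : E ⧸ center E),
            ← mul_assoc, mul_inv_cancel_right] }
    have hker : Ψ.ker = Cb.subgroupOf E := by
      ext e
      rw [MonoidHom.mem_ker, mem_subgroupOf]
      show ((_ : E) : E ⧸ center E) = 1 ↔ _
      rw [QuotientGroup.eq_one_iff]
      constructor
      · intro h
        refine ⟨e.2, ?_⟩
        rcases hE.eq_one_or_z_of_mem_center h with h' | h'
        · exact Or.inl (mul_inv_eq_one.1 h')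
        · exact Or.inr ((mul_inv_eq_iff_eq_mul.1 h').trans (hE.z_comm e.2))
      · rintro ⟨-, h | h⟩ <;> rw [Subgroup.mem_center_iff] <;> intro r <;> apply Subtype.ext <;>
          push_cast
        · rw [h, mul_inv_cancel, mul_one, one_mul]
        · rw [h, ← hE.z_comm e.2, mul_inv_cancel_right, hE.z_comm r.2]
    let TZ : Subgroup (E ⧸ center E) := (T.subgroupOf E).map (QuotientGroup.mk' (center E))
    have hrange : Ψ.range ≤ TZ := by
      rintro _ ⟨e, rfl⟩
      exact ⟨_, hwcT e e.2, rfl⟩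
    have hcard : Nat.card TZ ≤ Nat.card Ψ.range := by
      have hcT : center E ≤ T.subgroupOf E := fun c hc => by
        rcases hE.eq_one_or_z_of_mem_center hc with h | h <;> rw [mem_subgroupOf, h]
        · exact one_mem _
        · exact hzT
      have hTZ : Nat.card TZ * 2 = Nat.card T := by
        rw [← Subgroup.relIndex_ker (K := T.subgroupOf E) (QuotientGroup.mk' (center E)),
          QuotientGroup.ker_mk', ← hE.ext.2, mul_comm]
        have := Subgroup.card_mul_index ((center E).subgroupOf (T.subgroupOf E))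
        rw [Nat.card_congr (Subgroup.subgroupOfEquivOfLe hcT).toEquiv,
          Nat.card_congr (Subgroup.subgroupOfEquivOfLe hTE).toEquiv] at this
        exact this
      have h3 : Nat.card T * Nat.card Cb = 2 * Nat.card E := card_dual hE hCbE (hACb hzA)
      have h4 : Nat.card Ψ.range * Nat.card Cb = Nat.card E := by
        have := Subgroup.card_mul_index Ψ.ker
        rw [Subgroup.index_ker] at this
        rw [hker, Nat.card_congr (Subgroup.subgroupOfEquivOfLe hCbE).toEquiv] at this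
        rw [mul_comm]; exact this
      refine le_of_eq (Nat.eq_of_mul_eq_mul_right (Nat.card_pos (α := Cb)) ?_)
      rw [h4]
      rw [← hTZ] at h3
      linarith
    have heq := Subgroup.eq_of_le_of_card_ge hrange hcard
    intro t ht
    have : ((⟨t, hTE ht⟩ : E) : E ⧸ center E) ∈ Ψ.range := heq ▸ ⟨_, ht, rfl⟩
    obtain ⟨e, he⟩ := this
    have he' : ((_ : E) : E ⧸ center E) = ((⟨t, hTE ht⟩ : E) : E ⧸ center E) := he
    rw [QuotientGroup.eq] at he'
    refine ⟨e, e.2, ?_⟩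
    rcases hE.eq_one_or_z_of_mem_center he' with h | h
    · exact Or.inl h
    · exact Or.inr h
  have hTCb : T ≤ Cb := by
    intro t ht
    obtain ⟨e, he, h⟩ := hTsurj t ht
    set φe := w * e * w⁻¹ * e⁻¹ with hφe
    have hφeE : φe ∈ E := mul_mem (hwn e he) (inv_mem he)
    have hφC : φe ∈ Cb := by
      refine ⟨hφeE, ?_⟩
      have e1 : w * φe * w⁻¹ = φe⁻¹ := by
        rw [hφe, show w * (w * e * w⁻¹ * e⁻¹) * w⁻¹ = (w * (w * e * w⁻¹) * w⁻¹) * (w * e * w⁻¹)⁻¹ by group,
          hw2 e]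
        group
      rw [e1]
      rcases hE.sq_cases hφeE with h' | h'
      · exact Or.inl (inv_eq_of_mul_eq_one_right h')
      · refine Or.inr (inv_eq_of_mul_eq_one_right ?_)
        rw [← mul_assoc, h', hE.z_sq]
    have e2 : t = φe * (φe⁻¹ * t) := (mul_inv_cancel_left _ _).symm
    rw [e2]
    refine mul_mem hφC ?_
    rcases h with h | h <;> rw [h]
    · exact one_mem _
    · exact hACb hzA
  have hTab : ∀ a ∈ T, ∀ b ∈ T, a * b = b * a := fun a ha b hb =>
    (mem_centralizer_iff.1 (mem_inf.1 ha).2 b (hTCb hb)).symm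
  -- conjugation by elements of `φ D`
  have hcb_bA : ∀ d ∈ D, ∀ e ∈ E,
      (x⁻¹ * d * x) * e * (x⁻¹ * d * x)⁻¹ * e⁻¹ ∈ U := by
    intro d hd e he
    set b := x⁻¹ * d * x
    have hbe : b * e * b⁻¹ ∈ E := hS.normal b (hphi d hd) e he
    refine mem_inf.2 ⟨mul_mem hbe (inv_mem he), mem_centralizer_iff.2 fun a ha => ?_⟩
    have haE := (mem_inf.1 ha).1
    have hconj : b * a * b⁻¹ = a := mul_inv_eq_iff_eq_mul.2 (hAB a ha d hd).symm
    have h1 := cb_mul_left hE (mul_mem hbe (inv_mem he)) he haE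
    rw [inv_mul_cancel_right] at h1
    conv_lhs at h1 => rw [← hconj, cb_conj]
    exact (cb_eq_zero_iff.1 (right_eq_add.1 h1)).symm
  obtain ⟨d₁, hd₁, d₂, hd₂, hd12⟩ : ∃ d₁ ∈ D, ∃ d₂ ∈ D, d₁ * d₂ ≠ d₂ * d₁ := by
    by_contra h
    push Not at h
    have := card_sq_le hE hDE h
    nlinarith [hDcard]
  -- the element witnessing that `U` is not abelian
  obtain ⟨u, hu, huT⟩ : ∃ u ∈ U, u ∉ T := by
    by_contra h
    push Not at h
    have hUA : U ≤ A := by
      intro v hv
      by_contra hvA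
      obtain ⟨r, hr, hra, hrv⟩ := hE.sep (A := A) inf_le_left hzA (hUE hv) hvA
      exact hrv (hTab r (h r (mem_inf.2 ⟨hr, mem_centralizer_iff.2 fun a ha => (hra a ha).symm⟩))
        v (h v hv))
    -- then `φ D` is commutative
    set b₁ := x⁻¹ * d₁ * x with hb₁
    set b₂ := x⁻¹ * d₂ * x with hb₂
    have hc : b₁ * b₂ * b₁⁻¹ * b₂⁻¹ ∈ E := by
      refine hS.cent (mem_centralizer_iff.2 fun f hf => ?_)
      have key : ∀ e ∈ E, b₁ * (b₂ * e * b₂⁻¹) * b₁⁻¹ = b₂ * (b₁ * e * b₁⁻¹) * b₂⁻¹ := by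
        intro e he
        set n₁ := b₁ * e * b₁⁻¹ * e⁻¹ with hn₁
        set n₂ := b₂ * e * b₂⁻¹ * e⁻¹ with hn₂
        have hn₁U := hcb_bA d₁ hd₁ e he
        have hn₂U := hcb_bA d₂ hd₂ e he
        have f1 : b₁ * n₂ * b₁⁻¹ = n₂ := mul_inv_eq_iff_eq_mul.2 (hAB _ (hUA hn₂U) d₁ hd₁).symm
        have f2 : b₂ * n₁ * b₂⁻¹ = n₁ := mul_inv_eq_iff_eq_mul.2 (hAB _ (hUA hn₁U) d₂ hd₂).symm
        have g1 : b₁ * (b₂ * e * b₂⁻¹) * b₁⁻¹ = (b₁ * n₂ * b₁⁻¹) * (n₁ * e) := by rw [hn₁, hn₂]; group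
        have g2 : b₂ * (b₁ * e * b₁⁻¹) * b₂⁻¹ = (b₂ * n₁ * b₂⁻¹) * (n₂ * e) := by rw [hn₁, hn₂]; group
        rw [g1, g2, f1, f2]
        rw [← mul_assoc n₂ n₁ e, ← mul_assoc n₁ n₂ e, hTab n₁ (h n₁ hn₁U) n₂ (h n₂ hn₂U)]
      set c := b₁ * b₂ * b₁⁻¹ * b₂⁻¹ with hcdef
      set e := (b₂ * b₁)⁻¹ * f * (b₂ * b₁) with hedef
      have heE : e ∈ E := by
        have := hS.normal _ (inv_mem (mul_mem (hphi d₂ hd₂) (hphi d₁ hd₁))) f hf
        rwa [inv_inv] at this
      have h2 := key e heE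
      have h3 : c * f * c⁻¹ = f := by
        have g1 : c * f * c⁻¹ = b₁ * (b₂ * e * b₂⁻¹) * b₁⁻¹ := by rw [hcdef, hedef]; group
        have g2 : b₂ * (b₁ * e * b₁⁻¹) * b₂⁻¹ = f := by rw [hedef]; group
        rw [g1, h2, g2]
      exact (mul_inv_eq_iff_eq_mul.1 h3).symm
    have e1 : b₁ * b₂ * b₁⁻¹ * b₂⁻¹ = x⁻¹ * (d₁ * d₂ * d₁⁻¹ * d₂⁻¹) * x := by rw [hb₁, hb₂]; group
    have := hcap _ (mul_mem (mul_mem (mul_mem hd₁ hd₂) (inv_mem hd₁)) (inv_mem hd₂)) (e1 ▸ hc)
    exact hd12 (by rwa [mul_inv_eq_one, mul_inv_eq_iff_eq_mul] at this)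
  have huE := hUE hu
  have hUcov : ∀ v ∈ U, v ∈ T ∨ u⁻¹ * v ∈ T := by
    have hlt : Nat.card T < Nat.card U := lt_of_not_ge fun h =>
      huT ((Subgroup.eq_of_le_of_card_ge hTU h).symm ▸ hu)
    have hi : (T.subgroupOf U).index = 2 := by
      have h := Subgroup.card_mul_index (T.subgroupOf U)
      rw [Nat.card_congr (Subgroup.subgroupOfEquivOfLe hTU).toEquiv] at h
      have hp := Nat.card_pos (α := T)
      have hle : (T.subgroupOf U).index ≤ 2 := by
        by_contra hgt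
        nlinarith
      have hge : 2 ≤ (T.subgroupOf U).index := by
        by_contra hlt'
        nlinarith
      omega
    intro v hv
    by_cases hvT : v ∈ T
    · exact Or.inl hvT
    · exact Or.inr ((Subgroup.mul_mem_iff_of_index_two hi (a := (⟨u, hu⟩ : U)⁻¹) (b := ⟨v, hv⟩)).2
        (iff_of_false (by rw [inv_mem_iff]; exact huT) hvT))
  have hTCb' : ∀ d ∈ D, ∀ c ∈ Cb, (x⁻¹ * d * x) * c * (x⁻¹ * d * x)⁻¹ ∈ Cb := by
    intro d hd c hc
    set b := x⁻¹ * d * x
    refine ⟨hS.normal b (hphi d hd) c hc.1, ?_⟩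
    have hbw : b⁻¹ * w * b = w := by
      rw [mul_assoc, ← hBw d hd, inv_mul_cancel_left]
    have e : w * (b * c * b⁻¹) * w⁻¹ = b * ((b⁻¹ * w * b) * c * (b⁻¹ * w * b)⁻¹) * b⁻¹ := by group
    rw [e, hbw]
    rcases hc.2 with h | h <;> rw [h]
    · exact Or.inl rfl
    · refine Or.inr ?_
      rw [show b * (c * z) * b⁻¹ = (b * c * b⁻¹) * (b * z * b⁻¹) by group, hcz b (hphi d hd)]
  have hTb : ∀ d ∈ D, ∀ t ∈ T, (x⁻¹ * d * x) * t * (x⁻¹ * d * x)⁻¹ ∈ T := by
    intro d hd t ht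
    refine mem_inf.2 ⟨hS.normal _ (hphi d hd) t (hTE ht), mem_centralizer_iff.2 fun c hc => ?_⟩
    rw [← cb_eq_zero_iff]
    set b := x⁻¹ * d * x with hb
    have hc' : b⁻¹ * c * b ∈ Cb := by
      have := hTCb' d⁻¹ (inv_mem hd) c hc
      rwa [show x⁻¹ * d⁻¹ * x = b⁻¹ by rw [hb]; group, inv_inv] at this
    rw [show c = b * (b⁻¹ * c * b) * b⁻¹ by group, cb_conj]
    exact cb_eq_zero (mem_centralizer_iff.1 (mem_inf.1 ht).2 _ hc')
  -- the `φ D`-image of `u`
  have hbu : ∀ d ∈ D, ∃ m ∈ T, (x⁻¹ * d * x) * u * (x⁻¹ * d * x)⁻¹ = u * m := by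
    intro d hd
    set b := x⁻¹ * d * x with hb
    have hbU : b * u * b⁻¹ ∈ U := by
      have := mul_mem (hcb_bA d hd u huE) hu
      rwa [inv_mul_cancel_right] at this
    rcases hUcov _ hbU with h | h
    · exfalso
      apply huT
      have := hTb d⁻¹ (inv_mem hd) _ h
      rwa [show x⁻¹ * d⁻¹ * x * (b * u * b⁻¹) * (x⁻¹ * d⁻¹ * x)⁻¹ = u by rw [hb]; group] at this
    · exact ⟨_, h, (mul_inv_cancel_left u _).symm⟩
  let P : G → ZMod 2 := fun d => cb u ((x⁻¹ * d * x) * u * (x⁻¹ * d * x)⁻¹)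
  have hP : ∀ d ∈ D, ∀ m ∈ T, (x⁻¹ * d * x) * u * (x⁻¹ * d * x)⁻¹ = u * m → P d = cb u m := by
    intro d _ m hm h
    show cb u _ = _
    rw [h, cb_mul_right hE huE huE (hTE hm), cb_eq_zero rfl, zero_add]
  have hcbT : ∀ d ∈ D, ∀ t ∈ T, cb u ((x⁻¹ * d * x) * t * (x⁻¹ * d * x)⁻¹) = cb u t := by
    intro d hd t ht
    set b := x⁻¹ * d * x with hb
    obtain ⟨m, hm, hbm⟩ := hbu d⁻¹ (inv_mem hd)
    rw [show x⁻¹ * d⁻¹ * x = b⁻¹ by rw [hb]; group, inv_inv] at hbm
    calc cb u (b * t * b⁻¹) = cb (b * (b⁻¹ * u * b) * b⁻¹) (b * t * b⁻¹) := by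
          rw [show b * (b⁻¹ * u * b) * b⁻¹ = u by group]
      _ = cb (b⁻¹ * u * b) t := cb_conj _ _ _
      _ = cb u t := by
        rw [hbm, cb_mul_left hE huE (hTE hm) (hTE ht), cb_eq_zero (hTab m hm t ht), add_zero]
  have hPmul : ∀ a ∈ D, ∀ b ∈ D, P (a * b) = P a + P b := by
    intro a ha b hb
    obtain ⟨ma, hma, hema⟩ := hbu a ha
    obtain ⟨mb, hmb, hemb⟩ := hbu b hb
    set A' := x⁻¹ * a * x with hA'
    set B' := x⁻¹ * b * x with hB'
    have e : x⁻¹ * (a * b) * x * u * (x⁻¹ * (a * b) * x)⁻¹ = u * (ma * (A' * mb * A'⁻¹)) := by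
      calc x⁻¹ * (a * b) * x * u * (x⁻¹ * (a * b) * x)⁻¹
          = A' * (B' * u * B'⁻¹) * A'⁻¹ := by rw [hA', hB']; group
        _ = A' * (u * mb) * A'⁻¹ := by rw [hemb]
        _ = (A' * u * A'⁻¹) * (A' * mb * A'⁻¹) := by group
        _ = _ := by rw [hema, mul_assoc]
    have hT' := hTb a ha mb hmb
    rw [hP _ (mul_mem ha hb) _ (mul_mem hma hT') e, hP a ha ma hma hema, hP b hb mb hmb hemb,
      cb_mul_right hE huE (hTE hma) (hTE hT'), hcbT a ha mb hmb]
  let D₀ : Subgroup G :=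
    { carrier := {d | d ∈ D ∧ P d = 0}
      one_mem' := ⟨one_mem _, cb_eq_zero (by group)⟩
      mul_mem' := fun {a b} ha hb => ⟨mul_mem ha.1 hb.1, by
        rw [hPmul a ha.1 b hb.1, ha.2, hb.2, add_zero]⟩
      inv_mem' := fun {a} ha => ⟨inv_mem ha.1, by
        have h := hPmul a ha.1 a⁻¹ (inv_mem ha.1)
        rw [mul_inv_cancel, ha.2, zero_add] at h
        rw [← h]
        exact cb_eq_zero (by group)⟩ }
  have hD₀D : D₀ ≤ D := fun d hd => hd.1
  have hD₀card : Nat.card D ≤ 2 * Nat.card D₀ := by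
    by_cases hall : ∀ d ∈ D, P d = 0
    · exact CfsgLib.KGroups.ExtraspecialDual.card_le_two_mul 1 fun d hd => Or.inl ⟨hd, hall d hd⟩
    push Not at hall
    obtain ⟨a, ha, hPa⟩ := hall
    refine CfsgLib.KGroups.ExtraspecialDual.card_le_two_mul a fun d hd => ?_
    by_cases h : P d = 0
    · exact Or.inl ⟨hd, h⟩
    · refine Or.inr ⟨mul_mem ha hd, ?_⟩
      rw [hPmul a ha d hd, eq_add_one_of_ne hPa, eq_add_one_of_ne h, zero_add, two_zero]
  obtain ⟨c₁, hc₁, c₂, hc₂, hc12⟩ : ∃ c₁ ∈ D₀, ∃ c₂ ∈ D₀, c₁ * c₂ ≠ c₂ * c₁ := by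
    by_contra h
    push Not at h
    have := card_sq_le hE (fun d hd => hDE d hd.1 : D₀ ≤ E) h
    nlinarith [hDcard, hD₀card]
  let R₀ : Subgroup G := T ⊓ centralizer ({u} : Set G)
  have hR₀U : ∀ r ∈ R₀, ∀ v ∈ U, r * v = v * r := by
    intro r hr v hv
    obtain ⟨hrT, hru⟩ := mem_inf.1 hr
    rw [mem_centralizer_singleton_iff] at hru
    rcases hUcov v hv with h | h
    · exact hTab r hrT v h
    · have h2 := hTab r hrT _ h
      calc r * v = (r * u) * (u⁻¹ * v) := by group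
        _ = u * (r * (u⁻¹ * v)) := by rw [hru, mul_assoc]
        _ = u * ((u⁻¹ * v) * r) := by rw [h2]
        _ = v * r := by group
  have hzR : z ∈ R₀ := mem_inf.2 ⟨hzT, mem_centralizer_singleton_iff.2 (hE.z_comm huE)⟩
  have hR₀ : ∀ r, r ∈ T → cb u r = 0 → r ∈ R₀ := fun r hr h =>
    mem_inf.2 ⟨hr, mem_centralizer_singleton_iff.2 (cb_eq_zero_iff.1 h).symm⟩
  have hstep : ∀ d ∈ D₀, ∀ v ∈ U, ∃ r ∈ R₀, (x⁻¹ * d * x) * v * (x⁻¹ * d * x)⁻¹ = v * r := by
    intro d hd v hv
    obtain ⟨m, hm, hdm⟩ := hbu d hd.1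
    have hmR : m ∈ R₀ := hR₀ m hm (by rw [← hP d hd.1 m hm hdm]; exact hd.2)
    set b := x⁻¹ * d * x with hb
    have hT1 : ∀ t ∈ T, ∃ r ∈ R₀, b * t * b⁻¹ = t * r := by
      intro t ht
      refine ⟨t⁻¹ * (b * t * b⁻¹), hR₀ _ (mul_mem (inv_mem ht) (hTb d hd.1 t ht)) ?_,
        (mul_inv_cancel_left _ _).symm⟩
      rw [cb_mul_right hE huE (hTE (inv_mem ht)) (hTE (hTb d hd.1 t ht)), hcbT d hd.1 t ht,
        ← cb_mul_right hE huE (hTE (inv_mem ht)) (hTE ht), inv_mul_cancel]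
      exact cb_eq_zero (by group)
    rcases hUcov v hv with h | h
    · exact hT1 v h
    · obtain ⟨r, hr, hr'⟩ := hT1 _ h
      refine ⟨m * r, mul_mem hmR hr, ?_⟩
      have hmc := hTab m hm _ h
      calc b * v * b⁻¹ = (b * u * b⁻¹) * (b * (u⁻¹ * v) * b⁻¹) := by group
        _ = u * m * ((u⁻¹ * v) * r) := by rw [hdm, hr']
        _ = u * (m * (u⁻¹ * v)) * r := by group
        _ = u * ((u⁻¹ * v) * m) * r := by rw [hmc]
        _ = v * (m * r) := by group
  -- hence `[E, w] ≤ R₀`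
  set b₁ := x⁻¹ * c₁ * x with hb₁
  set b₂ := x⁻¹ * c₂ * x with hb₂
  have hwc : b₁ * b₂ * b₁⁻¹ * b₂⁻¹ = w := by
    have h1 := hE.conj_eq_of_not_comm (hDE _ hc₂.1) (hDE _ hc₁.1) hc12
    rw [show b₁ * b₂ * b₁⁻¹ * b₂⁻¹ = x⁻¹ * ((c₁ * c₂ * c₁⁻¹) * c₂⁻¹) * x by rw [hb₁, hb₂]; group,
      h1, ← hE.z_comm (hDE _ hc₂.1), mul_inv_cancel_right, hw]
  have hwR : ∀ f ∈ E, w * f * w⁻¹ * f⁻¹ ∈ R₀ := by
    intro f hf
    set e := (b₂ * b₁)⁻¹ * f * (b₂ * b₁) with hedef
    have heE : e ∈ E := by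
      have := hS.normal _ (inv_mem (mul_mem (hphi c₂ hc₂.1) (hphi c₁ hc₁.1))) f hf
      rwa [inv_inv] at this
    set n₁ := b₁ * e * b₁⁻¹ * e⁻¹ with hn₁
    set n₂ := b₂ * e * b₂⁻¹ * e⁻¹ with hn₂
    have hn₁U : n₁ ∈ U := hcb_bA c₁ hc₁.1 e heE
    have hn₂U : n₂ ∈ U := hcb_bA c₂ hc₂.1 e heE
    obtain ⟨r₁, hr₁, hr₁'⟩ := hstep c₁ hc₁ n₂ hn₂U
    obtain ⟨r₂, hr₂, hr₂'⟩ := hstep c₂ hc₂ n₁ hn₁U
    rw [← hb₁] at hr₁'
    rw [← hb₂] at hr₂'
    have hf' : f = n₁ * r₂ * n₂ * e := by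
      calc f = (b₂ * n₁ * b₂⁻¹) * (b₂ * e * b₂⁻¹) := by rw [hn₁, hedef]; group
        _ = (n₁ * r₂) * (n₂ * e) := by rw [hr₂', hn₂, inv_mul_cancel_right]
        _ = _ := by group
    have hwf : w * f * w⁻¹ = n₂ * r₁ * n₁ * e := by
      calc w * f * w⁻¹ = (b₁ * n₂ * b₁⁻¹) * (b₁ * e * b₁⁻¹) := by rw [← hwc, hn₂, hedef]; group
        _ = (n₂ * r₁) * (n₁ * e) := by rw [hr₁', hn₁, inv_mul_cancel_right]
        _ = _ := by group
    have hmid : n₂ * n₁ * n₂⁻¹ * n₁⁻¹ ∈ R₀ := by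
      rcases hE.conj_cases (hUE hn₁U) (hUE hn₂U) with h | h <;> rw [h]
      · rw [mul_inv_cancel]; exact one_mem _
      · rw [← hE.z_comm (hUE hn₁U), mul_inv_cancel_right]; exact hzR
    have hU12 : n₁ * n₂⁻¹ ∈ U := mul_mem hn₁U (inv_mem hn₂U)
    have e1 : w * f * w⁻¹ * f⁻¹ = n₂ * (r₁ * (n₁ * n₂⁻¹)) * r₂⁻¹ * n₁⁻¹ := by rw [hwf, hf']; group
    rw [e1, hR₀U r₁ hr₁ _ hU12]
    have e2 : n₂ * (n₁ * n₂⁻¹ * r₁) * r₂⁻¹ * n₁⁻¹ = n₂ * n₁ * n₂⁻¹ * (r₁ * r₂⁻¹) * n₁⁻¹ := by group
    rw [e2, mul_assoc _ (r₁ * r₂⁻¹), hR₀U _ (mul_mem hr₁ (inv_mem hr₂)) _ (inv_mem hn₁U), ← mul_assoc]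
    exact mul_mem hmid (mul_mem hr₁ (inv_mem hr₂))
  -- so `u` centralises `T`, and `U` is abelian
  have huTc : ∀ t ∈ T, t ∈ R₀ := by
    intro t ht
    obtain ⟨e, he, h⟩ := hTsurj t ht
    rw [show t = (w * e * w⁻¹ * e⁻¹) * ((w * e * w⁻¹ * e⁻¹)⁻¹ * t) from (mul_inv_cancel_left _ _).symm]
    refine mul_mem (hwR e he) ?_
    rcases h with h | h <;> rw [h]
    · exact one_mem _
    · exact hzR
  have huA : u ∈ A := by
    by_contra huA
    obtain ⟨r, hr, hra, hru⟩ := hE.sep (A := A) inf_le_left hzA huE huA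
    have hrU : r ∈ U := mem_inf.2 ⟨hr, mem_centralizer_iff.2 fun a ha => (hra a ha).symm⟩
    apply hru
    rcases hUcov r hrU with h | h
    · exact hR₀U r (huTc r h) u hu
    · have h1 := hR₀U _ (huTc _ h) u hu
      calc r * u = u * ((u⁻¹ * r) * u) := by group
        _ = u * (u * (u⁻¹ * r)) := by rw [h1]
        _ = u * r := by group
  -- `u ∈ A ⊆ Cb`; it commutes with `Cb = C_E(T)`-dual, so lies in `T`
  have hUA : ∀ v ∈ U, v ∈ A := by
    intro v hv
    by_contra hvA
    obtain ⟨r, hr, hra, hrv⟩ := hE.sep (A := A) inf_le_left hzA (hUE hv) hvA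
    have hrU : r ∈ U := mem_inf.2 ⟨hr, mem_centralizer_iff.2 fun a ha => (hra a ha).symm⟩
    apply hrv
    have hUc : ∀ p ∈ U, p ∈ centralizer ({v} : Set G) := by
      intro p hp
      rw [mem_centralizer_singleton_iff]
      rcases hUcov v hv with h | h
      · exact (hR₀U v (huTc v h) p hp).symm
      · have h1 := hR₀U _ (huTc _ h) p hp
        have h2 : u * p = p * u := mem_centralizer_iff.1 (mem_inf.1 hp).2 u huA
        calc p * v = (p * u) * (u⁻¹ * v) := by group
          _ = u * (p * (u⁻¹ * v)) := by rw [← h2, mul_assoc]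
          _ = u * ((u⁻¹ * v) * p) := by rw [h1]
          _ = v * p := by group
    exact mem_centralizer_singleton_iff.1 (hUc r hrU)
  -- now `φ D` fixes `U` pointwise and is therefore commutative
  have hnR : ∀ e ∈ E, ∀ d ∈ D, (x⁻¹ * d * x) * e * (x⁻¹ * d * x)⁻¹ * e⁻¹ ∈ A := fun e he d hd =>
    hUA _ (hcb_bA d hd e he)
  have hwcent : w ∈ E := by
    refine hS.cent (mem_centralizer_iff.2 fun f hf => ?_)
    set e := (b₂ * b₁)⁻¹ * f * (b₂ * b₁) with hedef
    have heE : e ∈ E := by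
      have := hS.normal _ (inv_mem (mul_mem (hphi c₂ hc₂.1) (hphi c₁ hc₁.1))) f hf
      rwa [inv_inv] at this
    have hu₁ := hcb_bA c₁ hc₁.1 e heE
    set n₁ := b₁ * e * b₁⁻¹ * e⁻¹ with hn₁
    set n₂ := b₂ * e * b₂⁻¹ * e⁻¹ with hn₂
    have f1 : b₁ * n₂ * b₁⁻¹ = n₂ := mul_inv_eq_iff_eq_mul.2 (hAB _ (hnR e heE c₂ hc₂.1) c₁ hc₁.1).symm
    have f2 : b₂ * n₁ * b₂⁻¹ = n₁ := mul_inv_eq_iff_eq_mul.2 (hAB _ (hnR e heE c₁ hc₁.1) c₂ hc₂.1).symm
    have hn : n₁ * n₂ = n₂ * n₁ := (mem_centralizer_iff.1 (mem_inf.1 (hcb_bA c₁ hc₁.1 e heE)).2 n₂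
      (hnR e heE c₂ hc₂.1)).symm
    have g1 : w * f * w⁻¹ = (b₁ * n₂ * b₁⁻¹) * (n₁ * e) := by rw [← hwc, hn₁, hn₂, hedef]; group
    have g2 : f = (b₂ * n₁ * b₂⁻¹) * (n₂ * e) := by rw [hn₁, hn₂, hedef]; group
    rw [f1] at g1
    rw [f2] at g2
    have g3 : w * f * w⁻¹ = f := g1.trans (by
      rw [← mul_assoc n₂ n₁ e, ← hn, mul_assoc n₁ n₂ e]; exact g2.symm)
    exact (mul_inv_eq_iff_eq_mul.1 g3).symm
  exact hwE hwcent

/-- A character of exponent two of `H` vanishes on `O^2(G)` when `z` is not fused into `E`. -/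
theorem chi_eq_zero_quad_mem (hS : Setting E z) (h128 : 128 ≤ Nat.card E)
    (hnf : ∀ g : G, g * z * g⁻¹ ∈ E → g * z * g⁻¹ = z)
    (χ : centralizer ({z} : Set G) → ZMod 2) (hχ : ∀ a b, χ (a * b) = χ a + χ b)
    (u : centralizer ({z} : Set G)) (hmem : (u : G) ∈ Cfsg.pResidual 2 G) : χ u = 0 := by
  classical
  set q₁ : G ⧸ centralizer ({z} : Set G) := ((1 : G) : G ⧸ centralizer ({z} : Set G)) with hq₁
  obtain ⟨u, hu⟩ := u
  have hfix : ∀ e ∈ E, e • q₁ = q₁ := fun e he => base_fixed hS (hS.le_H he)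
  let cls : G ⧸ centralizer ({z} : Set G) → MulAction.orbitRel.Quotient E (G ⧸ centralizer ({z} : Set G)) :=
    fun q => Quotient.mk'' q
  let b : G ⧸ centralizer ({z} : Set G) → G ⧸ centralizer ({z} : Set G) := fun q => (cls q).out
  have hcls : ∀ q q', cls q' = cls q ↔ q' ∈ orb E q := fun q q' => by
    rw [mem_orb]
    exact Quotient.eq''
  have hb : ∀ q, q ∈ orb E (b q) := fun q => (hcls _ _).1 (Quotient.out_eq (cls q)).symm
  have hbq : ∀ q, ∀ e ∈ E, b (e • q) = b q := fun q e he => by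
    show (cls (e • q)).out = (cls q).out
    rw [(hcls _ _).2 (smul_mem_orb he (mem_orb.2 (MulAction.mem_orbit_self q)))]
  have hne : ∀ q, q ≠ q₁ → b q ≠ q₁ := by
    intro q hq h
    obtain ⟨e, he, heq⟩ := exists_of_mem_orb (hb q)
    rw [h, hfix e he] at heq
    exact hq heq.symm
  have hext : ∀ q, ∃ (Φ : G → ZMod 2) (β : G → G → ZMod 2),
      (∀ x ∈ E, ∀ y ∈ E, Φ (x * y) = Φ x + Φ y + β x y) ∧
      (∀ x ∈ E, ∀ x' ∈ E, ∀ y ∈ E, β (x * x') y = β x y + β x' y) ∧
      (∀ x ∈ E, ∀ y ∈ E, ∀ y' ∈ E, β x (y * y') = β x y + β x y') ∧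
      (q ≠ q₁ → (∀ x ∈ E, x • q = q → Φ x = cocy χ x q) ∧
        (∀ x ∈ E, ∀ d ∈ E, d • q = q → β x d = 0) ∧
        ((∃ x y, β x y ≠ 0) → z • q = q ∧ 8 ∣ (orb E q).card)) := by
    intro q
    by_cases hq : q = q₁
    · exact ⟨fun _ => 0, fun _ _ => 0, fun _ _ _ _ => by simp, fun _ _ _ _ _ _ => by simp,
        fun _ _ _ _ _ _ => by simp, fun h => absurd hq h⟩
    by_cases hz : z • q = q → cocy χ z q = 0
    · obtain ⟨L, hL, hLx⟩ := exists_ext hS χ hχ hz
      exact ⟨L, fun _ _ => 0, fun x hx y hy => by rw [hL x hx y hy, add_zero],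
        fun _ _ _ _ _ _ => by simp, fun _ _ _ _ _ _ => by simp,
        fun _ => ⟨hLx, fun _ _ _ _ _ => rfl, fun ⟨_, _, h⟩ => absurd rfl h⟩⟩
    · push Not at hz
      obtain ⟨hzq, hz1⟩ := hz
      have hzs : z ∈ stabE E q := mem_stabE.2 ⟨hS.extra.z_mem, hzq⟩
      obtain ⟨Φ, β, g1, g2, g3, g4, g5⟩ := exists_quad hS.extra (stabE E q) hzs (stabE E q) le_rfl
        (fun d hd => (mem_stabE.1 hd).1) (fun d => cocy χ d q) (fun _ _ => 0)
        (by rw [eq_add_one_of_ne hz1, zero_add])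
        (fun x hx y hy => by rw [cocy_mul χ hχ, (mem_stabE.1 hy).2, add_zero])
        (fun _ _ _ _ _ _ => by simp) (fun _ _ _ _ _ _ => by simp) (fun _ _ _ _ => rfl)
      exact ⟨Φ, β, g1, g2, g3, fun _ => ⟨fun x hx hxq => g5 x (mem_stabE.2 ⟨hx, hxq⟩),
        fun x hx d hd hdq => g4 x hx d (mem_stabE.2 ⟨hd, hdq⟩),
        fun _ => ⟨hzq, eight_dvd hS h128 χ hχ hzq hz1⟩⟩⟩
  choose Φ β hΦ hβl hβr hprop using hext
  choose w hwE hwq using fun q => exists_of_mem_orb (hb q)
  let c : G ⧸ centralizer ({z} : Set G) → ZMod 2 := fun q => cocy χ (w q) (b q) + Φ (b q) (w q)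
  let a' : G → G ⧸ centralizer ({z} : Set G) → ZMod 2 := fun g q => cocy χ g q + c q + c (g • q)
  have ha'mul : ∀ g₁ g₂ q, a' (g₁ * g₂) q = a' g₁ (g₂ • q) + a' g₂ q := by
    intro g₁ g₂ q
    simp only [a', cocy_mul χ hχ, mul_smul]
    ring_nf
    have := two_zero (c (g₂ • q))
    rw [← two_mul] at this
    grind
  have ha'E : ∀ q, q ≠ q₁ → ∀ e ∈ E, a' e q = Φ (b q) e + β (b q) e (w q) := by
    intro q hq e he
    obtain ⟨hL1, hL2, -⟩ := hprop (b q) (hne q hq)
    -- two expressions for the correction at `e • q`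
    have hfixd : ((w (e • q))⁻¹ * (e * w q)) • b q = b q := by
      rw [mul_smul, mul_smul, hwq, inv_smul_eq_iff]
      have := hwq (e • q)
      rw [hbq q e he] at this
      exact this.symm
    have hmemd : (w (e • q))⁻¹ * (e * w q) ∈ E := mul_mem (inv_mem (hwE _)) (mul_mem he (hwE q))
    have h1 : cocy χ (e * w q) (b q) =
        cocy χ (w (e • q)) (b q) + cocy χ ((w (e • q))⁻¹ * (e * w q)) (b q) := by
      conv_lhs => rw [← mul_inv_cancel_left (w (e • q)) (e * w q)]
      rw [cocy_mul χ hχ, hfixd]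
    rw [← hL1 _ hmemd hfixd, cocy_mul χ hχ, hwq] at h1
    have h2 : Φ (b q) e + Φ (b q) (w q) + β (b q) e (w q) =
        Φ (b q) (w (e • q)) + Φ (b q) ((w (e • q))⁻¹ * (e * w q)) := by
      have h := hΦ (b q) _ (hwE (e • q)) _ hmemd
      rw [mul_inv_cancel_left, hΦ (b q) e he _ (hwE q), hL2 _ (hwE (e • q)) _ hmemd hfixd, add_zero] at h
      exact h
    simp only [a', c, hbq q e he]
    linear_combination (norm := skip) h1 + h2
    ring_nf
    grind
  have hV : ∑ q : G ⧸ centralizer ({z} : Set G), a' u q = 0 := by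
    simp only [a', Finset.sum_add_distrib]
    rw [show ∑ q : G ⧸ centralizer ({z} : Set G), c (u • q) = ∑ q, c q from
      Equiv.sum_comp (MulAction.toPerm u) c, sum_cocy_mem χ hχ two_zero hmem, zero_add, two_zero]
  have hu1 : a' u q₁ = χ ⟨u, hu⟩ := by
    simp only [a', q₁]
    rw [cocy_base χ hχ hu, base_fixed hS hu, add_assoc, two_zero, add_zero]
  have hother : ∀ o, o ≠ cls q₁ → ∑ q ∈ Finset.univ.filter (fun q => cls q = o), a' u q = 0 := by
    intro o ho
    set q := o.out with hqo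
    have hclq : cls q = o := Quotient.out_eq o
    have hq : q ≠ q₁ := fun h => ho (by rw [← hclq, h])
    have hbqq : b q = q := by
      show (cls q).out = q
      rw [hclq]
    have hwfix : w q • q = q := by
      have := hwq q
      rwa [hbqq] at this
    have huq : u • q ≠ q₁ := fun h => hq (MulAction.injective u (h.trans (base_fixed hS hu).symm))
    rw [show Finset.univ.filter (fun q' => cls q' = o) = orb E q by ext q'; simp [← hcls, hclq]]
    have hconj : ∀ e ∈ E, u * e * u⁻¹ ∈ E := hS.normal u hu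
    obtain ⟨-, hp2, hp3⟩ := hprop q hq
    obtain ⟨-, -, hp3'⟩ := hprop (b (u • q)) (hne _ huq)
    set q' := b (u • q) with hq'
    set v₀ := w (u • q) with hv₀
    have hv₀E : v₀ ∈ E := hwE _
    let P : E → ZMod 2 := fun v => Φ q' (u * (v : G) * u⁻¹) + β q' (u * (v : G) * u⁻¹) v₀ + Φ q v
    let γ : E → E → ZMod 2 := fun v v' => β q' (u * (v : G) * u⁻¹) (u * (v' : G) * u⁻¹) + β q v v'
    have hP : ∀ v v', P (v * v') = P v + P v' + γ v v' := by
      intro v v'
      show Φ q' (u * ((v : G) * v') * u⁻¹) + β q' (u * ((v : G) * v') * u⁻¹) v₀ + Φ q ((v : G) * v') = _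
      rw [show u * ((v : G) * v') * u⁻¹ = (u * v * u⁻¹) * (u * v' * u⁻¹) by group,
        hΦ q' _ (hconj v v.2) _ (hconj v' v'.2), hΦ q _ v.2 _ v'.2,
        hβl q' _ (hconj v v.2) _ (hconj v' v'.2) _ hv₀E]
      simp only [P, γ]
      ring
    have hgv : ∀ v : E, a' u (v • q) = a' u q + P v := by
      intro v
      show a' u ((v : G) • q) = _
      have h1 : a' (u * v) q = a' u ((v : G) • q) + Φ q v := by
        rw [ha'mul, ha'E q hq v v.2, hbqq, hp2 v v.2 _ (hwE q) hwfix, add_zero]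
      have h2 : a' (u * v) q =
          Φ q' (u * (v : G) * u⁻¹) + β q' (u * (v : G) * u⁻¹) v₀ + a' u q := by
        conv_lhs => rw [show u * (v : G) = u * v * u⁻¹ * u by group]
        rw [ha'mul, ha'E _ huq _ (hconj v v.2)]
      simp only [P]
      linear_combination (norm := skip) h1.symm.trans h2
      ring_nf
      grind
    have heven := (card_orb hS hq).1
    by_cases hγ : ∀ v v', γ v v' = 0
    · exact sum_orbit_affine (A := E) (orb E q) q (fun _ => mem_orb) _ (a' u q) P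
        (fun v v' => by rw [hP, hγ, add_zero]) hgv heven
        (fun _ _ => (card_orb hS hq).2 (no_card_two hS h128 hnf hq))
    · push Not at hγ
      obtain ⟨v, v', hvv⟩ := hγ
      have hcases : (∃ s t, β q s t ≠ 0) ∨ (∃ s t, β q' s t ≠ 0) := by
        by_contra h
        push Not at h
        exact hvv (by show _ + _ = _; rw [h.1, h.2, add_zero])
      have hcu : (orb E (u • q)).card = (orb E q).card := by
        refine (Finset.card_bij' (fun x _ => u • x) (fun x _ => u⁻¹ • x) ?_ ?_ ?_ ?_).symm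
        · intro x hx
          obtain ⟨a, ha, rfl⟩ := exists_of_mem_orb hx
          rw [← mul_smul, show u * a = u * a * u⁻¹ * u by group, mul_smul]
          exact smul_mem_orb (hconj a ha) (mem_orb.2 (MulAction.mem_orbit_self _))
        · intro x hx
          obtain ⟨a, ha, rfl⟩ := exists_of_mem_orb hx
          rw [← mul_smul, ← mul_smul]
          exact smul_mem_orb (by simpa [mul_assoc] using hS.normal _ (inv_mem hu) a ha)
            (mem_orb.2 (MulAction.mem_orbit_self _))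
        · intro x _; simp
        · intro x _; simp
      obtain ⟨hzq, h8⟩ : z • q = q ∧ 8 ∣ (orb E q).card := by
        rcases hcases with h | h
        · exact hp3 h
        · obtain ⟨hz', h8'⟩ := hp3' h
          have hzuq : z • (u • q) = u • q := by
            obtain ⟨e, he, heq⟩ := exists_of_mem_orb (hb (u • q))
            rw [← heq, ← mul_smul, hS.extra.z_comm he, mul_smul, hz']
          refine ⟨?_, ?_⟩
          · rw [← mul_smul, ← mem_centralizer_singleton_iff.1 hu, mul_smul] at hzuq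
            exact MulAction.injective u hzuq
          · rw [← hcu]
            have : orb E q' = orb E (u • q) := by
              ext r
              rw [← hcls, ← hcls]
              show cls r = cls (cls (u • q)).out ↔ _
              rw [show cls (cls (u • q)).out = cls (u • q) from Quotient.out_eq _]
            rwa [this] at h8'
      obtain ⟨a, haE, haq⟩ : ∃ a ∈ E, a • q ≠ q := by
        by_contra h
        push Not at h
        exact hq (hS.eq_base q h)
      obtain ⟨r, hrE, hrD, hra⟩ := hS.extra.sep (A := stabE E q)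
        (fun d hd => (mem_stabE.1 hd).1) (mem_stabE.2 ⟨hS.extra.z_mem, hzq⟩) haE
        (fun h => haq (mem_stabE.1 h).2)
      refine sum_orbit_quadratic (A := E) (orb E q) q (fun _ => mem_orb) _ (a' u q) P γ hP ?_ hgv h8
        ⟨a, haE⟩ (fun v => cb r v) (fun s t => cb_mul_right hS.extra hrE s.2 t.2) ?_ ?_ ?_
      · intro s t t'
        show β q' (u * (s : G) * u⁻¹) (u * ((t : G) * t') * u⁻¹) + β q s ((t : G) * t') = _
        rw [show u * ((t : G) * t') * u⁻¹ = (u * t * u⁻¹) * (u * t' * u⁻¹) by group,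
          hβr q' _ (hconj s s.2) _ (hconj t t.2) _ (hconj t' t'.2), hβr q _ s.2 _ t.2 _ t'.2]
        simp only [γ]
        ring
      · show cb r a = 1
        rw [eq_add_one_of_ne (fun h => hra (cb_eq_zero_iff.1 h)), zero_add]
      · intro s hs
        exact cb_eq_zero (hrD s (mem_stabE.2 ⟨s.2, hs⟩))
      · intro x hx
        obtain ⟨e, he, rfl⟩ := exists_of_mem_orb hx
        show a • a • e • q = e • q
        rw [← mul_smul a a]
        rcases hS.extra.sq_cases haE with h | h <;> rw [h]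
        · rw [one_smul]
        · rw [← mul_smul, hS.extra.z_comm he, mul_smul, hzq]
  rw [← Finset.sum_fiberwise Finset.univ cls (fun q => a' u q),
    Finset.sum_eq_single (cls q₁) (fun o _ ho => hother o ho) (fun h => absurd (Finset.mem_univ _) h)] at hV
  rw [show Finset.univ.filter (fun q => cls q = cls q₁) = {q₁} by
    ext q
    simp only [Finset.mem_filter, Finset.mem_univ, true_and, Finset.mem_singleton, hcls]
    constructor
    · intro h
      obtain ⟨e, he, rfl⟩ := exists_of_mem_orb h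
      exact hfix e he
    · rintro rfl; exact mem_orb.2 (MulAction.mem_orbit_self _),
    Finset.sum_singleton, hu1] at hV
  exact hV

/-- A character of exponent two of `H` is trivial when `z` is not fused into `E`. -/
theorem chi_eq_zero_quad (hS : Setting E z) (h128 : 128 ≤ Nat.card E) (hres : Cfsg.pResidual 2 G = ⊤)
    (hnf : ∀ g : G, g * z * g⁻¹ ∈ E → g * z * g⁻¹ = z)
    (χ : centralizer ({z} : Set G) → ZMod 2) (hχ : ∀ a b, χ (a * b) = χ a + χ b)
    (u : centralizer ({z} : Set G)) : χ u = 0 :=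
  chi_eq_zero_quad_mem hS h128 hnf χ hχ u (hres ▸ mem_top _)

end Main

end CfsgLib.Characterizations.LargeExtraspecialTransfer
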