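import Mathlib

/-!
# Facts about `A₅` used in the count of involution pairs of a group of Hall–Janko type
-/

set_option autoImplicit false

namespace CfsgLib.Characterizations.HallJankoPerm

open Equiv Equiv.Perm

set_option maxRecDepth 100000

/-- An involution of `A₅` has a fixed point and moves the other four in two pairs. -/
theorem shape : ∀ σ : Perm (Fin 5), sign σ = 1 → σ * σ = 1 → σ ≠ 1 →
    ∃ i a c : Fin 5, σ i = i ∧ a ≠ i ∧ σ a ≠ i ∧ σ a ≠ a ∧ c ≠ i ∧ σ c ≠ i ∧ σ c ≠ c ∧ c ≠ a ∧ c ≠ σ a ∧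
      σ c ≠ a ∧ ∀ j, j = i ∨ j = a ∨ j = σ a ∨ j = c ∨ j = σ c := by
  decide +kernel

/-- An involution of `A₅` lies in a four-group normalised by an element of order three fixing the same point. -/
theorem three : ∀ σ : Perm (Fin 5), sign σ = 1 → σ * σ = 1 → σ ≠ 1 → ∀ i, σ i = i →
    ∃ c : Perm (Fin 5), c i = i ∧ sign c = 1 ∧ c * c * c = 1 ∧ σ * (c * σ * c⁻¹) = c⁻¹ * σ * c := by
  decide +kernel

/-- `A₅` is doubly transitive on the five points. -/
theorem two_transitive : ∀ i j i' j' : Fin 5, i ≠ j → i' ≠ j' →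
    ∃ σ : Perm (Fin 5), sign σ = 1 ∧ ({σ i, σ j} : Finset (Fin 5)) = {i', j'} := by
  decide +kernel

/-- Every element of `A₅` has order dividing `30`. -/
theorem pow_thirty : ∀ σ : Perm (Fin 5), sign σ = 1 → σ ^ 2 = 1 ∨ σ ^ 3 = 1 ∨ σ ^ 5 = 1 := by
  decide +kernel

theorem card_involutions :
    ((Finset.univ : Finset (Perm (Fin 5))).filter fun σ => sign σ = 1 ∧ σ * σ = 1 ∧ σ ≠ 1).card = 15 := by
  decide +kernel

/-- Pairs of an involution and an element of square one with product of odd order. -/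
theorem card_odd_pairs :
    (((Finset.univ : Finset (Perm (Fin 5))).filter fun σ => sign σ = 1 ∧ σ * σ = 1 ∧ σ ≠ 1) ×ˢ
        ((Finset.univ : Finset (Perm (Fin 5))).filter fun σ => sign σ = 1 ∧ σ * σ = 1) |>.filter
      fun p => (p.1 * p.2) ^ 3 = 1 ∨ (p.1 * p.2) ^ 5 = 1).card = 195 := by
  decide +kernel

end CfsgLib.Characterizations.HallJankoPerm
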