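import Cfsg.Agent.Lib.ThreeTransp.Extraspecial
import Cfsg.Agent.Lib.Characterizations.HallJankoPerm
import Cfsg.Agent.Lib.Involution.Dihedral

/-!
# Counting in `2^{1+4}·A₅`

An extraspecial group `Q` of order `32` with a faithful group of operators `K ≅ A₅`: the ten non-central
involutions of `Q` form five pairs on which `K` acts naturally, every involution of `QK` outside `Q` moves
exactly eight of them, and there are `120` such involutions.
-/

set_option autoImplicit false
set_option linter.style.haveILetI false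
set_option linter.unusedSectionVars false

namespace CfsgLib.Characterizations.HallJankoCount

open CfsgLib.ThreeTransp.Extraspecial (Extra)
open Equiv Equiv.Perm

variable {G : Type*} [Group G] [Finite G]

/-- The configuration `Q K = 2^{1+4}·A₅` inside a group. -/
structure Setting (Q K : Subgroup G) (z : G) : Prop where
  extra : Extra Q z
  card_Q : Nat.card Q = 32
  norm : ∀ k ∈ K, ∀ q ∈ Q, k * q * k⁻¹ ∈ Q
  cent : ∀ k ∈ K, k * z = z * k
  disj : Q ⊓ K = ⊥
  faith : ∀ k ∈ K, (∀ q ∈ Q, k * q * k⁻¹ = q) → k = 1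
  alt : Nonempty (↥K ≃* alternatingGroup (Fin 5))

/-- A weaker configuration: operators with an element of order five, none of which centralises `Q`. -/
structure Pre (Q K : Subgroup G) (z : G) : Prop where
  extra : Extra Q z
  card_Q : Nat.card Q = 32
  norm : ∀ k ∈ K, ∀ q ∈ Q, k * q * k⁻¹ ∈ Q
  cent : ∀ k ∈ K, k * z = z * k
  five : ∀ g ∈ K, orderOf g = 5 → ∃ q ∈ Q, g * q * g⁻¹ ≠ q
  has_five : ∃ g ∈ K, orderOf g = 5

theorem Setting.pre {Q K : Subgroup G} {z : G} (h : Setting Q K z) : Pre Q K z where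
  extra := h.extra
  card_Q := h.card_Q
  norm := h.norm
  cent := h.cent
  five := fun g hg ho => by
    by_contra hn
    push Not at hn
    rw [h.faith g hg hn, orderOf_one] at ho
    norm_num at ho
  has_five := by
    obtain ⟨e⟩ := h.alt
    haveI : Fact (Nat.Prime 5) := ⟨by norm_num⟩
    obtain ⟨g, hg⟩ := exists_prime_orderOf_dvd_card' (G := ↥K) 5 (by
      rw [Nat.card_congr e.toEquiv, Nat.card_eq_fintype_card]; decide)
    exact ⟨g, g.2, by rw [Subgroup.orderOf_coe, hg]⟩

instance {Q K : Subgroup G} {z : G} : Coe (Setting Q K z) (Pre Q K z) := ⟨Setting.pre⟩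

/-- The non-central involutions of `Q`. -/
def invs (Q : Subgroup G) (z : G) : Set G := {u | u ∈ Q ∧ u * u = 1 ∧ u ≠ 1 ∧ u ≠ z}

/-- `x` and `y` lie in the same coset of `⟨z⟩`. -/
def Near (z x y : G) : Prop := y = x ∨ y = x * z

variable {Q K : Subgroup G} {z : G}

/-- Extraspecial groups are preserved by isomorphisms. -/
theorem isExtraspecial_congr {A B : Type*} [Group A] [Group B] (e : A ≃* B) (hA : Cfsg.IsExtraspecial 2 A) :
    Cfsg.IsExtraspecial 2 B := by
  obtain ⟨⟨hp, hf, hc⟩, hz⟩ := hA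
  have hcz : (Subgroup.center A).map e.toMonoidHom = Subgroup.center B := by
    refine le_antisymm ?_ fun y hy => ⟨e.symm y, ?_, e.apply_symm_apply y⟩
    · rintro _ ⟨x, hx, rfl⟩
      rw [Subgroup.mem_center_iff]
      intro y
      obtain ⟨x', rfl⟩ := e.surjective y
      exact (map_mul e x' x).symm.trans ((congrArg e (Subgroup.mem_center_iff.1 hx x')).trans (map_mul e x x'))
    · rw [SetLike.mem_coe, Subgroup.mem_center_iff]
      intro x'
      apply e.injective
      rw [map_mul, map_mul, e.apply_symm_apply]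
      exact Subgroup.mem_center_iff.1 hy (e x')
  refine ⟨⟨hp.of_equiv e, ?_, ?_⟩, ?_⟩
  · rw [← hcz, ← hf]
    refine le_antisymm (fun y hy => ⟨e.symm y,
      frattini_le_comap_frattini_of_surjective (φ := e.symm.toMonoidHom) e.symm.surjective hy,
      e.apply_symm_apply y⟩) (Subgroup.map_le_iff_le_comap.2
        (frattini_le_comap_frattini_of_surjective (φ := e.toMonoidHom) e.surjective))
  · rw [← hcz, ← hc, _root_.commutator_def, _root_.commutator_def, Subgroup.map_commutator,
      Subgroup.map_top_of_surjective _ e.surjective]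
  · rw [← hcz, Subgroup.card_map_of_injective e.injective, hz]

theorem comm_or (h : Pre Q K z) {x y : G} (hx : x ∈ Q) (hy : y ∈ Q) : x * y = y * x ∨ x * y = y * x * z := by
  rcases h.extra.conj_cases hy hx with e | e
  · exact Or.inl (mul_inv_eq_iff_eq_mul.1 e)
  · right
    rw [mul_inv_eq_iff_eq_mul] at e
    rw [e, mul_assoc, mul_assoc, h.extra.z_comm hx]

theorem comm_mul_iff (h : Pre Q K z) {x y v : G} (hx : x ∈ Q) (hy : y ∈ Q) (hv : v ∈ Q)
    (hyv : ¬ Commute y v) : Commute (x * y) v ↔ ¬ Commute x v := by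
  have e := (comm_or h hy hv).resolve_left hyv
  have hzc : ∀ {q : G}, q ∈ Q → z * q = q * z := fun hq => h.extra.z_comm hq
  rcases comm_or h hx hv with e' | e'
  · refine iff_of_false (fun hc => ?_) (not_not.2 e')
    have : x * y * v = x * (v * y * z) := by rw [mul_assoc, e]
    rw [hc.eq, ← mul_assoc v, ← e', mul_assoc x v y] at this
    have h2 := mul_left_cancel this
    exact h.extra.z_ne (by simpa using h2)
  · refine iff_of_true ?_ fun hc => h.extra.z_ne (by
      have h3 := hc.eq
      rw [e'] at h3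
      simpa using h3)
    show x * y * v = v * (x * y)
    calc x * y * v = x * (v * y * z) := by rw [mul_assoc, e]
      _ = x * v * (y * z) := by group
      _ = v * x * (z * y) * z := by rw [e']; group
      _ = v * x * y * (z * z) := by rw [hzc hy]; group
      _ = v * (x * y) := by rw [h.extra.z_sq, mul_one, mul_assoc]

theorem near_symm (h : Pre Q K z) {x y : G} (hxy : Near z x y) : Near z y x := by
  rcases hxy with rfl | rfl
  · exact Or.inl rfl
  · exact Or.inr (by rw [mul_assoc, h.extra.z_sq, mul_one])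

theorem near_trans (h : Pre Q K z) {x y w : G} (h1 : Near z x y) (h2 : Near z y w) : Near z x w := by
  rcases h1 with rfl | rfl <;> rcases h2 with rfl | rfl
  · exact Or.inl rfl
  · exact Or.inr rfl
  · exact Or.inr rfl
  · exact Or.inl (by rw [mul_assoc, h.extra.z_sq, mul_one])

theorem comm_near (h : Pre Q K z) {x y v : G} (hv : v ∈ Q) (hxy : Near z x y) :
    Commute y v ↔ Commute x v := by
  have hz : Commute z v := h.extra.z_comm hv
  rcases hxy with rfl | rfl
  · exact Iff.rfl
  · exact ⟨fun hc => by simpa [mul_assoc, h.extra.z_sq] using hc.mul_left hz, fun hc => hc.mul_left hz⟩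

theorem conj_z (h : Pre Q K z) {k : G} (hk : k ∈ K) : k * z * k⁻¹ = z := by
  rw [h.cent k hk, mul_inv_cancel_right]

theorem near_conj (h : Pre Q K z) {k x y : G} (hk : k ∈ K) (hxy : Near z x y) :
    Near z (k * x * k⁻¹) (k * y * k⁻¹) := by
  rcases hxy with rfl | rfl
  · exact Or.inl rfl
  · exact Or.inr (by rw [← conj_mul, conj_z h hk])

/-- An element of order five centralises only `⟨z⟩` in `Q`. -/
theorem fixed_five (h : Pre Q K z) {g : G} (hg : g ∈ K) (ho : orderOf g = 5) {q : G} (hq : q ∈ Q)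
    (hc : g * q * g⁻¹ = q) : q = 1 ∨ q = z := by
  classical
  haveI : Fact (Nat.Prime 5) := ⟨by norm_num⟩
  have hn : ∀ x : Subgroup.zpowers g, ∀ y : ↥Q, (x : G) * y * (x : G)⁻¹ ∈ Q := fun x y =>
    h.norm _ ((Subgroup.zpowers_le.2 hg) x.2) _ y.2
  letI : MulAction (Subgroup.zpowers g) ↥Q :=
    { smul := fun x y => ⟨(x : G) * y * (x : G)⁻¹, hn x y⟩
      one_smul := fun y => Subtype.ext (show ((1 : Subgroup.zpowers g) : G) * y * _ = _ by simp)
      mul_smul := fun x x' y => Subtype.ext (show ((x * x' : Subgroup.zpowers g) : G) * y * _ = _ by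
        show _ = (x : G) * ((x' : G) * y * (x' : G)⁻¹) * (x : G)⁻¹
        simp [mul_assoc]) }
  have hp : IsPGroup 5 (Subgroup.zpowers g) := IsPGroup.of_card (n := 1) (by rw [Nat.card_zpowers, ho, pow_one])
  let F : Subgroup G := Q ⊓ Subgroup.centralizer ({g} : Set G)
  have hF : Nat.card (MulAction.fixedPoints (Subgroup.zpowers g) ↥Q) = Nat.card F := by
    refine Nat.card_congr
      { toFun := fun y => ⟨(y.1 : G), y.1.2, Subgroup.mem_centralizer_singleton_iff.2 ?_⟩
        invFun := fun y => ⟨⟨y.1, y.2.1⟩, fun x => Subtype.ext ?_⟩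
        left_inv := fun y => rfl
        right_inv := fun y => rfl }
    · have := congrArg Subtype.val (y.2 ⟨g, Subgroup.mem_zpowers g⟩)
      exact (mul_inv_eq_iff_eq_mul.1 this).symm
    · show (x : G) * y.1 * (x : G)⁻¹ = y.1
      obtain ⟨j, hj⟩ := x.2
      have hcm : Commute g y.1 := (Subgroup.mem_centralizer_singleton_iff.1 y.2.2).symm
      rw [← hj]
      exact mul_inv_eq_iff_eq_mul.2 (hcm.zpow_left j).eq
  have hmod := hp.card_modEq_card_fixedPoints ↥Q
  rw [hF, h.card_Q] at hmod
  have hle : F ≤ Q := inf_le_left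
  obtain ⟨j, hj, hj'⟩ := (Nat.dvd_prime_pow Nat.prime_two).1 ((h.card_Q.symm ▸ Subgroup.card_dvd_of_le hle :
    Nat.card F ∣ 32).trans (dvd_of_eq (by norm_num : (32 : ℕ) = 2 ^ 5)))
  rw [hj'] at hmod
  have hj15 : j = 1 ∨ j = 5 := by interval_cases j <;> simp_all [Nat.ModEq]
  rcases hj15 with rfl | rfl
  · have heq : Subgroup.zpowers z = F := by
      refine Subgroup.eq_of_le_of_card_ge (Subgroup.zpowers_le.2 ⟨h.extra.z_mem, ?_⟩) ?_
      · exact Subgroup.mem_centralizer_singleton_iff.2 (h.cent g hg).symm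
      · rw [hj', Nat.card_zpowers, orderOf_eq_prime (by rw [pow_two, h.extra.z_sq]) h.extra.z_ne]
        norm_num
    refine (CfsgLib.ThreeTransp.Extraspecial.mem_zpowers_involution h.extra.z_sq).1 ?_
    rw [heq]
    exact ⟨hq, Subgroup.mem_centralizer_singleton_iff.2 (mul_inv_eq_iff_eq_mul.1 hc).symm⟩
  · exfalso
    have heq : F = Q := Subgroup.eq_of_le_of_card_ge hle (by rw [hj', h.card_Q]; norm_num)
    obtain ⟨y, hy, hne⟩ := h.five g hg ho
    refine hne ?_
    rw [← heq] at hy
    rw [(Subgroup.mem_centralizer_singleton_iff.1 hy.2).symm, mul_inv_cancel_right]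

/-- There are exactly ten non-central involutions in `Q`. -/
theorem card_invs (h : Pre Q K z) : (invs Q z).ncard = 10 := by
  classical
  haveI := Fintype.ofFinite ↥Q
  haveI : Fact (Nat.Prime 5) := ⟨by norm_num⟩
  have hz2 := h.extra.z_sq
  let ε : ↥Q → ℤ := fun x => if x * x = 1 then 1 else -1
  let c : ↥Q → ↥Q → ℤ := fun x y => if Commute (x : G) y then 1 else -1
  have hsq : ∀ x : ↥Q, (x : G) * x = 1 ∨ (x : G) * x = z := fun x => h.extra.sq_cases x.2
  have hε : ∀ x y : ↥Q, ε (x * y) = ε x * ε y * c x y := by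
    intro x y
    have hxy : ((x * y : ↥Q) : G) * (x * y : ↥Q) = (x : G) * x * ((y : G) * y) *
        (if Commute (x : G) y then 1 else z) := by
      show (x : G) * y * (x * y) = _
      by_cases hc : Commute (x : G) y
      · rw [if_pos hc, mul_one]
        exact hc.symm.mul_mul_mul_comm _ _
      · rw [if_neg hc]
        have e := (comm_or h y.2 x.2).resolve_left fun e => hc e.symm
        calc (x : G) * y * (x * y) = x * ((y : G) * x) * y := by group
          _ = x * x * y * (z * y) := by rw [e]; group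
          _ = _ := by rw [h.extra.z_comm y.2]; group
    have key : ∀ w : ↥Q, ε w = if (w : G) * w = 1 then 1 else -1 := fun w => by
      simp only [ε, Subtype.ext_iff, Subgroup.coe_mul, Subgroup.coe_one]
    rw [key, key, key, hxy]
    simp only [c]
    rcases hsq x with e1 | e1 <;> rcases hsq y with e2 | e2 <;> by_cases hc : Commute (x : G) y <;>
      simp [e1, e2, hc, h.extra.z_ne, hz2]
  have hcself : ∀ x d : ↥Q, c x (x⁻¹ * d) = c x d := by
    intro x d
    simp only [c]
    refine if_congr ⟨fun hc => ?_, fun hc => ?_⟩ rfl rfl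
    · simpa using (Commute.refl (x : G)).mul_right hc
    · exact ((Commute.refl (x : G)).inv_right).mul_right hc
  have hεinv : ∀ x : ↥Q, ε x * ε x = 1 := fun x => by simp only [ε]; split_ifs <;> norm_num
  have hsumc : ∀ d : ↥Q, ∑ x : ↥Q, c x d = if (d : G) = 1 ∨ (d : G) = z then 32 else 0 := by
    intro d
    split_ifs with hd
    · have : ∀ x : ↥Q, c x d = 1 := fun x => if_pos (by
        rcases hd with hd | hd <;> rw [hd]
        · exact Commute.one_right _
        · exact (h.extra.z_comm x.2).symm)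
      rw [Finset.sum_congr rfl fun x _ => this x, Finset.sum_const, Finset.card_univ, ← Nat.card_eq_fintype_card,
        h.card_Q]
      simp
    · push Not at hd
      obtain ⟨y, hy, hyc⟩ : ∃ y ∈ Q, ¬ Commute y (d : G) := by
        by_contra hne
        push Not at hne
        rcases h.extra.mem_center_cases d.2 (fun q hq => (hne q hq).eq.symm) with e | e
        · exact hd.1 e
        · exact hd.2 e
      have hflip : ∑ x : ↥Q, c x d = -∑ x : ↥Q, c x d := by
        rw [← Finset.sum_neg_distrib]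
        refine Fintype.sum_equiv (Equiv.mulRight (⟨y, hy⟩ : ↥Q)) _ _ fun x => ?_
        simp only [c, Equiv.coe_mulRight, Subgroup.coe_mul, comm_mul_iff h x.2 hy d.2 hyc]
        split_ifs <;> simp
      linarith
  set S : ℤ := ∑ x : ↥Q, ε x with hS
  have hS2 : S * S = 64 := by
    calc S * S = ∑ x : ↥Q, ∑ y : ↥Q, ε (x * y) * c x y := by
          rw [hS, Finset.sum_mul_sum]
          refine Finset.sum_congr rfl fun x _ => Finset.sum_congr rfl fun y _ => ?_
          rw [hε x y]
          simp only [c]; split_ifs <;> simp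
      _ = ∑ x : ↥Q, ∑ d : ↥Q, ε d * c x d := by
          refine Finset.sum_congr rfl fun x _ => ?_
          refine Fintype.sum_equiv (Equiv.mulLeft x) _ _ fun y => ?_
          simp only [Equiv.coe_mulLeft]
          rw [← hcself x (x * y), inv_mul_cancel_left]
      _ = ∑ d : ↥Q, ε d * ∑ x : ↥Q, c x d := by
          rw [Finset.sum_comm]; simp only [Finset.mul_sum]
      _ = ∑ d : ↥Q, if (d : G) = 1 ∨ (d : G) = z then 32 else 0 := by
          refine Finset.sum_congr rfl fun d _ => ?_
          rw [hsumc d]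
          split_ifs with hd
          · have : ε d = 1 := if_pos (Subtype.ext (by rcases hd with hd | hd <;> simp [hd, hz2]))
            rw [this, one_mul]
          · simp
      _ = 64 := by
          rw [← Finset.sum_filter]
          have : (Finset.univ.filter fun d : ↥Q => (d : G) = 1 ∨ (d : G) = z) =
              {1, ⟨z, h.extra.z_mem⟩} := by
            ext d; simp only [Finset.mem_filter, Finset.mem_univ, true_and, Finset.mem_insert, Finset.mem_singleton, Subtype.ext_iff, Subgroup.coe_one]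
          rw [this, Finset.sum_pair (fun e => h.extra.z_ne (congrArg Subtype.val e).symm)]
          norm_num
  set T := (Finset.univ.filter fun x : ↥Q => x * x = 1) with hT
  have hST : S = 2 * (T.card : ℤ) - 32 := by
    rw [hS, ← Finset.sum_filter_add_sum_filter_not Finset.univ (fun x : ↥Q => x * x = 1)]
    have h1 := Finset.card_filter_add_card_filter_not (s := (Finset.univ : Finset ↥Q)) (fun x : ↥Q => x * x = 1)
    rw [Finset.card_univ, ← Nat.card_eq_fintype_card, h.card_Q] at h1
    rw [Finset.sum_congr rfl (fun x hx => (if_pos (Finset.mem_filter.1 hx).2 : ε x = 1)),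
      Finset.sum_congr rfl (fun x hx => (if_neg (Finset.mem_filter.1 hx).2 : ε x = -1)), Finset.sum_const,
      Finset.sum_const, ← hT]
    rw [← hT] at h1
    simp only [nsmul_eq_mul, mul_one, mul_neg]
    omega
  have hTI : T.card = (invs Q z).ncard + 2 := by
    have e1 : T.card = ({u : G | u ∈ Q ∧ u * u = 1} : Set G).ncard := by
      rw [← Nat.card_coe_set_eq, ← Nat.card_eq_finsetCard]
      exact Nat.card_congr
        { toFun := fun x => ⟨(x.1 : G), x.1.2, congrArg Subtype.val (Finset.mem_filter.1 x.2).2⟩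
          invFun := fun x => ⟨⟨x.1, x.2.1⟩, Finset.mem_filter.2 ⟨Finset.mem_univ _, Subtype.ext x.2.2⟩⟩
          left_inv := fun x => rfl
          right_inv := fun x => rfl }
    have e2 : ({u : G | u ∈ Q ∧ u * u = 1} : Set G) = invs Q z ∪ {1, z} := by
      ext u
      simp only [invs, Set.mem_union, Set.mem_insert_iff, Set.mem_singleton_iff, Set.mem_ofPred_eq]
      constructor
      · intro hu; by_cases h1 : u = 1 <;> by_cases h2 : u = z <;> tauto
      · rintro (hu | rfl | rfl)
        · exact ⟨hu.1, hu.2.1⟩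
        · exact ⟨one_mem _, one_mul _⟩
        · exact ⟨h.extra.z_mem, hz2⟩
    rw [e1, e2, Set.ncard_union_eq, Set.ncard_pair (Ne.symm h.extra.z_ne)]
    rw [Set.disjoint_left]
    rintro u hu (rfl | rfl)
    · exact hu.2.2.1 rfl
    · exact hu.2.2.2 rfl
  obtain ⟨g, hgK, hg⟩ := h.has_five
  have h5 : 5 ∣ (invs Q z).ncard := by
    have hn : ∀ x : Subgroup.zpowers g, ∀ u ∈ invs Q z, (x : G) * u * (x : G)⁻¹ ∈ invs Q z := by
      intro x u hu
      have hx : (x : G) ∈ K := (Subgroup.zpowers_le.2 hgK) x.2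
      refine ⟨h.norm _ hx _ hu.1, by rw [conj_mul, hu.2.1]; group, fun e => hu.2.2.1 (conj_eq_one_iff.1 e),
        fun e => hu.2.2.2 ?_⟩
      have := e.trans (conj_z h hx).symm
      exact mul_left_cancel (mul_right_cancel this)
    letI : MulAction (Subgroup.zpowers g) (invs Q z) :=
      { smul := fun x y => ⟨(x : G) * y * (x : G)⁻¹, hn x y y.2⟩
        one_smul := fun y => Subtype.ext (show ((1 : Subgroup.zpowers g) : G) * y * _ = _ by simp)
        mul_smul := fun x x' y => Subtype.ext (show ((x * x' : Subgroup.zpowers g) : G) * y * _ = _ by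
          show _ = (x : G) * ((x' : G) * y * (x' : G)⁻¹) * (x : G)⁻¹
          simp [mul_assoc]) }
    have hp : IsPGroup 5 (Subgroup.zpowers g) := IsPGroup.of_card (n := 1) (by rw [Nat.card_zpowers, hg, pow_one])
    haveI : IsEmpty (MulAction.fixedPoints (Subgroup.zpowers g) (invs Q z)) := by
      refine ⟨fun ⟨u, hu⟩ => ?_⟩
      rcases fixed_five h hgK hg u.2.1 (congrArg Subtype.val (hu ⟨g, Subgroup.mem_zpowers g⟩)) with e | e
      · exact u.2.2.2.1 e
      · exact u.2.2.2.2 e
    have hmod := hp.card_modEq_card_fixedPoints (invs Q z)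
    rw [Nat.card_of_isEmpty (α := MulAction.fixedPoints (Subgroup.zpowers g) (invs Q z)), Nat.card_coe_set_eq] at hmod
    exact Nat.modEq_zero_iff_dvd.1 hmod
  have : S = 8 ∨ S = -8 := by
    have h0 : (S - 8) * (S + 8) = 0 := by ring_nf; nlinarith [hS2]
    rcases mul_eq_zero.1 h0 with e | e
    · left; linarith
    · right; linarith
  obtain ⟨k, hk⟩ := h5
  rcases this with e | e <;> omega

/-- Five representatives `t` of the pairs, with the induced action of `K`. -/
theorem exists_frame_pre (h : Pre Q K z) : ∃ (t : Fin 5 → G) (φ : ↥K →* Perm (Fin 5)),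
    (∀ g : ↥K, orderOf (g : G) = 5 → φ g ≠ 1) ∧ (∀ i, t i ∈ invs Q z) ∧
    (∀ u ∈ invs Q z, ∃ i, Near z (t i) u) ∧ (∀ i j, Near z (t i) (t j) → i = j) ∧
    (∀ (k : ↥K) i, Near z (t (φ k i)) ((k : G) * t i * (k : G)⁻¹)) := by
  classical
  let r : Setoid (invs Q z) :=
    { r := fun a b => Near z (a : G) b
      iseqv := ⟨fun a => Or.inl rfl, fun hab => near_symm h hab, fun h1 h2 => near_trans h h1 h2⟩ }
  haveI : Finite (Quotient r) := Quotient.finite r
  haveI := Fintype.ofFinite (Quotient r)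
  haveI := Fintype.ofFinite (invs Q z)
  have hzmul : ∀ u ∈ invs Q z, u * z ∈ invs Q z := fun u hu => by
    refine ⟨mul_mem hu.1 h.extra.z_mem, ?_, fun e => hu.2.2.2 ?_, fun e => hu.2.2.1 ?_⟩
    · rw [← Commute.mul_mul_mul_comm (h.extra.z_comm hu.1).symm, hu.2.1, h.extra.z_sq, one_mul]
    · rw [mul_eq_one_iff_eq_inv, h.extra.inv_z] at e; exact e
    · exact mul_eq_right.1 e
  have hfib : ∀ q : Quotient r,
      (Finset.univ.filter fun a : invs Q z => Quotient.mk r a = q).card = 2 := by
    intro q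
    induction q using Quotient.inductionOn with
    | h a =>
      have : (Finset.univ.filter fun b : invs Q z => Quotient.mk r b = Quotient.mk r a) =
          {a, ⟨(a : G) * z, hzmul _ a.2⟩} := by
        ext b
        simp only [Finset.mem_filter, Finset.mem_univ, true_and, Finset.mem_insert, Finset.mem_singleton,
          Subtype.ext_iff]
        rw [eq_comm, Quotient.eq]
        exact Iff.rfl
      rw [this, Finset.card_pair]
      intro e
      exact h.extra.z_ne (by simpa using (congrArg Subtype.val e).symm)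
  have hP : Nat.card (Quotient r) = 5 := by
    have hc := Finset.card_eq_sum_card_fiberwise (s := (Finset.univ : Finset (invs Q z)))
      (t := (Finset.univ : Finset (Quotient r))) (f := Quotient.mk r) (fun _ _ => Finset.mem_univ _)
    rw [Finset.sum_congr rfl (fun q _ => hfib q), Finset.card_univ, ← Nat.card_eq_fintype_card,
      Nat.card_coe_set_eq, card_invs h, Finset.sum_const, smul_eq_mul, Finset.card_univ,
      ← Nat.card_eq_fintype_card] at hc
    omega
  let e : Quotient r ≃ Fin 5 := Finite.equivFinOfCardEq hP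
  have hmem : ∀ (k : ↥K), ∀ u ∈ invs Q z, (k : G) * u * (k : G)⁻¹ ∈ invs Q z := fun k u hu => by
    refine ⟨h.norm _ k.2 _ hu.1, by rw [conj_mul, hu.2.1]; group, fun e' => hu.2.2.1 (conj_eq_one_iff.1 e'),
      fun e' => hu.2.2.2 ?_⟩
    have := e'.trans (conj_z h k.2).symm
    exact mul_left_cancel (mul_right_cancel this)
  letI act : MulAction ↥K (Quotient r) :=
    { smul := fun k => Quotient.map (fun a => ⟨(k : G) * a * (k : G)⁻¹, hmem k a a.2⟩)
        fun a b hab => near_conj h k.2 hab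
      one_smul := fun q => by
        induction q using Quotient.inductionOn with
        | h a => exact congrArg (Quotient.mk r) (Subtype.ext (by simp))
      mul_smul := fun k k' q => by
        induction q using Quotient.inductionOn with
        | h a => exact congrArg (Quotient.mk r) (Subtype.ext (by simp [mul_assoc])) }
  let φ : ↥K →* Perm (Fin 5) := e.permCongrHom.toMonoidHom.comp (MulAction.toPermHom ↥K (Quotient r))
  have hφ : ∀ k i, φ k i = e (k • e.symm i) := fun k i => rfl
  let t : Fin 5 → G := fun i => ((e.symm i).out : invs Q z)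
  have ht : ∀ i, t i ∈ invs Q z := fun i => (e.symm i).out.2
  have hnear : ∀ (a : invs Q z), Near z (t (e (Quotient.mk r a))) (a : G) := fun a => by
    show Near z _ _
    simp only [t, e.symm_apply_apply]
    exact Quotient.mk_out (s := r) a
  have heq : ∀ (k : ↥K) i, Near z (t (φ k i)) ((k : G) * t i * (k : G)⁻¹) := fun k i => by
    have h1 : k • e.symm i = Quotient.mk r ⟨(k : G) * t i * (k : G)⁻¹, hmem k _ (ht i)⟩ := by
      conv_lhs => rw [← Quotient.out_eq (e.symm i)]
      rfl
    rw [hφ, h1]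
    exact hnear _
  refine ⟨t, φ, fun g5 hg e1 => ?_, ht, fun u hu => ⟨_, hnear ⟨u, hu⟩⟩, fun i j hij => ?_, heq⟩
  · obtain ⟨g, hgK⟩ := g5
    have h2 := heq ⟨g, hgK⟩ 0
    rw [e1, Perm.one_apply] at h2
    rcases h2 with h2 | h2
    · rcases fixed_five h hgK hg (ht 0).1 h2 with e | e
      · exact (ht 0).2.2.1 e
      · exact (ht 0).2.2.2 e
    · have h10 : ∀ n : ℕ, g ^ n * t 0 * (g ^ n)⁻¹ = t 0 * z ^ n := by
        intro n
        induction n with
        | zero => simp
        | succ n ih =>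
          rw [pow_succ, mul_inv_rev, show g ^ n * g * t 0 * (g⁻¹ * (g ^ n)⁻¹) =
            g ^ n * (g * t 0 * g⁻¹) * (g ^ n)⁻¹ by group, show g * t 0 * g⁻¹ = t 0 * z from h2,
            ← conj_mul, ih, conj_z h (pow_mem hgK n), mul_assoc, ← pow_succ]
      have h55 := h10 5
      rw [show g ^ 5 = 1 from hg ▸ pow_orderOf_eq_one g] at h55
      exact h.extra.z_ne (by simpa [pow_succ, h.extra.z_sq] using h55)
  · apply e.symm.injective
    rw [← Quotient.out_eq (e.symm i), ← Quotient.out_eq (e.symm j)]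
    exact Quotient.sound hij

/-- Five representatives `t` of the pairs, with the induced natural action of `K ≅ A₅`. -/
theorem exists_frame (h : Setting Q K z) : ∃ (t : Fin 5 → G) (φ : ↥K →* Perm (Fin 5)),
    Function.Injective φ ∧ φ.range = alternatingGroup (Fin 5) ∧ (∀ i, t i ∈ invs Q z) ∧
    (∀ u ∈ invs Q z, ∃ i, Near z (t i) u) ∧ (∀ i j, Near z (t i) (t j) → i = j) ∧
    (∀ (k : ↥K) i, Near z (t (φ k i)) ((k : G) * t i * (k : G)⁻¹)) := by
  obtain ⟨g, hgK, hg⟩ := h.pre.has_five
  obtain ⟨t, φ, h5, ht, hall, hdist, heq⟩ := exists_frame_pre h.pre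
  have hne : φ ⟨g, hgK⟩ ≠ 1 := h5 _ hg
  obtain ⟨eK⟩ := h.alt
  haveI : Nontrivial ↥K := eK.toEquiv.nontrivial
  haveI : IsSimpleGroup ↥K := IsSimpleGroup.isSimpleGroup_of_surjective eK.symm.toMonoidHom eK.symm.surjective
  have hinj : Function.Injective φ := by
    rw [← φ.ker_eq_bot_iff]
    refine (MonoidHom.normal_ker φ).eq_bot_or_eq_top.resolve_right fun ht => hne ?_
    exact MonoidHom.mem_ker.1 (ht ▸ Subgroup.mem_top _)
  refine ⟨t, φ, hinj, ?_, ht, hall, hdist, heq⟩
  refine Perm.eq_alternatingGroup_of_index_eq_two ?_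
  have hc : Nat.card φ.range = 60 := by
    rw [Nat.card_congr (MonoidHom.ofInjective hinj).symm.toEquiv, Nat.card_congr eK.toEquiv,
      Nat.card_eq_fintype_card]
    decide
  have := φ.range.card_mul_index
  rw [hc, Nat.card_eq_fintype_card (α := Perm (Fin 5)), Fintype.card_perm, Fintype.card_fin] at this
  norm_num [Nat.factorial] at this
  omega

/-- The involutions of `Q` moved by `v`. -/
def moved (Q : Subgroup G) (v : G) : Set G := {u | u ∈ Q ∧ orderOf u = 2 ∧ ¬ Commute u v}

/-- The involutions of `Q K` outside `Q`. -/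
def outer (Q K : Subgroup G) : Set G := {v | ∃ q ∈ Q, ∃ k ∈ K, k ≠ 1 ∧ v = q * k ∧ v * v = 1}

theorem inv_of_invs {u : G} {Q : Subgroup G} {z : G} (hu : u ∈ invs Q z) : u⁻¹ = u :=
  inv_eq_of_mul_eq_one_right hu.2.1

theorem near_mul (h : Pre Q K z) {x x' y y' : G} (hy : y ∈ Q) (h1 : Near z x x') (h2 : Near z y y') :
    Near z (x * y) (x' * y') := by
  have hzy := h.extra.z_comm hy
  rcases h1 with rfl | rfl <;> rcases h2 with rfl | rfl
  · exact Or.inl rfl
  · exact Or.inr (mul_assoc _ _ _).symm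
  · exact Or.inr (by rw [mul_assoc x z y', hzy, ← mul_assoc])
  · exact Or.inl (by rw [mul_assoc x z, ← mul_assoc z y, hzy, mul_assoc y z, h.extra.z_sq, mul_one])

theorem near_inv (h : Pre Q K z) {x y : G} (hx : x ∈ Q) (h1 : Near z x y) : Near z x⁻¹ y⁻¹ := by
  rcases h1 with rfl | rfl
  · exact Or.inl rfl
  · exact Or.inr (by rw [mul_inv_rev, h.extra.inv_z, h.extra.z_comm (inv_mem hx)])

theorem near_conj_Q (h : Pre Q K z) {q x : G} (hx : x ∈ Q) (hq : q ∈ Q) : Near z x (q * x * q⁻¹) :=
  h.extra.conj_cases hx hq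

theorem conj_mul_self (h : Setting Q K z) {q k : G} (hq : q ∈ Q) (hk : k ∈ K) (he : q * k * (q * k) = 1) :
    k * k = 1 ∧ k * q * k⁻¹ = q⁻¹ := by
  have e : q * (k * q * k⁻¹) * (k * k) = 1 := by rw [← he]; group
  have h1 : k * k ∈ Q ⊓ K := by
    refine ⟨?_, mul_mem hk hk⟩
    show k * k ∈ Q
    rw [← inv_eq_of_mul_eq_one_right e]
    exact inv_mem (mul_mem hq (h.norm k hk q hq))
  rw [h.disj, Subgroup.mem_bot] at h1
  rw [h1, mul_one] at e
  exact ⟨h1, (inv_eq_of_mul_eq_one_right e).symm⟩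

section Frame

variable {t : Fin 5 → G} {φ : ↥K →* Perm (Fin 5)} (h : Setting Q K z) (hinj : Function.Injective φ)
  (hrange : φ.range = alternatingGroup (Fin 5)) (ht : ∀ i, t i ∈ invs Q z)
  (hall : ∀ u ∈ invs Q z, ∃ i, Near z (t i) u) (hdist : ∀ i j, Near z (t i) (t j) → i = j)
  (heq : ∀ (k : ↥K) i, Near z (t (φ k i)) ((k : G) * t i * (k : G)⁻¹))
include h hinj hrange ht hall hdist heq

theorem not_commute {i j : Fin 5} (hij : i ≠ j) : ¬ Commute (t i) (t j) := by
  classical
  intro hc
  have hallc : ∀ i' j' : Fin 5, Commute (t i') (t j') := by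
    intro i' j'
    by_cases he : i' = j'
    · rw [he]
    · obtain ⟨σ, hσ, hset⟩ := HallJankoPerm.two_transitive i j i' j' hij he
      obtain ⟨k, hk⟩ : σ ∈ φ.range := by rw [hrange]; exact mem_alternatingGroup.2 hσ
      have hc' : Commute (t (σ i)) (t (σ j)) := by
        have h0 : Commute ((k : G) * t i * (k : G)⁻¹) ((k : G) * t j * (k : G)⁻¹) := by
          show _ * _ = _ * _
          rw [conj_mul, conj_mul, hc.eq]
        rw [← hk]
        have hn1 := heq k i
        have hn2 := heq k j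
        have hm : (k : G) * t j * (k : G)⁻¹ ∈ Q := h.norm _ k.2 _ (ht j).1
        exact ((comm_near h.pre (ht _).1 hn2).1 ((comm_near h.pre hm hn1).1 h0).symm).symm
      have h1 : σ i ∈ ({i', j'} : Finset (Fin 5)) := hset ▸ by simp
      have h2 : σ j ∈ ({i', j'} : Finset (Fin 5)) := hset ▸ by simp
      have hne : σ i ≠ σ j := fun e => hij (σ.injective e)
      simp only [Finset.mem_insert, Finset.mem_singleton] at h1 h2
      rcases h1 with h1 | h1 <;> rcases h2 with h2 | h2 <;> rw [h1, h2] at hc' hne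
      · exact absurd rfl hne
      · exact hc'
      · exact hc'.symm
      · exact absurd rfl hne
  have hcomm : ∀ x y : G, x ∈ Q → x * x = 1 → y ∈ Q → y * y = 1 → Commute x y := by
    intro x y hx hx1 hy hy1
    by_cases hx' : x = 1 ∨ x = z
    · rcases hx' with rfl | rfl
      · exact Commute.one_left _
      · exact h.extra.z_comm hy
    by_cases hy' : y = 1 ∨ y = z
    · rcases hy' with rfl | rfl
      · exact Commute.one_right _
      · exact (h.extra.z_comm hx).symm
    push Not at hx' hy'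
    obtain ⟨i', hi'⟩ := hall x ⟨hx, hx1, hx'.1, hx'.2⟩
    obtain ⟨j', hj'⟩ := hall y ⟨hy, hy1, hy'.1, hy'.2⟩
    exact (comm_near h.pre hy hi').2 ((comm_near h.pre (ht _).1 hj').2 (hallc j' i')).symm
  let T : Subgroup G :=
    { carrier := {x | x ∈ Q ∧ x * x = 1}
      mul_mem' := fun {x y} hx hy => ⟨mul_mem hx.1 hy.1, by
        rw [(hcomm y x hy.1 hy.2 hx.1 hx.2).mul_mul_mul_comm, hx.2, hy.2, one_mul]⟩
      one_mem' := ⟨one_mem _, one_mul _⟩
      inv_mem' := fun {x} hx => ⟨inv_mem hx.1, by rw [← mul_inv_rev, hx.2, inv_one]⟩ }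
  have hT : Nat.card T = 12 := by
    have e2 : (T : Set G) = invs Q z ∪ {1, z} := by
      ext u
      show u ∈ Q ∧ u * u = 1 ↔ _
      simp only [invs, Set.mem_union, Set.mem_insert_iff, Set.mem_singleton_iff, Set.mem_ofPred_eq]
      constructor
      · intro hu; by_cases h1 : u = 1 <;> by_cases h2 : u = z <;> tauto
      · rintro (hu | rfl | rfl)
        · exact ⟨hu.1, hu.2.1⟩
        · exact ⟨one_mem _, one_mul _⟩
        · exact ⟨h.extra.z_mem, h.extra.z_sq⟩
    rw [← SetLike.coe_sort_coe, Nat.card_coe_set_eq, e2,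
      Set.ncard_union_eq ?_, card_invs h.pre, Set.ncard_pair (Ne.symm h.extra.z_ne)]
    rw [Set.disjoint_left]
    rintro u hu (rfl | rfl)
    · exact hu.2.2.1 rfl
    · exact hu.2.2.2 rfl
  have := Subgroup.card_dvd_of_le (show T ≤ Q from fun x hx => hx.1)
  rw [hT, h.card_Q] at this
  norm_num at this

/-- An involution of `K` fixes the representatives of the pair that it fixes. -/
theorem fix (k : ↥K) (hk : k * k = 1) (hk1 : k ≠ 1) {i : Fin 5} (hi : φ k i = i) :
    (k : G) * t i * (k : G)⁻¹ = t i := by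
  have hs : ∀ l : ↥K, Perm.sign (φ l) = 1 := fun l =>
    mem_alternatingGroup.1 (hrange ▸ ⟨l, rfl⟩)
  have hσ1 : φ k ≠ 1 := fun e => hk1 (hinj (e.trans (map_one φ).symm))
  obtain ⟨c, hci, hcs, hc3, hrel⟩ := HallJankoPerm.three (φ k) (hs k) (by rw [← map_mul, hk, map_one]) hσ1 i hi
  obtain ⟨c', rfl⟩ : c ∈ φ.range := by rw [hrange]; exact mem_alternatingGroup.2 hcs
  rw [← map_inv, ← map_mul, ← map_mul, ← map_mul, ← map_mul, ← map_mul] at hrel
  have hrel' := congrArg Subtype.val (hinj hrel)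
  simp only [Subgroup.coe_mul, Subgroup.coe_inv] at hrel'
  have hz' : ∀ l : ↥K, (l : G) * z * (l : G)⁻¹ = z := fun l => conj_z h.pre l.2
  have hc' : (c' : G) * t i * (c' : G)⁻¹ = t i := by
    refine (by simpa [hci] using heq c' i : Near z (t i) _).resolve_right fun e => ?_
    have e3 : ((c' * c' * c' : ↥K) : G) = 1 := by
      rw [show c' * c' * c' = (1 : ↥K) from hinj (by rw [map_mul, map_mul, hc3, map_one]), Subgroup.coe_one]
    simp only [Subgroup.coe_mul] at e3
    have : (c' : G) * ((c' : G) * ((c' : G) * t i * (c' : G)⁻¹) * (c' : G)⁻¹) * (c' : G)⁻¹ = t i * z := by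
      have s2 : (c' : G) * (t i * z) * (c' : G)⁻¹ = t i := by
        rw [← conj_mul, e, hz', mul_assoc (t i) z z, h.extra.z_sq, mul_one]
      rw [e, s2, e]
    rw [show (c' : G) * ((c' : G) * ((c' : G) * t i * (c' : G)⁻¹) * (c' : G)⁻¹) * (c' : G)⁻¹ =
      ((c' : G) * c' * c') * t i * ((c' : G) * c' * c')⁻¹ by group, e3] at this
    exact h.extra.z_ne (by simpa using this)
  have hc'' : (c' : G)⁻¹ * t i * (c' : G) = t i := by
    conv_lhs => rw [← hc']
    group
  refine (by simpa [hi] using heq k i : Near z (t i) _).resolve_right fun e => ?_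
  have e1 : (c' : G)⁻¹ * k * c' * t i * ((c' : G)⁻¹ * k * c')⁻¹ = t i * z := by
    calc _ = (c' : G)⁻¹ * ((k : G) * ((c' : G) * t i * (c' : G)⁻¹) * (k : G)⁻¹) * c' := by group
      _ = (c' : G)⁻¹ * (t i * z) * c' := by rw [hc', e]
      _ = (c' : G)⁻¹ * t i * c' * ((c' : G)⁻¹ * z * c') := by group
      _ = _ := by rw [hc'', mul_assoc ((c' : G)⁻¹), ← h.cent _ c'.2, inv_mul_cancel_left]
  have e2 : (c' : G) * k * (c' : G)⁻¹ * t i * ((c' : G) * k * (c' : G)⁻¹)⁻¹ = t i * z := by
    calc _ = (c' : G) * ((k : G) * ((c' : G)⁻¹ * t i * c') * (k : G)⁻¹) * (c' : G)⁻¹ := by group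
      _ = (c' : G) * (t i * z) * (c' : G)⁻¹ := by rw [hc'', e]
      _ = _ := by rw [← conj_mul, hz', hc']
  rw [← hrel', show (k : G) * ((c' : G) * k * (c' : G)⁻¹) * t i * ((k : G) * ((c' : G) * k * (c' : G)⁻¹))⁻¹ =
    (k : G) * ((c' : G) * k * (c' : G)⁻¹ * t i * ((c' : G) * k * (c' : G)⁻¹)⁻¹) * (k : G)⁻¹ by group, e2,
    ← conj_mul, e, hz', mul_assoc (t i) z z, h.extra.z_sq, mul_one] at e1
  exact h.extra.z_ne (by simpa using e1.symm)

/-- For each involution `k` of `K` exactly eight `q` make `q * k` an involution, and each of these fixes exactly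
one pair. -/
theorem local_count (k : ↥K) (hk : k * k = 1) (hk1 : k ≠ 1) :
    {q : G | q ∈ Q ∧ q * k * (q * k) = 1}.ncard = 8 ∧ (∀ q ∈ Q, q * k = k * q → q * q = 1) ∧
      ∀ q ∈ Q, q * k * (q * k) = 1 → (moved Q (q * k)).ncard = 8 ∧
        ∀ u ∈ moved Q (q * k), (u * (q * k)) ^ 4 = z := by
  classical
  have hs : Perm.sign (φ k) = 1 := mem_alternatingGroup.1 (hrange ▸ ⟨k, rfl⟩)
  have hσ1 : φ k ≠ 1 := fun e => hk1 (hinj (e.trans (map_one φ).symm))
  obtain ⟨i, a, c, hi, hai, hbi, hba, hci, hdi, hdc, hca, hcb, hda, hcov⟩ :=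
    HallJankoPerm.shape (φ k) hs (by rw [← map_mul, hk, map_one]) hσ1
  have hσσ : ∀ j, φ k (φ k j) = j := fun j => by
    rw [← Perm.mul_apply, ← map_mul, hk, map_one]; rfl
  set b := φ k a with hb
  set d := φ k c with hd
  have hdb : d ≠ b := fun e => hca ((φ k).injective e)
  have hkinv : ((k : G))⁻¹ = k := inv_eq_of_mul_eq_one_right (by rw [← Subgroup.coe_mul, hk, Subgroup.coe_one])
  have hkk : ∀ x : G, (k : G) * ((k : G) * x * (k : G)⁻¹) * (k : G)⁻¹ = x := fun x => by
    nth_rw 2 [hkinv]; nth_rw 2 [← hkinv]; group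
  have nc : ∀ {x y : Fin 5}, x ≠ y → ¬ Commute (t x) (t y) := fun hxy =>
    not_commute h hinj hrange ht hall hdist heq hxy
  have htQ : ∀ x, t x ∈ Q := fun x => (ht x).1
  have hswap : ∀ x, (k : G) * (t x * t (φ k x)) * (k : G)⁻¹ = t (φ k x) * t x := by
    intro x
    rw [← conj_mul]
    rcases heq k x with h1 | h1
    · have h3 : (k : G) * t (φ k x) * (k : G)⁻¹ = t x := by rw [← h1, hkk]
      rw [h1, h3]
    · have h3 : (k : G) * t (φ k x) * (k : G)⁻¹ = t x * z := by
        have e1 : t (φ k x) = (k : G) * t x * (k : G)⁻¹ * z := by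
          rw [h1, mul_assoc, h.extra.z_sq, mul_one]
        rw [e1, ← conj_mul, hkk, conj_z h.pre k.2]
      rw [h1, h3, mul_assoc, ← mul_assoc z, h.extra.z_comm (htQ x), mul_assoc (t x) z, h.extra.z_sq, mul_one]
  let good : G → Prop := fun q => q ∈ Q ∧ (k : G) * q * (k : G)⁻¹ = q⁻¹ ∧ Commute q (t i)
  have good_z : ∀ q, good q → good (q * z) := fun q hq => by
    refine ⟨mul_mem hq.1 h.extra.z_mem, ?_, hq.2.2.mul_left (h.extra.z_comm (htQ i))⟩
    rw [← conj_mul, hq.2.1, conj_z h.pre k.2, mul_inv_rev, h.extra.inv_z, h.extra.z_comm (inv_mem hq.1)]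
  let F : Subgroup G :=
    { carrier := {q | q ∈ Q ∧ Near z q ((k : G) * q * (k : G)⁻¹)}
      one_mem' := ⟨one_mem _, Or.inl (by simp)⟩
      mul_mem' := fun {x y} hx hy => ⟨mul_mem hx.1 hy.1, by
        rw [← conj_mul]; exact near_mul h.pre hy.1 hx.2 hy.2⟩
      inv_mem' := fun {x} hx => ⟨inv_mem hx.1, by
        rw [show (k : G) * x⁻¹ * (k : G)⁻¹ = ((k : G) * x * (k : G)⁻¹)⁻¹ by group]
        exact near_inv h.pre hx.1 hx.2⟩ }
  have hsqQ : ∀ q ∈ Q, Near z q q⁻¹ := fun q hq => by
    rcases h.extra.sq_cases hq with e | e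
    · exact Or.inl (inv_eq_of_mul_eq_one_right e)
    · exact Or.inr (inv_eq_of_mul_eq_one_right (by rw [← mul_assoc, e, h.extra.z_sq]))
  have good_F : ∀ q, good q → q ∈ F := fun q hq => ⟨hq.1, by rw [hq.2.1]; exact hsqQ q hq.1⟩
  let p : Fin 4 → G := ![1, t i, t a * t b, t c * t d]
  have good_p : ∀ j, good (p j) := by
    intro j
    fin_cases j <;> simp only [p, Fin.zero_eta, Fin.mk_one, Fin.reduceFinMk, Matrix.cons_val, Matrix.cons_val_zero, Matrix.cons_val_one]
    · exact ⟨one_mem _, by simp, Commute.one_left _⟩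
    · exact ⟨htQ i, by rw [fix h hinj hrange ht hall hdist heq k hk hk1 hi]; exact (inv_of_invs (ht i)).symm,
        Commute.refl _⟩
    · refine ⟨mul_mem (htQ _) (htQ _), ?_, (comm_mul_iff h.pre (htQ _) (htQ _) (htQ _) (nc hbi)).2 (nc hai)⟩
      rw [mul_inv_rev, inv_of_invs (ht _), inv_of_invs (ht _)]
      exact hswap a
    · refine ⟨mul_mem (htQ _) (htQ _), ?_, (comm_mul_iff h.pre (htQ _) (htQ _) (htQ _) (nc hdi)).2 (nc hci)⟩
      rw [mul_inv_rev, inv_of_invs (ht _), inv_of_invs (ht _)]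
      exact hswap c
  have pa : ∀ j, Commute (p j) (t a) ↔ (j = 0 ∨ j = 3) := by
    intro j
    fin_cases j <;> simp only [p, Fin.zero_eta, Fin.mk_one, Fin.reduceFinMk, Matrix.cons_val, Matrix.cons_val_zero, Matrix.cons_val_one]
    · simp
    · exact iff_of_false (nc hai.symm) (by decide)
    · exact iff_of_false (fun hc => (comm_mul_iff h.pre (htQ _) (htQ _) (htQ _) (nc hba)).1 hc (Commute.refl _))
        (by decide)
    · exact iff_of_true ((comm_mul_iff h.pre (htQ _) (htQ _) (htQ _) (nc hda)).2 (nc hca)) (by decide)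
  have pc : ∀ j, Commute (p j) (t c) ↔ (j = 0 ∨ j = 2) := by
    intro j
    fin_cases j <;> simp only [p, Fin.zero_eta, Fin.mk_one, Fin.reduceFinMk, Matrix.cons_val, Matrix.cons_val_zero, Matrix.cons_val_one]
    · simp
    · exact iff_of_false (nc hci.symm) (by decide)
    · exact iff_of_true ((comm_mul_iff h.pre (htQ _) (htQ _) (htQ _) (nc hcb.symm)).2 (nc hca.symm)) (by decide)
    · exact iff_of_false (fun hc => (comm_mul_iff h.pre (htQ _) (htQ _) (htQ _) (nc hdc)).1 hc (Commute.refl _))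
        (by decide)
  have pinj : ∀ j j', Near z (p j) (p j') → j = j' := by
    intro j j' hn
    have h1 := (pa j').symm.trans ((comm_near h.pre (htQ a) hn).trans (pa j))
    have h2 := (pc j').symm.trans ((comm_near h.pre (htQ c) hn).trans (pc j))
    exact (by decide : ∀ x x' : Fin 4, ((x' = 0 ∨ x' = 3) ↔ (x = 0 ∨ x = 3)) →
      ((x' = 0 ∨ x' = 2) ↔ (x = 0 ∨ x = 2)) → x = x') j j' h1 h2
  have hta : t a ∉ F := fun hF => hba (hdist _ _ (near_trans h.pre hF.2 (near_symm h.pre (heq k a)))).symm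
  have htc : t c ∉ F := fun hF => hdc (hdist _ _ (near_trans h.pre hF.2 (near_symm h.pre (heq k c)))).symm
  have htac : t a * t c ∉ F := by
    intro hF
    have hn : Near z (t a * t c) (t b * t d) := by
      refine near_trans h.pre hF.2 (near_symm h.pre ?_)
      rw [← conj_mul]
      exact near_mul h.pre (htQ d) (heq k a) (heq k c)
    exact (comm_mul_iff h.pre (htQ a) (htQ c) (htQ a) (nc hca)).1 ((comm_near h.pre (htQ a) hn).1
      ((comm_mul_iff h.pre (htQ b) (htQ d) (htQ a) (nc hda)).2 (nc hba))) (Commute.refl _)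
  have hF8 : Nat.card F ≤ 8 := by
    let r : Fin 4 → G := ![1, t a, t c, t a * t c]
    have hr : ∀ j, r j ∈ Q := fun j => by
      fin_cases j <;> simp [r, one_mem, htQ, mul_mem (htQ a) (htQ c)]
    have hzF : z ∈ F := ⟨h.extra.z_mem, Or.inl (conj_z h.pre k.2)⟩
    have hrne : ∀ j j', (r j)⁻¹ * r j' ∈ F → j ≤ j' → j = j' := by
      have hia := inv_of_invs (ht a); have hic := inv_of_invs (ht c)
      intro j j' hF hle
      fin_cases j <;> fin_cases j' <;> first
        | rfl
        | exact absurd hle (by decide)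
        | (exfalso; simp only [r] at hF
           simp [hia, hic, ← mul_assoc, (ht a).2.1] at hF
           first
             | exact hta hF
             | exact htc hF
             | exact htac hF
             | (refine hta ?_
                have e := h.extra.conj_eq_of_not_comm (htQ a) (htQ c) (nc hca)
                rw [hic] at e
                rw [e] at hF
                simpa [mul_assoc, h.extra.z_sq] using mul_mem hF hzF))
    have hinjr : Function.Injective (fun x : Fin 4 × ↥F => (⟨r x.1 * (x.2 : G), mul_mem (hr x.1) x.2.2.1⟩ : ↥Q)) := by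
      rintro ⟨j, x⟩ ⟨j', y⟩ e
      have e' : r j * (x : G) = r j' * y := congrArg Subtype.val e
      have hmem1 : (r j)⁻¹ * r j' ∈ F := by
        have : (r j)⁻¹ * r j' = (x : G) * (y : G)⁻¹ := by
          rw [eq_mul_inv_iff_mul_eq, mul_assoc, ← e', inv_mul_cancel_left]
        rw [this]; exact mul_mem x.2 (inv_mem y.2)
      have hjj : j = j' := by
        rcases le_total j j' with hl | hl
        · exact hrne _ _ hmem1 hl
        · refine (hrne _ _ ?_ hl).symm
          simpa using inv_mem hmem1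
      subst hjj
      exact Prod.ext rfl (Subtype.ext (mul_left_cancel e'))
    have := Nat.card_le_card_of_injective _ hinjr
    rw [Nat.card_prod, Nat.card_fin, h.card_Q] at this
    omega
  let zp : Bool → G := fun o => if o then z else 1
  let f : Fin 4 × Bool → ↥F := fun x => ⟨p x.1 * zp x.2, good_F _ (by
    rcases x with ⟨j, _ | _⟩
    · simpa [zp] using good_p j
    · exact good_z _ (good_p j))⟩
  have hfinj : Function.Injective f := by
    rintro ⟨j, o⟩ ⟨j', o'⟩ e
    have e' : p j * zp o = p j' * zp o' := congrArg Subtype.val e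
    have hjj : j = j' := by
      refine pinj j j' ?_
      rcases o <;> rcases o' <;> simp only [zp, if_true, Bool.false_eq_true, if_false, mul_one] at e'
      · exact Or.inl e'.symm
      · exact Or.inr (by rw [e', mul_assoc, h.extra.z_sq, mul_one])
      · exact Or.inr e'.symm
      · exact Or.inl (mul_right_cancel e').symm
    subst hjj
    have := mul_left_cancel e'
    rcases o <;> rcases o' <;> simp_all [zp, h.extra.z_ne]
  have hfbij : Function.Bijective f := by
    haveI := Fintype.ofFinite ↥F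
    refine (Fintype.bijective_iff_injective_and_card f).2 ⟨hfinj, le_antisymm (Fintype.card_le_of_injective f hfinj) ?_⟩
    rw [← Nat.card_eq_fintype_card, Fintype.card_prod, Fintype.card_fin, Fintype.card_bool]
    exact hF8
  have hFgood : ∀ q ∈ F, good q := fun q hq => by
    obtain ⟨⟨j, o⟩, e⟩ := hfbij.2 ⟨q, hq⟩
    have e' : p j * zp o = q := congrArg Subtype.val e
    rw [← e']
    rcases o with _ | _
    · simpa [zp] using good_p j
    · exact good_z _ (good_p j)
  have hset : {q : G | q ∈ Q ∧ q * k * (q * k) = 1} = (F : Set G) := by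
    ext q
    refine ⟨fun hq => ⟨hq.1, by rw [(conj_mul_self h hq.1 k.2 hq.2).2]; exact hsqQ q hq.1⟩, fun hq => ?_⟩
    obtain ⟨hqQ, hkq, -⟩ := hFgood q hq
    refine ⟨hqQ, ?_⟩
    calc q * k * (q * k) = q * ((k : G) * q * (k : G)⁻¹) * ((k : G) * k) := by group
      _ = 1 := by rw [hkq, mul_inv_cancel, one_mul, ← Subgroup.coe_mul, hk, Subgroup.coe_one]
  refine ⟨by rw [hset, ← Nat.card_coe_set_eq]; simpa using (Nat.card_eq_of_bijective f hfbij).symm,
    fun q hqQ hqk => ?_, fun q hqQ hq => ?_⟩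
  · have e : (k : G) * q * (k : G)⁻¹ = q := by rw [← hqk, mul_inv_cancel_right]
    obtain ⟨-, hg, -⟩ := hFgood q ⟨hqQ, Or.inl e⟩
    rw [e] at hg
    nth_rewrite 2 [hg]
    exact mul_inv_cancel q
  obtain ⟨-, -, hqi⟩ := hFgood q (by rw [← SetLike.mem_coe, ← hset]; exact ⟨hqQ, hq⟩)
  have hfixed : ∀ j, φ k j = j → j = i := by
    intro j hj
    rcases hcov j with e | e | e | e | e
    · exact e
    · rw [e, ← hb] at hj; exact absurd hj hba
    · rw [e, hb, hσσ] at hj; exact absurd hj.symm hba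
    · rw [e, ← hd] at hj; exact absurd hj hdc
    · rw [e, hd, hσσ] at hj; exact absurd hj.symm hdc
  have hvinv : (q * (k : G))⁻¹ = q * k := inv_eq_of_mul_eq_one_right hq
  have himg : ∀ j, ∀ u, Near z (t j) u → Near z (t (φ k j)) (q * k * u * (q * k)⁻¹) := by
    intro j u hu
    rw [show q * k * u * (q * k)⁻¹ = q * ((k : G) * u * (k : G)⁻¹) * q⁻¹ by group]
    refine near_trans h.pre (near_trans h.pre (heq k j) (near_conj h.pre k.2 hu)) (near_conj_Q h.pre (h.norm _ k.2 _ ?_) hqQ)
    rcases hu with rfl | rfl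
    · exact htQ j
    · exact mul_mem (htQ j) h.extra.z_mem
  have hiff : ∀ u ∈ invs Q z, ∀ j, Near z (t j) u → (Commute u (q * k) ↔ j = i) := by
    intro u hu j hj
    constructor
    · intro hc
      refine hfixed j (hdist _ _ (near_trans h.pre (himg j u hj) (near_symm h.pre ?_)))
      rw [← hc.eq, mul_inv_cancel_right]
      exact hj
    · rintro rfl
      have hcz : Commute z (q * k) := (show Commute z q from h.extra.z_comm hqQ).mul_right (h.cent _ k.2).symm
      have hcti : Commute (t j) (q * k) := by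
        refine hqi.symm.mul_right ?_
        show t j * k = k * t j
        conv_lhs => rw [← fix h hinj hrange ht hall hdist heq k hk hk1 hi]
        group
      rcases hj with rfl | rfl
      · exact hcti
      · exact hcti.mul_left hcz
  have hmoved : moved Q (q * k) = invs Q z \ {t i, t i * z} := by
    ext u
    constructor
    · rintro ⟨huQ, huo, hnc⟩
      have hu1 : u * u = 1 := CfsgLib.Involution.Dihedral.mul_self huo
      have hu : u ∈ invs Q z := ⟨huQ, hu1, CfsgLib.Involution.Dihedral.ne_one huo, fun e => hnc (e ▸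
        (show Commute z q from h.extra.z_comm hqQ).mul_right (h.cent _ k.2).symm)⟩
      refine ⟨hu, fun hmem => hnc ((hiff u hu i ?_).2 rfl)⟩
      rcases hmem with rfl | rfl
      · exact Or.inl rfl
      · exact Or.inr rfl
    · rintro ⟨hu, hmem⟩
      obtain ⟨j, hj⟩ := hall u hu
      refine ⟨hu.1, CfsgLib.Involution.Dihedral.orderOf_eq_two hu.2.1 hu.2.2.1, fun hc => hmem ?_⟩
      rw [(hiff u hu j hj).1 hc] at hj
      exact hj
  refine ⟨?_, fun u hu => ?_⟩
  · rw [hmoved, Set.ncard_sdiff ?_, card_invs h.pre, Set.ncard_pair fun e => h.extra.z_ne (by simpa using e.symm)]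
    rintro u (rfl | rfl)
    · exact ht i
    · refine ⟨mul_mem (htQ i) h.extra.z_mem, ?_, fun e => (ht i).2.2.2 ?_, fun e => (ht i).2.2.1 (mul_eq_right.1 e)⟩
      · rw [← Commute.mul_mul_mul_comm (h.extra.z_comm (htQ i)).symm, (ht i).2.1, h.extra.z_sq, one_mul]
      · rw [mul_eq_one_iff_eq_inv, h.extra.inv_z] at e; exact e
  · rw [hmoved] at hu
    obtain ⟨j, hj⟩ := hall u hu.1
    have hji : j ≠ i := fun e => hu.2 (e ▸ hj)
    set u' := q * k * u * (q * k)⁻¹ with hu'
    have hu'Q : u' ∈ Q := by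
      rw [hu', show q * k * u * (q * k)⁻¹ = q * ((k : G) * u * (k : G)⁻¹) * q⁻¹ by group]
      exact mul_mem (mul_mem hqQ (h.norm _ k.2 _ hu.1.1)) (inv_mem hqQ)
    have hnc : ¬ Commute u u' := by
      intro hc
      have h1 := (comm_near h.pre hu'Q hj).1 hc
      exact nc (fun e => hji (hfixed j e.symm)) ((comm_near h.pre (htQ j) (himg j u hj)).1 h1.symm).symm
    have hu'u' : u' * u' = 1 := by rw [hu', conj_mul, hu.1.2.1]; group
    have hww : u * u' * (u * u') = z := by
      refine (h.extra.sq_cases (mul_mem hu.1.1 hu'Q)).resolve_left fun e => hnc ?_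
      have := inv_eq_of_mul_eq_one_right e
      rw [mul_inv_rev, inv_eq_of_mul_eq_one_right hu'u', inv_of_invs hu.1] at this
      exact this.symm
    calc (u * (q * k)) ^ 4 = u * (q * k * u * (q * k)) * (u * (q * k * u * (q * k))) := by
          simp only [pow_succ, pow_zero, one_mul, mul_assoc]
      _ = u * u' * (u * u') := by rw [hu', hvinv]
      _ = z := hww

end Frame

/-- There are `120` involutions of `Q K` outside `Q`, each moving eight involutions of `Q`. -/
theorem main (h : Setting Q K z) :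
    (outer Q K).ncard = 120 ∧
      ∀ v ∈ outer Q K, (moved Q v).ncard = 8 ∧ ∀ u ∈ moved Q v, (u * v) ^ 4 = z := by
  classical
  obtain ⟨t, φ, hinj, hrange, ht, hall, hdist, heq⟩ := exists_frame h
  have hloc := local_count h hinj hrange ht hall hdist heq
  have hJ : Nat.card {k : ↥K // k * k = 1 ∧ k ≠ 1} = 15 := by
    rw [← HallJankoPerm.card_involutions, ← Nat.card_eq_finsetCard]
    refine Nat.card_congr (Equiv.ofBijective (fun k => ⟨φ k.1, Finset.mem_filter.2 ⟨Finset.mem_univ _,
      mem_alternatingGroup.1 (hrange ▸ ⟨k.1, rfl⟩), by rw [← map_mul, k.2.1, map_one],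
      fun e => k.2.2 (hinj (e.trans (map_one φ).symm))⟩⟩) ⟨fun k k' e => ?_, fun σ => ?_⟩)
    · exact Subtype.ext (hinj (congrArg Subtype.val e))
    · obtain ⟨-, hs, hσ2, hσ1⟩ := Finset.mem_filter.1 σ.2
      obtain ⟨k, hk⟩ : (σ : Perm (Fin 5)) ∈ φ.range := by rw [hrange]; exact mem_alternatingGroup.2 hs
      refine ⟨⟨k, hinj ?_, fun e => hσ1 ?_⟩, Subtype.ext hk⟩
      · rw [map_mul, hk, hσ2, map_one]
      · rw [← hk, e, map_one]
  have hkk : ∀ {q k : G}, q ∈ Q → (hk : k ∈ K) → k ≠ 1 → q * k * (q * k) = 1 →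
      (⟨k, hk⟩ : ↥K) * ⟨k, hk⟩ = 1 ∧ (⟨k, hk⟩ : ↥K) ≠ 1 := fun hq hk h1 he =>
    ⟨Subtype.ext (conj_mul_self h hq hk he).1, fun e => h1 (congrArg Subtype.val e)⟩
  refine ⟨?_, ?_⟩
  · let S := Σ k : {k : ↥K // k * k = 1 ∧ k ≠ 1}, {q : G // q ∈ Q ∧ q * (k.1 : G) * (q * (k.1 : G)) = 1}
    let f : S → outer Q K := fun x => ⟨x.2.1 * (x.1.1 : G), x.2.1, x.2.2.1, _, x.1.1.2,
      fun e => x.1.2.2 (Subtype.ext e), rfl, x.2.2.2⟩
    have hf : Function.Bijective f := by
      constructor
      · rintro ⟨⟨k, hk⟩, q, hq⟩ ⟨⟨k', hk'⟩, q', hq'⟩ e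
        have e' : q * (k : G) = q' * k' := congrArg Subtype.val e
        have hm : q'⁻¹ * q ∈ Q ⊓ K := Subgroup.mem_inf.2 ⟨mul_mem (inv_mem hq'.1) hq.1, by
          rw [show q'⁻¹ * q = (k' : G) * (k : G)⁻¹ by rw [eq_mul_inv_iff_mul_eq, mul_assoc, e', inv_mul_cancel_left]]
          exact mul_mem k'.2 (inv_mem k.2)⟩
        rw [h.disj, Subgroup.mem_bot, inv_mul_eq_one] at hm
        subst hm
        obtain rfl : k = k' := Subtype.ext (mul_left_cancel e')
        rfl
      · rintro ⟨v, q, hq, k, hk, hk1, rfl, hv⟩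
        exact ⟨⟨⟨⟨k, hk⟩, hkk hq hk hk1 hv⟩, q, hq, hv⟩, rfl⟩
    rw [← Nat.card_coe_set_eq, ← Nat.card_eq_of_bijective f hf]
    haveI := Fintype.ofFinite {k : ↥K // k * k = 1 ∧ k ≠ 1}
    have hcnt : ∀ k : {k : ↥K // k * k = 1 ∧ k ≠ 1},
        Nat.card {q : G // q ∈ Q ∧ q * (k.1 : G) * (q * (k.1 : G)) = 1} = 8 := fun k =>
      (Nat.card_coe_set_eq {q : G | q ∈ Q ∧ q * (k.1 : G) * (q * (k.1 : G)) = 1}).trans (hloc k.1 k.2.1 k.2.2).1
    rw [Nat.card_sigma, Finset.sum_congr rfl (fun k _ => hcnt k),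
      Finset.sum_const, smul_eq_mul, Finset.card_univ, ← Nat.card_eq_fintype_card, hJ]
  · rintro v ⟨q, hq, k, hk, hk1, rfl, hv⟩
    exact (hloc ⟨k, hk⟩ (hkk hq hk hk1 hv).1 (hkk hq hk hk1 hv).2).2.2 q hq hv

/-- The elements of `Q` centralised by an involution of `K` have square one, and each coset has eight involutions. -/
theorem coset_facts (h : Setting Q K z) {k : G} (hk : k ∈ K) (hk1 : k ≠ 1) (hkk : k * k = 1) :
    {q : G | q ∈ Q ∧ q * k * (q * k) = 1}.ncard = 8 ∧ ∀ q ∈ Q, q * k = k * q → q * q = 1 := by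
  obtain ⟨t, φ, hinj, hrange, ht, hall, hdist, heq⟩ := exists_frame h
  have := local_count h hinj hrange ht hall hdist heq ⟨k, hk⟩ (Subtype.ext hkk)
    (fun e => hk1 (congrArg Subtype.val e))
  exact ⟨this.1, this.2.1⟩

end CfsgLib.Characterizations.HallJankoCount
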