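import Cfsg.Agent.Lib.Classical.SL2Fours

/-!
# The factors of a central product of two copies of `SL₂`

The two factors of such a product are determined up to order.
-/

set_option autoImplicit false

open scoped MatrixGroups commutatorElement

namespace CfsgLib.Characterizations.SL2PairFactors

open Subgroup CfsgLib.Classical

variable {F : Type*} [Field F]

theorem comm_of_comm {g h k : SL(2, F)} (hg : g ∉ center SL(2, F)) (h1 : h * g = g * h)
    (h2 : k * g = g * k) : h * k = k * h := by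
  have E : ∀ {x y : SL(2, F)}, x * y = y * x →
      (x.1 0 1 * y.1 1 0 = y.1 0 1 * x.1 1 0 ∧
        (x.1 0 0 - x.1 1 1) * y.1 0 1 = (y.1 0 0 - y.1 1 1) * x.1 0 1 ∧
        (x.1 0 0 - x.1 1 1) * y.1 1 0 = (y.1 0 0 - y.1 1 1) * x.1 1 0) := fun {x y} e => by
    have e00 := congrFun (congrFun (congrArg Subtype.val e) 0) 0
    have e01 := congrFun (congrFun (congrArg Subtype.val e) 0) 1
    have e10 := congrFun (congrFun (congrArg Subtype.val e) 1) 0
    simp only [Matrix.SpecialLinearGroup.coe_mul, Matrix.mul_apply, Fin.sum_univ_two] at e00 e01 e10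
    exact ⟨by linear_combination e00, by linear_combination e01, by linear_combination -e10⟩
  have C : ∀ {x y : SL(2, F)}, x.1 0 1 * y.1 1 0 = y.1 0 1 * x.1 1 0 →
      (x.1 0 0 - x.1 1 1) * y.1 0 1 = (y.1 0 0 - y.1 1 1) * x.1 0 1 →
      (x.1 0 0 - x.1 1 1) * y.1 1 0 = (y.1 0 0 - y.1 1 1) * x.1 1 0 → x * y = y * x := by
    intro x y a b c
    refine sl2_ext ?_
    ext i j
    fin_cases i <;> fin_cases j <;>
      simp [Matrix.mul_apply, Fin.sum_univ_two]
    · linear_combination a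
    · linear_combination b
    · linear_combination -c
    · linear_combination -a
  obtain ⟨a1, b1, c1⟩ := E h1
  obtain ⟨a2, b2, c2⟩ := E h2
  by_cases hp : g.1 0 1 = 0
  · by_cases hr : g.1 1 0 = 0
    · by_cases hs : g.1 0 0 - g.1 1 1 = 0
      · refine absurd (mem_center_iff.2 fun x => (C ?_ ?_ ?_).symm) hg
        · rw [hp, hr]; ring
        · rw [hp, hs]; ring
        · rw [hr, hs]; ring
      · have e1 : h.1 0 1 = 0 := by
          rw [hp, mul_zero] at b1; exact (mul_eq_zero.1 b1.symm).resolve_left hs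
        have e2 : h.1 1 0 = 0 := by
          rw [hr, mul_zero] at c1; exact (mul_eq_zero.1 c1.symm).resolve_left hs
        have e3 : k.1 0 1 = 0 := by
          rw [hp, mul_zero] at b2; exact (mul_eq_zero.1 b2.symm).resolve_left hs
        have e4 : k.1 1 0 = 0 := by
          rw [hr, mul_zero] at c2; exact (mul_eq_zero.1 c2.symm).resolve_left hs
        refine C ?_ ?_ ?_ <;> simp [e1, e2, e3, e4]
    · have i0 : h.1 0 1 * k.1 1 0 = k.1 0 1 * h.1 1 0 :=
        mul_left_cancel₀ hr (by linear_combination k.1 1 0 * a1 - h.1 1 0 * a2)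
      refine C i0 (mul_left_cancel₀ hr ?_) (mul_left_cancel₀ hr ?_)
      · linear_combination k.1 0 1 * c1 - h.1 0 1 * c2 - (g.1 0 0 - g.1 1 1) * i0
      · linear_combination k.1 1 0 * c1 - h.1 1 0 * c2
  · have i0 : h.1 0 1 * k.1 1 0 = k.1 0 1 * h.1 1 0 :=
      mul_left_cancel₀ hp (by linear_combination k.1 0 1 * a1 - h.1 0 1 * a2)
    refine C i0 (mul_left_cancel₀ hp ?_) (mul_left_cancel₀ hp ?_)
    · linear_combination k.1 0 1 * b1 - h.1 0 1 * b2
    · linear_combination k.1 1 0 * b1 - h.1 1 0 * b2 + (g.1 0 0 - g.1 1 1) * i0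

theorem exists_noncomm (h2 : (2 : F) ≠ 0) : ∃ a b : SL(2, F), a * b ≠ b * a := by
  refine ⟨⟨!![1, 1; 0, 1], by simp⟩, ⟨!![1, 0; 1, 1], by simp⟩, fun h => ?_⟩
  have h' : (!![1, 1; 0, 1] * !![1, 0; 1, 1] : Matrix (Fin 2) (Fin 2) F) =
      !![1, 0; 1, 1] * !![1, 1; 0, 1] := congrArg Subtype.val h
  have := congrFun (congrFun h' 0) 0
  simp [Matrix.mul_apply, Fin.sum_univ_two] at this

/-- A map to a group of exponent two is trivial. -/
theorem hom_trivial (h2 : (2 : F) ≠ 0) {A : Type*} [Group A] (hA : ∀ a : A, a * a = 1)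
    (φ : SL(2, F) →* A) (g : SL(2, F)) : φ g = 1 := by
  haveI : NeZero (2 : F) := ⟨h2⟩
  have key : ∀ {i j : Fin 2} (hij : i ≠ j) (c : F),
      Matrix.SpecialLinearGroup.transvection hij c ∈ φ.ker := fun {i j} hij c => by
    have e : Matrix.SpecialLinearGroup.transvection hij (c / 2) *
        Matrix.SpecialLinearGroup.transvection hij (c / 2) = Matrix.SpecialLinearGroup.transvection hij c := by
      refine sl2_ext ?_
      rw [sl2_coe_mul]
      simp only [Matrix.SpecialLinearGroup.transvection]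
      rw [Matrix.transvection_mul_transvection_same i j hij, add_halves]
    rw [MonoidHom.mem_ker, ← e, map_mul, hA]
  have := sl2_transvections_generate φ.ker (fun c => key _ c) (fun c => key _ c)
  exact MonoidHom.mem_ker.1 (this ▸ mem_top g)

variable {G : Type*} [Group G]

/-- Two commuting normal parts of `SL₂`: one is central. -/
theorem part_central (h2 : (2 : F) ≠ 0) (L : Subgroup G) (e : L ≃* SL(2, F)) (A B : Subgroup G)
    (hA : A ≤ L) (hB : B ≤ L) (hcomm : ∀ a ∈ A, ∀ b ∈ B, a * b = b * a) (hAB : ∀ l ∈ L, ∃ a ∈ A, ∃ b ∈ B, a * b = l) :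
    (∀ a (ha : a ∈ A), e ⟨a, hA ha⟩ ∈ center SL(2, F)) ∨ (∀ b (hb : b ∈ B), e ⟨b, hB hb⟩ ∈ center SL(2, F)) := by
  by_contra hcon
  push Not at hcon
  obtain ⟨⟨a, ha, hac⟩, ⟨b, hb, hbc⟩⟩ := hcon
  have hmul : ∀ x y (hx : x ∈ L) (hy : y ∈ L), x * y = y * x →
      e ⟨x, hx⟩ * e ⟨y, hy⟩ = e ⟨y, hy⟩ * e ⟨x, hx⟩ := fun x y hx hy h => by
    rw [← map_mul, ← map_mul]; exact congrArg e (Subtype.ext h)
  -- `A` and `B` are commutative
  have hAc : ∀ x ∈ A, ∀ y ∈ A, x * y = y * x := fun x hx y hy => by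
    have := comm_of_comm hbc (hmul x b (hA hx) (hB hb) (hcomm x hx b hb))
      (hmul y b (hA hy) (hB hb) (hcomm y hy b hb))
    rw [← map_mul, ← map_mul] at this
    exact congrArg Subtype.val (e.injective this)
  have hBc : ∀ x ∈ B, ∀ y ∈ B, x * y = y * x := fun x hx y hy => by
    have := comm_of_comm hac (hmul x a (hB hx) (hA ha) (hcomm a ha x hx).symm)
      (hmul y a (hB hy) (hA ha) (hcomm a ha y hy).symm)
    rw [← map_mul, ← map_mul] at this
    exact congrArg Subtype.val (e.injective this)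
  obtain ⟨u, v, huv⟩ := exists_noncomm h2
  obtain ⟨a1, ha1, b1, hb1, e1⟩ := hAB (e.symm u : L) (SetLike.coe_mem _)
  obtain ⟨a2, ha2, b2, hb2, e2⟩ := hAB (e.symm v : L) (SetLike.coe_mem _)
  refine huv (e.symm.injective (Subtype.ext ?_))
  simp only [map_mul, Subgroup.coe_mul, ← e1, ← e2]
  calc a1 * b1 * (a2 * b2) = a1 * (b1 * a2) * b2 := by group
    _ = a1 * (a2 * b1) * b2 := by rw [hcomm a2 ha2 b1 hb1]
    _ = (a1 * a2) * (b1 * b2) := by group
    _ = (a2 * a1) * (b2 * b1) := by rw [hAc a1 ha1 a2 ha2, hBc b1 hb1 b2 hb2]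
    _ = a2 * (a1 * b2) * b1 := by group
    _ = a2 * (b2 * a1) * b1 := by rw [hcomm a1 ha1 b2 hb2]
    _ = a2 * b2 * (a1 * b1) := by group

theorem conj_mem_sup {L M : Subgroup G} (hc : ∀ x ∈ L, ∀ y ∈ M, x * y = y * x) {s x : G}
    (hs : s ∈ L ⊔ M) (hx : x ∈ M) : s * x * s⁻¹ ∈ M := by
  have h : s ∈ normalizer (M : Set G) := by
    refine sup_le ?_ Subgroup.le_normalizer hs
    intro a ha
    exact centralizer_le_normalizer _ (mem_centralizer_iff.2 fun b hb => (hc a ha b hb).symm)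
  exact (mem_normalizer_iff.1 h x).1 hx

theorem exists_mul_of_mem_sup {L M : Subgroup G} (hc : ∀ x ∈ L, ∀ y ∈ M, x * y = y * x) {s : G}
    (hs : s ∈ L ⊔ M) : ∃ a ∈ L, ∃ b ∈ M, a * b = s := by
  have hn : L ≤ normalizer (M : Set G) := fun a ha =>
    centralizer_le_normalizer _ (mem_centralizer_iff.2 fun b hb => (hc a ha b hb).symm)
  rw [← SetLike.mem_coe, coe_mul_of_left_le_normalizer_right _ _ hn] at hs
  exact hs

theorem eq_neg_one [Fintype F] (h2 : (2 : F) ≠ 0) {L : Subgroup G} (e : L ≃* SL(2, F)) {j : G} (hj : j * j = 1)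
    (hj1 : j ≠ 1) (hjL : j ∈ L) : e ⟨j, hjL⟩ = -1 :=
  sl2_eq_neg_one h2 (fun h => hj1 (congrArg Subtype.val (e.injective (h.trans (map_one e).symm))))
    (by rw [← map_mul, show (⟨j, hjL⟩ : L) * ⟨j, hjL⟩ = 1 from Subtype.ext hj, map_one])

theorem center_cases [Fintype F] (h2 : (2 : F) ≠ 0) {L : Subgroup G} (e : L ≃* SL(2, F)) {j : G} (hj : j * j = 1)
    (hj1 : j ≠ 1) (hjL : j ∈ L) {x : G} (hx : x ∈ L) (hc : e ⟨x, hx⟩ ∈ center SL(2, F)) :
    x = 1 ∨ x = j := by
  rcases sl2_center_eq hc with h | h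
  · exact Or.inl (congrArg Subtype.val (e.injective (h.trans (map_one e).symm)))
  · exact Or.inr (congrArg Subtype.val (e.injective (h.trans (eq_neg_one h2 e hj hj1 hjL).symm)))

/-- A factor lies in one of the factors of any such decomposition. -/
theorem le_or_le [Fintype F] {F' : Type*} [Field F'] [Fintype F'] (h2 : (2 : F) ≠ 0) (h2' : (2 : F') ≠ 0) (L M R S : Subgroup G)
    (e : L ≃* SL(2, F)) (e' : M ≃* SL(2, F')) (hLM : ∀ x ∈ L, ∀ y ∈ M, x * y = y * x)
    (hRS : ∀ x ∈ R, ∀ y ∈ S, x * y = y * x) {j : G} (hj : j * j = 1) (hj1 : j ≠ 1) (hjR : j ∈ R) (hjS : j ∈ S)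
    (hjL : j ∈ L) (hjM : j ∈ M) (hint : ∀ x, x ∈ R → x ∈ S → x = 1 ∨ x = j)
    (heq : R ⊔ S = L ⊔ M) : L ≤ R ∨ L ≤ S := by
  -- the only elements of the product centralizing `M` lie in `L`
  have hcent : ∀ x ∈ L ⊔ M, (∀ m ∈ M, x * m = m * x) → x ∈ L := by
    intro x hx hxm
    obtain ⟨a, ha, b, hb, rfl⟩ := exists_mul_of_mem_sup hLM hx
    refine L.mul_mem ha ?_
    rcases center_cases h2' e' hj hj1 hjM hb (mem_center_iff.2 fun y => by
      have h1 := hxm (e'.symm y : M) (SetLike.coe_mem _)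
      rw [mul_assoc, ← mul_assoc ((e'.symm y : M) : G) a b, ← hLM a ha _ (SetLike.coe_mem _), mul_assoc] at h1
      have h3 : (⟨b, hb⟩ : M) * e'.symm y = e'.symm y * ⟨b, hb⟩ := Subtype.ext (mul_left_cancel h1)
      have := congrArg e' h3
      simpa using this.symm) with h | h <;> rw [h]
    exacts [L.one_mem, hjL]
  have hdec : ∀ l ∈ L, ∃ r ∈ R ⊓ L, ∃ s ∈ S ⊓ L, r * s = l := by
    intro l hl
    obtain ⟨r, hr, s, hs, rfl⟩ := exists_mul_of_mem_sup hRS (heq ▸ mem_sup_left (T := M) hl)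
    have hsM : s ∈ L ⊔ M := heq ▸ mem_sup_right hs
    have hk : ∀ m ∈ M, s * m * s⁻¹ * m⁻¹ = 1 ∨ s * m * s⁻¹ * m⁻¹ = j := by
      intro m hm
      have hmRS : m ∈ R ⊔ S := heq ▸ mem_sup_right hm
      refine hint _ ?_ ?_
      · have e1 : s * m * s⁻¹ * m⁻¹ = r⁻¹ * (m * r * m⁻¹) := by
          have h1 : r * s * m = m * (r * s) := hLM _ hl m hm
          calc s * m * s⁻¹ * m⁻¹ = r⁻¹ * (r * s * m) * s⁻¹ * m⁻¹ := by group
            _ = r⁻¹ * (m * (r * s)) * s⁻¹ * m⁻¹ := by rw [h1]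
            _ = _ := by group
        rw [e1]
        exact R.mul_mem (R.inv_mem hr)
          (conj_mem_sup (fun x hx y hy => (hRS y hy x hx).symm) (by rwa [sup_comm]) hr)
      · rw [mul_assoc, mul_assoc, ← mul_assoc m]
        exact S.mul_mem hs (conj_mem_sup hRS hmRS (S.inv_mem hs))
    let φ : SL(2, F') →* zpowers j :=
      MonoidHom.mk' (fun y => ⟨s * (e'.symm y : M) * s⁻¹ * ((e'.symm y : M) : G)⁻¹, by
        rcases hk _ (SetLike.coe_mem (e'.symm y)) with h | h <;> rw [h]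
        exacts [one_mem _, mem_zpowers j]⟩) fun y z => Subtype.ext (by
        show s * ((e'.symm (y * z) : M) : G) * s⁻¹ * ((e'.symm (y * z) : M) : G)⁻¹ = _
        rw [map_mul, Subgroup.coe_mul]
        set u := ((e'.symm y : M) : G) with hu
        set v := ((e'.symm z : M) : G) with hv
        have hcen : u * (s * v * s⁻¹ * v⁻¹) = s * v * s⁻¹ * v⁻¹ * u := by
          rcases hk v (SetLike.coe_mem _) with h | h <;> rw [h]
          · rw [one_mul, mul_one]
          · exact (hLM j hjL u (SetLike.coe_mem _)).symm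
        show _ = (s * u * s⁻¹ * u⁻¹) * (s * v * s⁻¹ * v⁻¹)
        calc s * (u * v) * s⁻¹ * (u * v)⁻¹ = (s * u * s⁻¹ * u⁻¹) * (u * (s * v * s⁻¹ * v⁻¹)) * u⁻¹ := by group
          _ = (s * u * s⁻¹ * u⁻¹) * (s * v * s⁻¹ * v⁻¹) := by rw [hcen]; group)
    have hA : ∀ a : zpowers j, a * a = 1 := by
      rintro ⟨a, ha⟩
      obtain ⟨k, rfl⟩ := mem_zpowers_iff.1 ha
      exact Subtype.ext (by
        show j ^ k * j ^ k = 1
        rw [← (Commute.refl j).mul_zpow, hj, one_zpow])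
    have hsL : s ∈ L := hcent s hsM fun m hm => by
      have := congrArg Subtype.val (hom_trivial h2' hA φ (e' ⟨m, hm⟩))
      simp only [φ, MonoidHom.mk'_apply, MulEquiv.symm_apply_apply, OneMemClass.coe_one] at this
      rw [mul_inv_eq_one, mul_inv_eq_iff_eq_mul] at this
      exact this
    refine ⟨r, ⟨hr, ?_⟩, s, ⟨hs, hsL⟩, rfl⟩
    simpa using L.mul_mem hl (L.inv_mem hsL)
  rcases part_central h2 L e (R ⊓ L) (S ⊓ L) inf_le_right inf_le_right
    (fun a ha b hb => hRS a ha.1 b hb.1) hdec with h | h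
  · right
    intro l hl
    obtain ⟨r, hr, s, hs, rfl⟩ := hdec l hl
    refine S.mul_mem ?_ hs.1
    rcases center_cases h2 e hj hj1 hjL hr.2 (h r hr) with h' | h' <;> rw [h']
    exacts [S.one_mem, hjS]
  · left
    intro l hl
    obtain ⟨r, hr, s, hs, rfl⟩ := hdec l hl
    refine R.mul_mem hr.1 ?_
    rcases center_cases h2 e hj hj1 hjL hs.2 (h s hs) with h' | h' <;> rw [h']
    exacts [R.one_mem, hjR]

end CfsgLib.Characterizations.SL2PairFactors
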