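import Cfsg.Agent.Lib.Components.PComponents
import Cfsg.Agent.Lib.Coprime.Generation
import Mathlib.GroupTheory.Sylow

/-!
# A standard subgroup and the odd core

When the involution of the centralizer of a standard subgroup `P` is moved into `P C(P)` by an
element squaring into a Sylow 2-subgroup of the normalizer, `P` centralizes the odd core.
-/

set_option autoImplicit false

namespace CfsgLib.Characterizations.StandardCore

open Subgroup
open scoped commutatorElement Pointwise

variable {X : Type*} [Group X] [Finite X]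

/-- A group of odd order is fixed by `tu` if the fixed points of `t` and of `u` are. -/
theorem centralizes_of_four {O : Subgroup X} [O.Normal] (hO : Odd (Nat.card O)) {t u : X}
    (ht : t * t = 1) (hu : u * u = 1) (hc : t * u = u * t) (htu : t ≠ u) (h1t : t ≠ 1) (h1u : u ≠ 1)
    (hT : ∀ o ∈ O, t * o = o * t → (t * u) * o = o * (t * u))
    (hU : ∀ o ∈ O, u * o = o * u → (t * u) * o = o * (t * u)) :
    t * u ∈ centralizer (O : Set X) := by
  set B : Subgroup X := closure {t, u} with hB
  have hBel : ∀ b ∈ B, b = 1 ∨ b = t ∨ b = u ∨ b = t * u := by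
    intro b hb
    induction hb using closure_induction with
    | mem b hb =>
      simp only [Set.mem_insert_iff, Set.mem_singleton_iff] at hb
      tauto
    | one => exact Or.inl rfl
    | mul a b _ _ ha hb =>
      have e1 : t * (t * u) = u := by rw [← mul_assoc, ht, one_mul]
      have e2 : u * (t * u) = t := by rw [hc, ← mul_assoc, hu, one_mul]
      have e3 : (t * u) * t = u := by rw [hc, mul_assoc, ht, mul_one]
      have e4 : (t * u) * u = t := by rw [mul_assoc, hu, mul_one]
      have e5 : (t * u) * (t * u) = 1 := by rw [mul_assoc, e2, ht]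
      rcases ha with rfl | rfl | rfl | rfl <;> rcases hb with rfl | rfl | rfl | rfl <;>
        simp [ht, hu, hc.symm, e1, e2, e3, e4, e5]
    | inv a _ ha =>
      rcases ha with rfl | rfl | rfl | rfl
      · exact Or.inl inv_one
      · exact Or.inr (Or.inl (inv_eq_of_mul_eq_one_right ht))
      · exact Or.inr (Or.inr (Or.inl (inv_eq_of_mul_eq_one_right hu)))
      · refine Or.inr (Or.inr (Or.inr ?_))
        rw [mul_inv_rev, inv_eq_of_mul_eq_one_right ht, inv_eq_of_mul_eq_one_right hu, hc]
  have hsq : ∀ b ∈ B, b * b = 1 := by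
    intro b hb
    rcases hBel b hb with rfl | rfl | rfl | rfl
    · exact one_mul 1
    · exact ht
    · exact hu
    · calc t * u * (t * u) = t * u * (u * t) := by rw [hc]
        _ = 1 := by rw [mul_assoc, ← mul_assoc u, hu, one_mul, ht]
  haveI : IsMulCommutative B := Subgroup.isMulCommutative_closure (by
    intro a ha b hb
    simp only [Set.mem_insert_iff, Set.mem_singleton_iff] at ha hb
    rcases ha with rfl | rfl <;> rcases hb with rfl | rfl <;> simp [hc])
  have hBp : IsPGroup 2 B := fun b => ⟨1, Subtype.ext (by simpa [pow_two] using hsq b b.2)⟩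
  have hcop : (Nat.card B).Coprime (Nat.card O) := by
    obtain ⟨k, hk⟩ := hBp.exists_card_eq
    rw [hk]
    exact (Nat.coprime_two_left.2 hO).pow_left k
  intro o ho
  have hBO : B ≤ normalizer (O : Set X) := by rw [normalizer_eq_top]; exact le_top
  rw [← Coprime.iSup_centralizer_of_cyclic_quotient hBO hcop] at ho
  suffices h : O ≤ centralizer ({t * u} : Set X) by
    have := mem_centralizer_singleton_iff.1 (h (by
      rw [← Coprime.iSup_centralizer_of_cyclic_quotient hBO hcop]; exact ho))
    exact this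
  conv_lhs => rw [← Coprime.iSup_centralizer_of_cyclic_quotient hBO hcop]
  refine iSup₂_le fun D hD x hx => mem_centralizer_singleton_iff.2 ?_
  obtain ⟨hDB, a, ha, hDa⟩ := hD
  obtain ⟨d, hd, hd1⟩ : ∃ d ∈ D, d ≠ 1 := by
    by_contra hall
    push Not at hall
    have hD' : D = ⊥ := (eq_bot_iff_forall D).2 hall
    rw [hD', bot_sup_eq] at hDa
    have hza : ∀ y ∈ B, y = 1 ∨ y = a := fun y hy => by
      rw [← hDa] at hy
      obtain ⟨k, rfl⟩ := mem_zpowers_iff.1 hy
      have ha2 : a ^ (2 : ℤ) = 1 := by rw [zpow_ofNat, pow_two]; exact hsq a ha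
      rcases Int.even_or_odd k with ⟨j, rfl⟩ | ⟨j, rfl⟩
      · left; rw [← two_mul, zpow_mul, ha2, one_zpow]
      · right; rw [zpow_add, zpow_mul, ha2, one_zpow, one_mul, zpow_one]
    exact htu (((hza t (subset_closure (by simp))).resolve_left h1t).trans
      ((hza u (subset_closure (by simp))).resolve_left h1u).symm)
  have hcx : d * x = x * d := mem_centralizer_iff.1 hx.2 d hd
  rcases hBel d (hDB hd) with rfl | rfl | rfl | rfl
  · exact absurd rfl hd1
  · exact (hT x hx.1 hcx).symm
  · exact (hU x hx.1 hcx).symm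
  · exact hcx.symm

/-- Elements normalizing a perfect group and central modulo its centre centralize it. -/
theorem centralizes_of_commutator_center {P : Subgroup X} (hP : Group.IsPerfect P) {o : X}
    (h : ∀ x ∈ P, x * o * x⁻¹ * o⁻¹ ∈ (center P).map P.subtype) : o ∈ centralizer (P : Set X) := by
  have hmem : ∀ x : P, ∃ z : center P, ((z : P) : X) = x * o * (x : X)⁻¹ * o⁻¹ := fun x => by
    obtain ⟨z, hz, hzx⟩ := h x x.2
    exact ⟨⟨z, hz⟩, hzx⟩
  choose f hf using hmem
  let φ : P →* center P := MonoidHom.mk' f fun x y => by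
    apply Subtype.ext; apply Subtype.ext
    have hc : ((f y : P) : X) * x = x * ((f y : P) : X) :=
      congrArg Subtype.val (mem_center_iff.1 (f y).2 x).symm
    show ((f (x * y) : P) : X) = ((f x : P) : X) * ((f y : P) : X)
    have hxy : ((f x : P) : X) * ((f y : P) : X) = ((f y : P) : X) * ((f x : P) : X) :=
      congrArg (fun z : P => (z : X)) (congrArg Subtype.val (mul_comm' (f x) (f y)))
    rw [hxy, hf (x * y), Subgroup.coe_mul, mul_inv_rev]
    calc (x : X) * y * o * ((y : X)⁻¹ * (x : X)⁻¹) * o⁻¹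
        = x * ((y : X) * o * (y : X)⁻¹ * o⁻¹) * (o * (x : X)⁻¹ * o⁻¹) := by group
      _ = ((f y : P) : X) * x * (o * (x : X)⁻¹ * o⁻¹) := by rw [← hf y, hc]
      _ = ((f y : P) : X) * ((f x : P) : X) := by rw [hf x]; group
  have hker : φ.ker = ⊤ := by
    rw [eq_top_iff, ← (Group.isPerfect_def).1 hP, commutator_def]
    refine commutator_le.2 fun a _ b _ => ?_
    rw [MonoidHom.mem_ker, map_commutatorElement, commutatorElement_eq_one_iff_mul_comm]
    exact mul_comm' _ _
  refine mem_centralizer_iff.2 fun x hx => ?_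
  have h1 : φ ⟨x, hx⟩ = 1 := MonoidHom.mem_ker.1 (hker ▸ mem_top _)
  have h2 : x * o * x⁻¹ * o⁻¹ = 1 := by
    rw [← hf ⟨x, hx⟩]
    exact congrArg (fun z : center P => ((z : P) : X)) h1
  have := mul_inv_eq_one.1 h2
  exact mul_inv_eq_iff_eq_mul.1 this

/-- The core result. -/
theorem oddCore_centralized (P : Subgroup X) (hP : Cfsg.IsStandardSubgroup P)
    (hr : Cfsg.PRankLE 2 1 ↥(centralizer (P : Set X))) (hZ : Odd (Nat.card ↥(center ↥P)))
    (S : Subgroup X) (hSN : S ≤ normalizer (P : Set X)) (hS2 : IsPGroup 2 S)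
    (hSmax : ∀ T : Subgroup X, IsPGroup 2 T → S ≤ T → T ≤ normalizer (P : Set X) → T = S)
    {t : X} (ht : orderOf t = 2) (htS : t ∈ S) (htP : t ∈ centralizer (P : Set X))
    {g : X} (hgN : ∀ s ∈ S, g * s * g⁻¹ ∈ S) (hgS : g ∉ S) (hg2 : g ^ 2 ∈ S)
    (hgt : g * t * g⁻¹ ∈ P ⊔ centralizer (P : Set X)) :
    (Cfsg.pPrimeCore 2 X) ≤ centralizer (P : Set X) := by
  classical
  haveI : Fact (Nat.Prime 2) := ⟨Nat.prime_two⟩
  set C := centralizer (P : Set X) with hCdef
  set N := normalizer (P : Set X) with hNdef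
  set O := Cfsg.pPrimeCore 2 X with hOdef
  haveI : O.Normal := CfsgLib.Solvable.Cores.pPrimeCore_normal 2
  have hOodd : Odd (Nat.card O) :=
    Nat.coprime_two_left.1 (CfsgLib.Solvable.Cores.coprime_card_pPrimeCore (G := X) 2).symm
  obtain ⟨hq, htight, -, hNC⟩ := hP
  have ht2 : t * t = 1 := by rw [← pow_two, ← ht]; exact pow_orderOf_eq_one t
  have ht1 : t ≠ 1 := fun h => by simp [h] at ht
  -- `g` is outside the normalizer
  have hgnot : g ∉ N := by
    intro hg
    obtain ⟨k, hk⟩ := hS2 ⟨g ^ 2, hg2⟩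
    have hgp : IsPGroup 2 (zpowers g) := by
      have h1 : g ^ (2 * 2 ^ k) = 1 := by rw [pow_mul]; exact congrArg Subtype.val hk
      rw [← pow_succ'] at h1
      obtain ⟨j, -, hj⟩ := (Nat.dvd_prime_pow Nat.prime_two).1 (orderOf_dvd_of_pow_eq_one h1)
      exact IsPGroup.of_card (by rw [Nat.card_zpowers, hj])
    have hnorm : zpowers g ≤ normalizer (S : Set X) := zpowers_le.2 (by
      have hm : S.map (MulAut.conj g).toMonoidHom = S := by
        refine Subgroup.eq_of_le_of_card_ge (by rintro _ ⟨s, hs, rfl⟩; exact hgN s hs) ?_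
        rw [Nat.card_congr (equivMapOfInjective S _ (MulAut.conj g).injective).toEquiv.symm]
      exact mem_normalizer_iff_map_conj_eq.2 hm)
    have hT := hSmax (S ⊔ zpowers g) (hS2.to_sup_of_normal_left' hgp hnorm) le_sup_left
      (sup_le hSN (zpowers_le.2 hg))
    exact hgS (hT ▸ mem_sup_right (mem_zpowers g))
  -- two elements of `C` tie the conjugating element to the normalizer
  have hTI : ∀ (x s : X), orderOf s = 2 → s ∈ C → x * s * x⁻¹ ∈ C → x ∈ N := by
    intro x s hs hsC hxs
    by_contra hx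
    have hodd := htight.2 x (by rwa [← hNC])
    obtain ⟨j, hj⟩ := hodd
    have hmem : x * s * x⁻¹ ∈ C ⊓ C.map (MulAut.conj x).toMonoidHom := ⟨hxs, ⟨s, hsC, rfl⟩⟩
    have hd := Subgroup.orderOf_dvd_natCard _ hmem
    rw [show orderOf (x * s * x⁻¹) = orderOf s from MulEquiv.orderOf_eq (MulAut.conj x) s, hs,
      hj] at hd
    omega
  have hCt : ∀ x, x * t = t * x → x ∈ N := fun x hx => hTI x t ht htP (by
    rw [hx, mul_inv_cancel_right]; exact htP)
  -- commuting involutions of `C` are equal
  have huniq : ∀ a b, a ∈ C → b ∈ C → a * a = 1 → b * b = 1 → a ≠ 1 → b ≠ 1 → a * b = b * a → a = b := by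
    intro a b ha hb ha2 hb2 ha1 hb1 hab
    by_contra hne
    let A : Subgroup C := closure {⟨a, ha⟩, ⟨b, hb⟩}
    haveI : IsMulCommutative A := Subgroup.isMulCommutative_closure (by
      intro x hx y hy
      simp only [Set.mem_insert_iff, Set.mem_singleton_iff] at hx hy
      rcases hx with rfl | rfl <;> rcases hy with rfl | rfl <;>
        first | rfl | exact Subtype.ext hab | exact Subtype.ext hab.symm)
    have hexp : ∀ x ∈ A, x ^ 2 = 1 := by
      intro x hx
      suffices x ^ 2 = 1 ∧ x ∈ A from this.1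
      induction hx using closure_induction with
      | mem x hx =>
        refine ⟨?_, subset_closure hx⟩
        simp only [Set.mem_insert_iff, Set.mem_singleton_iff] at hx
        rcases hx with rfl | rfl
        · exact Subtype.ext (by simpa [pow_two] using ha2)
        · exact Subtype.ext (by simpa [pow_two] using hb2)
      | one => exact ⟨one_pow 2, one_mem _⟩
      | mul x y _ _ hx hy =>
        refine ⟨?_, mul_mem hx.2 hy.2⟩
        have : (⟨x, hx.2⟩ : A) * ⟨y, hy.2⟩ = ⟨y, hy.2⟩ * ⟨x, hx.2⟩ := mul_comm' _ _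
        rw [(show Commute x y from congrArg Subtype.val this).mul_pow, hx.1, hy.1, one_mul]
      | inv x _ hx => exact ⟨by rw [inv_pow, hx.1, inv_one], inv_mem hx.2⟩
    have h := hr A inferInstance hexp
    let f : Fin 3 → A := ![1, ⟨⟨a, ha⟩, subset_closure (by simp)⟩, ⟨⟨b, hb⟩, subset_closure (by simp)⟩]
    have hf : Function.Injective f := by
      intro i j hij
      have := congrArg (fun z : A => ((z : C) : X)) hij
      fin_cases i <;> fin_cases j <;>
        first
          | rfl
          | exfalso; simp [f, ha1, hb1, hne, ha1.symm, hb1.symm, Ne.symm hne] at this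
    have := Nat.card_le_card_of_injective f hf
    rw [Nat.card_eq_fintype_card, Fintype.card_fin] at this
    omega
  -- `t` is central in `S`
  have htcen : ∀ s ∈ S, s * t = t * s := by
    have hCn : ∀ s ∈ S, ∀ c ∈ C, s * c * s⁻¹ ∈ C := fun s hs c hc => by
      have hs' : s ∈ normalizer (C : Set X) := by rw [← hNC]; exact hSN hs
      exact (mem_normalizer_iff.1 hs' c).1 hc
    let K : Subgroup S := C.subgroupOf S
    haveI hKn : K.Normal := ⟨fun k hk s => by
      rw [mem_subgroupOf] at hk ⊢; exact hCn s s.2 k hk⟩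
    haveI : Nontrivial K := ⟨⟨⟨⟨t, htS⟩, htP⟩, 1, fun h =>
      ht1 (congrArg (fun z : K => ((z : S) : X)) h)⟩⟩
    obtain ⟨z, hz⟩ : ∃ z : ↥(K ⊓ center S), orderOf z = 2 := by
      have hne : K ⊓ center S ≠ ⊥ := by
        letI : MulAction S K := MulAction.compHom K (MulAut.conjNormal (H := K))
        obtain ⟨k, hk⟩ := (hS2.to_subgroup K).exists_card_eq
        have hk0 : k ≠ 0 := by
          rintro rfl
          rw [pow_zero, Nat.card_eq_one_iff_unique] at hk
          exact not_subsingleton K hk.1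
        have h1 : (1 : K) ∈ MulAction.fixedPoints S K := fun s => map_one (MulAut.conjNormal s)
        obtain ⟨z, hz, hz1⟩ := hS2.exists_fixed_point_of_prime_dvd_card_of_fixed_point K
          (hk ▸ dvd_pow_self 2 hk0) h1
        intro hbot
        have hzc : (z : S) ∈ K ⊓ center S := ⟨z.2, mem_center_iff.2 fun s => by
          have h : s * (z : S) * s⁻¹ = z := congrArg Subtype.val (hz s)
          exact mul_inv_eq_iff_eq_mul.1 h⟩
        rw [hbot, mem_bot] at hzc
        exact hz1 (Subtype.ext hzc).symm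
      haveI : Nontrivial ↥(K ⊓ center S) := (nontrivial_iff_ne_bot _).2 hne
      obtain ⟨n, hn⟩ := (hS2.to_subgroup (K ⊓ center S)).exists_card_eq
      refine exists_prime_orderOf_dvd_card' (G := ↥(K ⊓ center S)) 2 (hn ▸ dvd_pow_self 2 ?_)
      rintro rfl
      rw [pow_zero, Nat.card_eq_one_iff_unique] at hn
      exact not_subsingleton _ hn.1
    have hzX : orderOf ((z : S) : X) = 2 := by rw [orderOf_coe, orderOf_coe]; exact hz
    have hzt : ((z : S) : X) = t := huniq _ _ z.2.1 htP
      (by rw [← pow_two, ← hzX]; exact pow_orderOf_eq_one _) ht2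
      (fun h => by simp [h] at hzX) ht1
      (congrArg Subtype.val (mem_center_iff.1 z.2.2 ⟨t, htS⟩).symm)
    intro s hs
    rw [← hzt]
    exact congrArg Subtype.val (mem_center_iff.1 z.2.2 ⟨s, hs⟩)
  set u := g * t * g⁻¹ with hu
  have huS : u ∈ S := hgN t htS
  have htu : t * u = u * t := (htcen u huS).symm
  have hu2 : u * u = 1 := by
    rw [hu, show g * t * g⁻¹ * (g * t * g⁻¹) = g * (t * t) * g⁻¹ by group, ht2, mul_one,
      mul_inv_cancel]
  have hu1 : u ≠ 1 := fun h => ht1 (by rw [hu] at h; exact conj_eq_one_iff.1 h)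
  have huC : u ∉ C := fun h => hgnot (hTI g t ht htP h)
  have hgu : g * u * g⁻¹ = t := by
    have h := htcen _ hg2
    rw [hu, show g * (g * t * g⁻¹) * g⁻¹ = (g ^ 2 * t) * (g ^ 2)⁻¹ by rw [pow_two]; group, h,
      mul_inv_cancel_right]
  have hPC : ∀ x ∈ C, ∀ p ∈ P, p * x = x * p := fun x hx p hp => mem_centralizer_iff.1 hx p hp
  -- `u = p c` with `p`, `c` involutions
  obtain ⟨p₀, hp₀, c₀, hc₀, hpc₀⟩ : ∃ p ∈ P, ∃ c ∈ C, p * c = u := by
    have h := hgt
    rw [← SetLike.mem_coe, coe_mul_of_right_le_normalizer_left P C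
      (centralizer_le_normalizer _)] at h
    exact h
  have hcom : Commute p₀ c₀ := hPC c₀ hc₀ p₀ hp₀
  set m := Nat.card ↥(center P) with hm
  have hsq : p₀ * p₀ * (c₀ * c₀) = 1 := by
    rw [← hu2, ← hpc₀, hcom.mul_mul_mul_comm]
  have hp0Z : (⟨p₀ * p₀, mul_mem hp₀ hp₀⟩ : P) ∈ center P := by
    rw [mem_center_iff]
    intro y
    apply Subtype.ext
    show (y : X) * (p₀ * p₀) = p₀ * p₀ * y
    rw [eq_inv_of_mul_eq_one_left hsq]
    exact hPC _ (inv_mem (mul_mem hc₀ hc₀)) y y.2
  have hp0m : (p₀ * p₀) ^ m = 1 := by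
    have h := pow_card_eq_one' (x := (⟨_, hp0Z⟩ : center P))
    exact congrArg (fun z : center P => ((z : P) : X)) h
  set p := p₀ ^ m with hp
  set c := c₀ ^ m with hc
  have hpP : p ∈ P := pow_mem hp₀ m
  have hcC : c ∈ C := pow_mem hc₀ m
  have hp2 : p * p = 1 := by rw [hp, ← (Commute.refl p₀).mul_pow, hp0m]
  have hc2 : c * c = 1 := by
    rw [hc, ← (Commute.refl c₀).mul_pow, eq_inv_of_mul_eq_one_right hsq, inv_pow, hp0m, inv_one]
  have hupc : u = p * c := by
    obtain ⟨j, hj⟩ := hZ
    rw [hp, hc, ← hcom.mul_pow, hpc₀, hj, pow_succ, pow_mul, pow_two, hu2, one_pow, one_mul]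
  have hp1 : p ≠ 1 := fun h => huC (by rw [hupc, h, one_mul]; exact hcC)
  have hpt : t * p = p * t := (hPC t htP p hpP).symm
  have hct : t * c = c * t := by
    have : c = p * u := by rw [hupc, ← mul_assoc, hp2, one_mul]
    rw [this]
    calc t * (p * u) = t * p * u := (mul_assoc t p u).symm
      _ = p * (t * u) := by rw [hpt, mul_assoc p t u]
      _ = p * u * t := by rw [htu, ← mul_assoc p u t]
  have hcase : c = 1 ∨ c = t := by
    by_cases h : c = 1
    · exact Or.inl h
    · exact Or.inr (huniq c t hcC htP hc2 ht2 h ht1 hct.symm)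
  -- `P ∩ O` is central
  have hPO : O.subgroupOf P ≤ center P := by
    rcases Components.IsQuasisimple.normal_le_center_or_top hq (O.subgroupOf P) with h | h
    · exact h
    · exfalso
      have hPO' : P ≤ O := subgroupOf_eq_top.1 h
      have hd := Subgroup.orderOf_dvd_natCard O (hPO' hpP)
      have hord : orderOf p = 2 := orderOf_eq_prime (by rw [pow_two, hp2]) hp1
      rw [hord] at hd
      exact absurd hd hOodd.not_two_dvd_nat
  have hA : ∀ o ∈ O, t * o = o * t → o ∈ C := by
    intro o ho hto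
    refine centralizes_of_commutator_center hq.1 fun x hx => ?_
    have hoN : o ∈ N := hCt o hto.symm
    have h1 : x * o * x⁻¹ * o⁻¹ ∈ O :=
      O.mul_mem (Subgroup.Normal.conj_mem inferInstance o ho x) (O.inv_mem ho)
    have h2 : x * o * x⁻¹ * o⁻¹ ∈ P := by
      have := (mem_normalizer_iff.1 hoN x⁻¹).1 (P.inv_mem hx)
      rw [show x * o * x⁻¹ * o⁻¹ = x * (o * x⁻¹ * o⁻¹) by group]
      exact P.mul_mem hx this
    exact ⟨⟨_, h2⟩, hPO (mem_subgroupOf.2 h1), rfl⟩
  have hB : ∀ o ∈ O, u * o = o * u → ∀ x ∈ P, (g * x * g⁻¹) * o = o * (g * x * g⁻¹) := by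
    intro o ho huo x hx
    have ho' : g⁻¹ * o * g ∈ O := by simpa using Subgroup.Normal.conj_mem ‹O.Normal› o ho g⁻¹
    have hto : t * (g⁻¹ * o * g) = g⁻¹ * o * g * t := by
      calc t * (g⁻¹ * o * g) = g⁻¹ * (u * o) * g := by rw [hu]; group
        _ = g⁻¹ * (o * u) * g := by rw [huo]
        _ = _ := by rw [hu]; group
    have := hPC _ (hA _ ho' hto) x hx
    calc g * x * g⁻¹ * o = g * (x * (g⁻¹ * o * g)) * g⁻¹ := by group
      _ = g * ((g⁻¹ * o * g) * x) * g⁻¹ := by rw [this]
      _ = _ := by group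
  have hneTU : t ≠ u := fun h => huC (h ▸ htP)
  -- the key element
  have hw : t * u ∈ centralizer (O : Set X) := by
    have mulc : ∀ {a b o : X}, a * o = o * a → b * o = o * b → a * b * o = o * (a * b) :=
      fun {a b o} h1 h2 => (show Commute a o from h1).mul_left h2
    refine centralizes_of_four hOodd ht2 hu2 htu hneTU ht1 hu1 (fun o ho hto => ?_)
      (fun o ho huo => ?_)
    · rcases hcase with h | h
      · refine mulc hto ?_
        rw [hupc, h, mul_one]
        exact hPC _ (hA o ho hto) p hpP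
      · rw [show t * u = p by rw [hupc, h, ← mul_assoc, hpt, mul_assoc, ht2, mul_one]]
        exact hPC _ (hA o ho hto) p hpP
    · rcases hcase with h | h
      · refine mulc ?_ huo
        have := hB o ho huo p hpP
        rwa [show g * p * g⁻¹ = t by rw [← hgu, hupc, h, mul_one]] at this
      · have htp : t * u = p := by rw [hupc, h, ← mul_assoc, hpt, mul_assoc, ht2, mul_one]
        have hgp : g * p * g⁻¹ = t * u := by
          rw [← htp, show g * (t * u) * g⁻¹ = (g * t * g⁻¹) * (g * u * g⁻¹) by group, hgu, ← hu, htu]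
        have := hB o ho huo p hpP
        rwa [hgp] at this
  -- the kernel of `P` on `O`
  let K : Subgroup P := (centralizer (O : Set X)).subgroupOf P
  haveI : (centralizer (O : Set X)).Normal := inferInstance
  rcases Components.IsQuasisimple.normal_le_center_or_top hq K with h | h
  · exfalso
    haveI hq1 : Group.IsPerfect P := hq.1
    have key : ∀ x : P, x * ⟨p, hpP⟩ * x⁻¹ * (⟨p, hpP⟩ : P)⁻¹ ∈ center P := by
      intro x
      apply h
      rw [mem_subgroupOf]
      have hx : (x : X) * t = t * x := hPC t htP x x.2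
      have : ((x * ⟨p, hpP⟩ * x⁻¹ * (⟨p, hpP⟩ : P)⁻¹ : P) : X) = x * (t * u) * (x : X)⁻¹ * (t * u)⁻¹ := by
        rcases hcase with h' | h'
        · have hup : u = p := by rw [hupc, h', mul_one]
          rw [hup]
          simp only [coe_mul, coe_inv, mul_inv_rev]
          rw [← mul_assoc (x : X) t, hx, mul_assoc (t : X) x]
          calc (x : X) * p * (x : X)⁻¹ * p⁻¹ = t⁻¹ * (t * ((x : X) * p * (x : X)⁻¹ * p⁻¹)) := by group
            _ = (t * ((x : X) * p * (x : X)⁻¹ * p⁻¹)) * t⁻¹ := by
                have hm : (x : X) * p * (x : X)⁻¹ * p⁻¹ ∈ P :=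
                  P.mul_mem (P.mul_mem (P.mul_mem x.2 hpP) (P.inv_mem x.2)) (P.inv_mem hpP)
                have hcm := hPC t htP _ hm
                rw [← hcm, inv_mul_eq_iff_eq_mul.2 hcm.symm.symm, mul_inv_cancel_right]
            _ = _ := by group
        · have htp : t * u = p := by rw [hupc, h', ← mul_assoc, hpt, mul_assoc, ht2, mul_one]
          rw [htp]; rfl
      rw [this]
      exact mul_mem (Subgroup.Normal.conj_mem inferInstance _ hw _) (inv_mem hw)
    have hz : (⟨p, hpP⟩ : P) ∈ (center (P ⧸ center P)).comap (QuotientGroup.mk' (center P)) := by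
      rw [mem_comap, mem_center_iff]
      intro y
      obtain ⟨x, rfl⟩ := QuotientGroup.mk'_surjective (center P) y
      rw [← map_mul, ← map_mul, ← mul_inv_eq_one, ← map_inv, ← map_mul, QuotientGroup.mk'_apply,
        QuotientGroup.eq_one_iff, mul_inv_rev]
      simpa [mul_assoc] using key x
    rw [Components.center_quotient_of_perfect _ le_rfl, QuotientGroup.map_mk'_self, mem_comap, mem_bot,
      QuotientGroup.mk'_apply, QuotientGroup.eq_one_iff] at hz
    have hd := Subgroup.orderOf_dvd_natCard _ hz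
    rw [← orderOf_coe, show orderOf ((⟨p, hpP⟩ : P) : X) = 2 from
      orderOf_eq_prime (by rw [pow_two, hp2]) hp1] at hd
    exact absurd hd hZ.not_two_dvd_nat
  · exact le_centralizer_iff.1 (subgroupOf_eq_top.1 h)

/-- Components containing `P` are quasisimple. -/
theorem quasisimple_of_component (P : Subgroup X) (hq : Cfsg.IsQuasisimple P)
    (hPO : Cfsg.pPrimeCore 2 X ≤ centralizer (P : Set X)) {L : Subgroup X}
    (hL : Cfsg.IsPComponent 2 L) (hPL : P ≤ L) : Cfsg.IsQuasisimple L := by
  haveI : Fact (Nat.Prime 2) := ⟨Nat.prime_two⟩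
  set O := Cfsg.pPrimeCore 2 X with hOdef
  haveI : O.Normal := CfsgLib.Solvable.Cores.pPrimeCore_normal 2
  rw [Components.IsPComponent.isQuasisimple_iff hL, commutator_eq_bot_iff_le_centralizer]
  have hsub : L ≤ centralizer (O : Set X) := by
    set H := L ⊓ centralizer (O : Set X) with hH
    haveI : (centralizer (O : Set X)).Normal := inferInstance
    have hHsn : H.IsSubnormal :=
      Components.IsSubnormal.of_normal_le hL.1 inf_le_left (fun x hx => mem_normalizer_iff.2 fun h => by
        constructor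
        · rintro ⟨h1, h2⟩
          exact ⟨L.mul_mem (L.mul_mem hx h1) (L.inv_mem hx), Subgroup.Normal.conj_mem inferInstance h h2 x⟩
        · rintro ⟨h1, h2⟩
          refine ⟨?_, ?_⟩
          · simpa [mul_assoc] using L.mul_mem (L.mul_mem (L.inv_mem hx) h1) hx
          · simpa [mul_assoc] using Subgroup.Normal.conj_mem inferInstance _ h2 x⁻¹)
    set π := QuotientGroup.mk' O with hπ
    have hPH : P ≤ H := le_inf hPL (le_centralizer_iff.1 hPO)
    have hsn : ((H.map π).subgroupOf (L.map π)).IsSubnormal :=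
      (hHsn.map (QuotientGroup.mk'_surjective _)).subgroupOf
    rcases Components.IsQuasisimple.subnormal_eq_top_or_le_center hL.2.1.2 hsn with h | h
    · rw [← hL.2.2 H hHsn inf_le_left (le_antisymm (map_mono inf_le_left) (subgroupOf_eq_top.1 h))]
      exact inf_le_right
    · exfalso
      haveI := hq.1
      have hPb : P.map π = ⊥ := by
        rw [← (Subgroup.isPerfect_iff).1 hq.1, map_commutator, commutator_eq_bot_iff_le_centralizer]
        intro x hx
        rw [mem_centralizer_iff]
        intro y hy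
        exact congrArg Subtype.val (mem_center_iff.mp
          (h (show (⟨x, map_mono (hPH.trans inf_le_left) hx⟩ : ↥(L.map π)) ∈
            (H.map π).subgroupOf (L.map π) from map_mono hPH hx))
          ⟨y, map_mono (hPH.trans inf_le_left) hy⟩)
      rw [Subgroup.map_eq_bot_iff, QuotientGroup.ker_mk'] at hPb
      exact Components.IsQuasisimple.not_isMulCommutative hq ⟨⟨fun a b => Subtype.ext
        (mem_centralizer_iff.1 (hPO (hPb b.2)) a a.2)⟩⟩
  refine hsub.trans (centralizer_le ?_)
  rintro _ ⟨x, hx, rfl⟩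
  exact (Components.mem_pPrimeCore_subgroup_iff hL.1 x).1 hx

end CfsgLib.Characterizations.StandardCore
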