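import Mathlib

/-!
Two involutions generating a dihedral group: the central involution and the conjugacy pattern.
-/

set_option autoImplicit false

namespace CfsgLib.Characterizations.TwoInvolutions

variable {G : Type*} [Group G]

theorem mul_self_eq_one_of_orderOf {u : G} (hu : orderOf u = 2) : u * u = 1 := by
  rw [← sq, ← hu]; exact pow_orderOf_eq_one u

theorem inv_eq_self {u : G} (hu : u * u = 1) : u⁻¹ = u := inv_eq_of_mul_eq_one_right hu

/-- The first involution inverts the product by conjugation. -/
theorem conj_pow_mul {u v : G} (hu : u * u = 1) (hv : v * v = 1) (k : ℕ) :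
    u * (u * v) ^ k * u⁻¹ = ((u * v) ^ k)⁻¹ := by
  have h : u * (u * v) * u⁻¹ = (u * v)⁻¹ := by
    rw [mul_inv_rev, inv_eq_self hu, inv_eq_self hv, ← mul_assoc u u v, hu, one_mul]
  rw [← inv_pow, ← h, ← conj_pow]

/-- Conjugating an element by an element it inverts. -/
theorem conj_mul_sq {u d : G} (h : u * d * u⁻¹ = d⁻¹) : d * u * d⁻¹ = (d * d) * u := by
  have h' : u * d = d⁻¹ * u := by rw [← h]; group
  have : u * d⁻¹ = d * u := by
    calc u * d⁻¹ = d * (d⁻¹ * u) * d⁻¹ := by group
      _ = d * (u * d) * d⁻¹ := by rw [h']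
      _ = d * u := by group
  rw [mul_assoc d u, this]; group

/-- If the product of two involutions has odd order they are conjugate. -/
theorem exists_conj_of_odd {u v : G} (hu : u * u = 1) (hv : v * v = 1) (h : Odd (orderOf (u * v))) :
    ∃ k : ℕ, (u * v) ^ k * u * ((u * v) ^ k)⁻¹ = v := by
  obtain ⟨j, hj⟩ := h
  refine ⟨j, ?_⟩
  rw [conj_mul_sq (conj_pow_mul hu hv j), ← pow_add]
  have h1 : (u * v) ^ (j + j) * (u * v) = 1 := by
    rw [← pow_succ, show j + j + 1 = orderOf (u * v) by omega, pow_orderOf_eq_one]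
  have h2 : (u * v) ^ (j + j) = v * u := by
    rw [← inv_eq_of_mul_eq_one_left h1, mul_inv_rev, inv_eq_self hu, inv_eq_self hv]
  rw [h2, mul_assoc, hu, mul_one]

/-- Two involutions with product of odd order are conjugate. -/
theorem isConj_of_odd {u v : G} (hu : u * u = 1) (hv : v * v = 1) (h : Odd (orderOf (u * v))) :
    IsConj u v := by
  obtain ⟨k, hk⟩ := exists_conj_of_odd hu hv h
  exact isConj_iff.mpr ⟨_, hk⟩

/-- If the product of two involutions has even order, a central involution `w` of the dihedral group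
they generate commutes with both, and `w * u` is conjugate to one of them. -/
theorem exists_central_involution [Finite G] {u v : G} (hu : u * u = 1) (hv : v * v = 1)
    (h : Even (orderOf (u * v))) :
    ∃ w : G, orderOf w = 2 ∧ Commute w u ∧ Commute w v ∧ (IsConj u (w * u) ∨ IsConj v (w * u)) := by
  obtain ⟨k, hk⟩ := h
  have hkpos : 0 < k := by have := orderOf_pos (u * v); omega
  set w := (u * v) ^ k with hw
  have hord : orderOf w = 2 := by
    rw [hw, orderOf_pow_of_dvd hkpos.ne' ⟨2, by omega⟩, hk, ← two_mul, Nat.mul_div_cancel _ hkpos]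
  have hw2 : w * w = 1 := mul_self_eq_one_of_orderOf hord
  have hcu : Commute w u := by
    have := conj_pow_mul hu hv k
    rw [← hw, inv_eq_self hw2] at this
    show w * u = u * w
    conv_lhs => rw [← this]
    group
  have hcd : Commute w (u * v) := (Commute.self_pow (u * v) k).symm
  have hcv : Commute w v := by
    have := hcu.mul_right hcd
    rwa [← mul_assoc, hu, one_mul] at this
  refine ⟨w, hord, hcu, hcv, ?_⟩
  rcases Nat.even_or_odd k with ⟨i, hi⟩ | ⟨i, hi⟩
  · left
    refine isConj_iff.mpr ⟨(u * v) ^ i, ?_⟩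
    rw [conj_mul_sq (conj_pow_mul hu hv i), ← pow_add, ← hi]
  · right
    refine isConj_iff.mpr ⟨(u * v) ^ (i + 1), ?_⟩
    have h1 : v = (u * v)⁻¹ * u := by rw [mul_inv_rev, inv_eq_self hu, inv_eq_self hv, mul_assoc, hu, mul_one]
    calc (u * v) ^ (i + 1) * v * ((u * v) ^ (i + 1))⁻¹
        = (u * v) ^ (i + 1) * ((u * v)⁻¹ * u) * ((u * v) ^ (i + 1))⁻¹ := by rw [← h1]
      _ = (u * v)⁻¹ * ((u * v) ^ (i + 1) * u * ((u * v) ^ (i + 1))⁻¹) := by
            have : Commute ((u * v) ^ (i + 1)) (u * v)⁻¹ := (Commute.self_pow (u * v) (i + 1)).symm.inv_right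
            rw [← mul_assoc, this.eq]; group
      _ = w * u := by
            rw [conj_mul_sq (conj_pow_mul hu hv (i + 1)), ← mul_assoc, ← pow_add, hw]
            congr 1
            rw [inv_mul_eq_iff_eq_mul, ← pow_succ']
            congr 1; omega

/-- Nonconjugate involutions commute with a common involution `w`, with `w * u` conjugate to `u` or `v`. -/
theorem exists_central_involution_of_not_isConj [Finite G] {u v : G} (hu : orderOf u = 2) (hv : orderOf v = 2)
    (h : ¬ IsConj u v) :
    ∃ w : G, orderOf w = 2 ∧ Commute w u ∧ Commute w v ∧ (IsConj u (w * u) ∨ IsConj v (w * u)) :=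
  exists_central_involution (mul_self_eq_one_of_orderOf hu) (mul_self_eq_one_of_orderOf hv)
    ((Nat.even_or_odd _).resolve_right fun ho =>
      h (isConj_of_odd (mul_self_eq_one_of_orderOf hu) (mul_self_eq_one_of_orderOf hv) ho))

end CfsgLib.Characterizations.TwoInvolutions
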