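import Cfsg.Agent.Lib.Fusion.Transfer
import Cfsg.Agent.Lib.LocalEven.Yoshida

/-!
# An involution with centralizer `Z₂ × S₄` and self centralizing derived Sylow subgroup
-/

set_option autoImplicit false
set_option linter.style.haveILetI false
set_option linter.unusedSectionVars false

namespace CfsgLib.Characterizations.TwoTimesSymmetricFour

open Equiv Subgroup

/-- The model of the centralizer. -/
abbrev M := Multiplicative (ZMod 2) × Perm (Fin 4)

/-- The central double transposition. -/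
def d : Perm (Fin 4) := swap 0 1 * swap 2 3

/-- A second double transposition. -/
def rr : Perm (Fin 4) := swap 0 2 * swap 1 3

/-- The outer generator. -/
def one' : Multiplicative (ZMod 2) := Multiplicative.ofAdd 1

theorem two_cases : ∀ a b : Multiplicative (ZMod 2), a ≠ 1 → b ≠ 1 → a = b := by decide

theorem one'_ne : one' ≠ 1 := by decide

theorem one'_sq : one' ^ 2 = 1 := by decide

theorem center_cases : ∀ p : M, (∀ q : M, p * q = q * p) → p = 1 ∨ p = (one', 1) := by
  decide +kernel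

theorem card_cent : Nat.card {p : M // p * (1, d) = (1, d) * p} = 16 := by
  rw [Nat.card_eq_fintype_card]
  decide +kernel

theorem comm_cases : ∀ x : Perm (Fin 4), x * d = d * x → ∀ y : Perm (Fin 4), y * d = d * y →
    x * y * x⁻¹ * y⁻¹ = 1 ∨ x * y * x⁻¹ * y⁻¹ = d := by
  decide +kernel

theorem class_cases : ∀ s : Perm (Fin 4), s * s = 1 → s = 1 ∨ (∃ c, c * s * c⁻¹ = d) ∨
    (Finset.univ.image fun c : Perm (Fin 4) => c * s * c⁻¹).card = 6 := by
  decide +kernel

variable {G : Type*} [Group G] [Finite G] {t : G}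
variable (e : ↥(centralizer ({t} : Set G)) ≃* M)

/-- The inverse of the identification, as a map into `G`. -/
def emb : M →* G := (centralizer ({t} : Set G)).subtype.comp e.symm.toMonoidHom

/-- The central involution of the symmetric part. -/
def z : G := emb e (1, d)

theorem emb_injective : Function.Injective (emb e) := fun _ _ h => e.symm.injective (Subtype.ext h)

theorem emb_mem (p : M) : emb e p ∈ centralizer ({t} : Set G) := (e.symm p).2

theorem exists_emb {c : G} (hc : c ∈ centralizer ({t} : Set G)) : ∃ p, emb e p = c :=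
  ⟨e ⟨c, hc⟩, congrArg Subtype.val (e.symm_apply_apply ⟨c, hc⟩)⟩

theorem emb_apply {c : G} (hc : c ∈ centralizer ({t} : Set G)) : emb e (e ⟨c, hc⟩) = c :=
  congrArg Subtype.val (e.symm_apply_apply ⟨c, hc⟩)

theorem e_emb (p : M) (h : emb e p ∈ centralizer ({t} : Set G)) : e ⟨emb e p, h⟩ = p :=
  e.apply_symm_apply p

theorem emb_comm_t (p : M) : emb e p * t = t * emb e p :=
  mem_centralizer_singleton_iff.mp (emb_mem e p)

theorem emb_one' (ht : t ≠ 1) : emb e (one', 1) = t := by
  have hc : t ∈ centralizer ({t} : Set G) := mem_centralizer_singleton_iff.mpr rfl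
  rcases center_cases (e ⟨t, hc⟩) (fun q => by
      have h := emb_comm_t e q
      refine (emb_injective e ?_)
      rw [map_mul, map_mul, emb_apply e hc, h]) with h | h
  · exact absurd (by rw [← emb_apply e hc, h, map_one]) ht
  · rw [← h, emb_apply e hc]

include e in
theorem card_centralizer : Nat.card (centralizer ({t} : Set G)) = 48 := by
  rw [Nat.card_congr e.toEquiv, Nat.card_prod, Nat.card_perm, Nat.card_fin,
    Nat.card_congr Multiplicative.toAdd, Nat.card_zmod]
  rfl

/-- The hypotheses: `t` is an involution central in `T` and every Sylow subgroup is the centralizer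
of its derived subgroup. -/
structure Hyp (t : G) : Prop where
  ne : t ≠ 1
  sq : t * t = 1
  two_central : ∃ T : Sylow 2 G, (T : Subgroup G) ≤ centralizer ({t} : Set G) ∧ 16 ∣ Nat.card (T : Subgroup G)
  self : ∀ S : Sylow 2 G, centralizer ((⁅(S : Subgroup G), (S : Subgroup G)⁆ : Subgroup G) : Set G) =
    (S : Subgroup G)

theorem mem_cent_z {p : M} : emb e p ∈ centralizer ({z e} : Set G) ↔ p * (1, d) = (1, d) * p := by
  rw [mem_centralizer_singleton_iff, z, ← map_mul, ← map_mul, (emb_injective e).eq_iff]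

theorem z_ne : z e ≠ 1 := fun h => by
  have h1 := congrArg Prod.snd (emb_injective e (h.trans (map_one (emb e)).symm))
  exact (by decide : d ≠ 1) h1

variable (hyp : Hyp t)
include hyp

/-- The centralizer of `z` is a Sylow subgroup inside the centralizer of `t`. -/
theorem exists_sylow : ∃ S : Sylow 2 G, (S : Subgroup G) = centralizer ({z e} : Set G) ∧
    (S : Subgroup G) ≤ centralizer ({t} : Set G) ∧
    ∀ a ∈ (S : Subgroup G), ∀ b ∈ (S : Subgroup G),
      a * b * a⁻¹ * b⁻¹ = 1 ∨ a * b * a⁻¹ * b⁻¹ = z e := by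
  haveI : Fact (Nat.Prime 2) := ⟨Nat.prime_two⟩
  set P : Subgroup G := centralizer ({t} : Set G) ⊓ centralizer ({z e} : Set G) with hP
  have hPcard : Nat.card P = 16 := by
    rw [← card_cent]
    refine Nat.card_congr
      { toFun := fun c => ⟨e ⟨c, c.2.1⟩, (mem_cent_z e).1 (by rw [emb_apply]; exact c.2.2)⟩
        invFun := fun p => ⟨emb e p, emb_mem e p, (mem_cent_z e).2 p.2⟩
        left_inv := fun c => Subtype.ext (emb_apply e c.2.1)
        right_inv := fun p => Subtype.ext (e_emb e p (emb_mem e p)) }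
  obtain ⟨S, hS⟩ := (IsPGroup.of_card (p := 2) (n := 4) (G := P) (by rw [hPcard]; norm_num)).exists_le_sylow
  obtain ⟨T, hT, hT16⟩ := hyp.two_central
  have hSP : (S : Subgroup G) = P := by
    refine (Subgroup.eq_of_le_of_card_ge hS ?_).symm
    have h1 : Nat.card (S : Subgroup G) ∣ 48 := by
      rw [Nat.card_congr (S.equiv T).toEquiv, ← card_centralizer e]
      exact Subgroup.card_dvd_of_le hT
    obtain ⟨n, hn⟩ := S.isPGroup'.exists_card_eq
    rw [hn] at h1 ⊢
    rw [hPcard]
    have : 2 ^ n ∣ 16 := by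
      have hco : Nat.Coprime (2 ^ n) 3 := Nat.Coprime.pow_left n (by norm_num)
      exact hco.dvd_of_dvd_mul_right (m := 16) (by simpa using h1)
    exact Nat.le_of_dvd (by norm_num) this
  have hcomm : ∀ a ∈ (S : Subgroup G), ∀ b ∈ (S : Subgroup G),
      a * b * a⁻¹ * b⁻¹ = 1 ∨ a * b * a⁻¹ * b⁻¹ = z e := by
    intro a ha b hb
    rw [hSP] at ha hb
    obtain ⟨p, rfl⟩ := exists_emb e ha.1
    obtain ⟨q, rfl⟩ := exists_emb e hb.1
    have hp := congrArg Prod.snd ((mem_cent_z e).1 ha.2)
    have hq := congrArg Prod.snd ((mem_cent_z e).1 hb.2)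
    have h1 : (p * q * p⁻¹ * q⁻¹).1 = 1 := by
      simp only [Prod.fst_mul, Prod.fst_inv]
      exact by rw [mul_comm p.1 q.1, mul_inv_cancel_right, mul_inv_cancel]
    rcases comm_cases p.2 hp q.2 hq with h | h
    · refine Or.inl ?_
      rw [← map_inv, ← map_inv, ← map_mul, ← map_mul, ← map_mul,
        show p * q * p⁻¹ * q⁻¹ = 1 from Prod.ext h1 h, map_one]
    · refine Or.inr ?_
      rw [← map_inv, ← map_inv, ← map_mul, ← map_mul, ← map_mul,
        show p * q * p⁻¹ * q⁻¹ = (1, d) from Prod.ext h1 h]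
      rfl
  refine ⟨S, le_antisymm (hSP ▸ inf_le_right) ?_, hSP ▸ inf_le_left, hcomm⟩
  have hder : ⁅(S : Subgroup G), (S : Subgroup G)⁆ ≤ zpowers (z e) :=
    Subgroup.commutator_le.2 fun a ha b hb => by
      rw [commutatorElement_def]
      rcases hcomm a ha b hb with h | h <;> rw [h]
      · exact one_mem _
      · exact mem_zpowers _
  rw [← hyp.self S]
  intro x hx
  rw [mem_centralizer_iff]
  intro y hy
  obtain ⟨k, rfl⟩ := mem_zpowers_iff.1 (hder hy)
  exact ((show Commute (z e) x from (mem_centralizer_singleton_iff.1 hx).symm).zpow_left k).eq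

theorem centralizer_z_le : centralizer ({z e} : Set G) ≤ centralizer ({t} : Set G) := by
  obtain ⟨S, hS, hSt, -⟩ := exists_sylow e hyp
  rw [← hS]; exact hSt

theorem z_eq_comm : ∃ a ∈ centralizer ({z e} : Set G), ∃ b ∈ centralizer ({z e} : Set G),
    a * b * a⁻¹ * b⁻¹ = z e := by
  refine ⟨emb e (1, swap 0 1), (mem_cent_z e).2 (by decide), emb e (1, rr),
    (mem_cent_z e).2 (by decide), ?_⟩
  rw [← map_inv, ← map_inv, ← map_mul, ← map_mul, ← map_mul]
  exact congrArg (emb e) (by decide)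

/-- The only conjugate of `t` central in the Sylow subgroup is `t`. -/
theorem eq_of_central {S : Sylow 2 G} (hS : (S : Subgroup G) = centralizer ({z e} : Set G))
    {g : G} (hu : g * t * g⁻¹ ∈ centralizer ((S : Subgroup G) : Set G)) : g * t * g⁻¹ = t := by
  haveI : Fact (Nat.Prime 2) := ⟨Nat.prime_two⟩
  obtain ⟨S', hS', hSt, hcomm⟩ := exists_sylow e hyp
  have htS : t ∈ centralizer ((S : Subgroup G) : Set G) := mem_centralizer_iff.2 fun y hy =>
    mem_centralizer_singleton_iff.1 (hSt (by rw [hS', ← hS]; exact hy))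
  obtain ⟨n, hn, hnt⟩ := CfsgLib.Fusion.Transfer.burnside_central S htS hu ⟨g, rfl⟩
  obtain ⟨a, ha, b, hb, hab⟩ := z_eq_comm e hyp
  rw [← hS] at ha hb
  have hna : n * a * n⁻¹ ∈ (S' : Subgroup G) := by
    rw [hS', ← hS]; exact (mem_normalizer_iff.1 hn a).1 ha
  have hnb : n * b * n⁻¹ ∈ (S' : Subgroup G) := by
    rw [hS', ← hS]; exact (mem_normalizer_iff.1 hn b).1 hb
  have hnz : n * z e * n⁻¹ = z e := by
    have h1 : n * z e * n⁻¹ = n * a * n⁻¹ * (n * b * n⁻¹) * (n * a * n⁻¹)⁻¹ * (n * b * n⁻¹)⁻¹ := by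
      rw [← hab]; group
    rcases hcomm _ hna _ hnb with h | h
    · exact absurd (conj_eq_one_iff.1 (h1.trans h)) (z_ne e)
    · exact h1.trans h
  have hnC := centralizer_z_le e hyp (mem_centralizer_singleton_iff.2 (mul_inv_eq_iff_eq_mul.1 hnz))
  rw [← hnt, mem_centralizer_singleton_iff.1 hnC, mul_inv_cancel_right]

include e in
/-- A homomorphism to a group of order two not vanishing on `t`. -/
theorem exists_hom : ∃ V : G →* Multiplicative (ZMod 2), V t = one' := by
  classical
  haveI : Fact (Nat.Prime 2) := ⟨Nat.prime_two⟩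
  set C := centralizer ({t} : Set G) with hC
  let φ : C →* Multiplicative (ZMod 2) := (MonoidHom.fst _ _).comp e.toMonoidHom
  haveI := Fintype.ofFinite (G ⧸ C)
  refine ⟨MonoidHom.transfer φ, ?_⟩
  rw [CfsgLib.LocalEven.Yoshida.transfer_eq_fixed φ t 1 ?_, one_pow, one_mul]
  swap
  · intro g l hl hl1 h
    have hot : orderOf t = 2 := orderOf_eq_prime (by rw [sq]; exact hyp.sq) hyp.ne
    rw [hot] at hl
    rcases (Nat.dvd_prime Nat.prime_two).1 hl with rfl | rfl
    · omega
    · rw [one_pow, ← map_one φ]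
      exact congrArg φ (Subtype.ext (show g⁻¹ * t ^ 2 * g = 1 by rw [sq, hyp.sq]; group))
  let φh : G → Multiplicative (ZMod 2) := fun y => if h : y ∈ C then φ ⟨y, h⟩ else 1
  have hφh : ∀ k ∈ C, ∀ y, φh (k⁻¹ * y * k) = φh y := by
    intro k hk y
    by_cases hy : y ∈ C
    · have hy' : k⁻¹ * y * k ∈ C := mul_mem (mul_mem (inv_mem hk) hy) hk
      simp only [φh, dif_pos hy, dif_pos hy']
      rw [show (⟨k⁻¹ * y * k, hy'⟩ : C) = (⟨k, hk⟩ : C)⁻¹ * ⟨y, hy⟩ * ⟨k, hk⟩ from rfl, map_mul,
        map_mul, map_inv, mul_comm (φ ⟨k, hk⟩)⁻¹, inv_mul_cancel_right]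
    · have hy' : k⁻¹ * y * k ∉ C := fun h => hy (by
        have := mul_mem (mul_mem hk h) (inv_mem hk)
        simpa [mul_assoc] using this)
      simp only [φh, dif_neg hy, dif_neg hy']
  have hterm : ∀ c : G ⧸ C, (if h : c.out⁻¹ * t * c.out ∈ C then φ ⟨_, h⟩ / 1 else 1) =
      φh (c.out⁻¹ * t * c.out) := by
    intro c
    simp only [φh, div_one]
  rw [Finset.prod_congr rfl fun c _ => hterm c]
  have hwd : ∀ g : G, φh ((g : G ⧸ C).out⁻¹ * t * (g : G ⧸ C).out) = φh (g⁻¹ * t * g) := by
    intro g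
    obtain ⟨k, hk⟩ := QuotientGroup.mk_out_eq_mul C g
    rw [hk, show (g * (k : G))⁻¹ * t * (g * k) = (k : G)⁻¹ * (g⁻¹ * t * g) * k by group,
      hφh _ k.2]
  obtain ⟨S, hS, hSt, -⟩ := exists_sylow e hyp
  let A := {c : G ⧸ C // φh (c.out⁻¹ * t * c.out) ≠ 1}
  have hinv : ∀ (x : (S : Subgroup G)) (c : G ⧸ C), φh (c.out⁻¹ * t * c.out) ≠ 1 →
      φh (((x : G) • c).out⁻¹ * t * ((x : G) • c).out) ≠ 1 := by
    intro x c h
    obtain ⟨g, rfl⟩ := QuotientGroup.mk_surjective c
    rw [MulAction.Quotient.smul_mk, smul_eq_mul, hwd]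
    rw [hwd] at h
    have hx : t * (x : G) = (x : G) * t := (mem_centralizer_singleton_iff.1 (hSt x.2)).symm
    rwa [show ((x : G) * g)⁻¹ * t * ((x : G) * g) = g⁻¹ * ((x : G)⁻¹ * (t * x)) * g by group, hx,
      inv_mul_cancel_left]
  let _act : MulAction (S : Subgroup G) A :=
    { smul := fun x c => ⟨(x : G) • (c : G ⧸ C), hinv x c.1 c.2⟩
      one_smul := fun c => Subtype.ext (one_smul G (c : G ⧸ C))
      mul_smul := fun x y c => Subtype.ext (mul_smul (x : G) (y : G) (c : G ⧸ C)) }
  have hmod := S.2.card_modEq_card_fixedPoints A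
  have htC : t ∈ C := mem_centralizer_singleton_iff.2 rfl
  have hone : φh t = one' := by
    simp only [φh, dif_pos htC]
    show (e ⟨t, htC⟩).1 = one'
    rw [show (⟨t, htC⟩ : C) = ⟨emb e (one', 1), emb_mem e _⟩ from Subtype.ext (emb_one' e hyp.ne).symm,
      e_emb]
  have hbase : φh ((((1 : G) : G ⧸ C)).out⁻¹ * t * (((1 : G) : G ⧸ C)).out) ≠ 1 := by
    rw [hwd, inv_one, one_mul, mul_one, hone]
    exact one'_ne
  have hfix : Nat.card (MulAction.fixedPoints (S : Subgroup G) A) = 1 := by
    rw [Nat.card_eq_one_iff_exists]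
    refine ⟨⟨⟨_, hbase⟩, fun x => Subtype.ext ?_⟩, ?_⟩
    · show (x : G) • ((1 : G) : G ⧸ C) = ((1 : G) : G ⧸ C)
      rw [MulAction.Quotient.smul_mk, smul_eq_mul, mul_one, QuotientGroup.eq, mul_one]
      exact inv_mem (hSt x.2)
    · rintro ⟨⟨c, hc⟩, hfixc⟩
      refine Subtype.ext (Subtype.ext ?_)
      show c = ((1 : G) : G ⧸ C)
      obtain ⟨g, rfl⟩ := QuotientGroup.mk_surjective c
      have hw : g * t * g⁻¹ ∈ centralizer ((S : Subgroup G) : Set G) := by
        refine mem_centralizer_iff.2 fun x hx => ?_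
        have h1 : (x : G) • (g : G ⧸ C) = (g : G ⧸ C) :=
          congrArg Subtype.val (hfixc ⟨x, hx⟩)
        rw [MulAction.Quotient.smul_mk, smul_eq_mul, QuotientGroup.eq] at h1
        have h2 := mem_centralizer_singleton_iff.1 h1
        calc x * (g * t * g⁻¹) = x * g * t * ((x * g)⁻¹ * g) * g⁻¹ * x := by group
          _ = x * g * (t * ((x * g)⁻¹ * g)) * g⁻¹ * x := by group
          _ = x * g * ((x * g)⁻¹ * g * t) * g⁻¹ * x := by rw [h2]
          _ = g * t * g⁻¹ * x := by group
      have h3 := eq_of_central e hyp hS hw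
      rw [QuotientGroup.eq, mul_one]
      exact inv_mem (mem_centralizer_singleton_iff.2 (mul_inv_eq_iff_eq_mul.1 h3))
  rw [hfix] at hmod
  haveI := Fintype.ofFinite A
  have hodd : Odd ((Finset.univ.filter fun c : G ⧸ C => φh (c.out⁻¹ * t * c.out) ≠ 1).card) := by
    rw [Nat.odd_iff, ← Fintype.card_subtype, ← Nat.card_eq_fintype_card]
    exact hmod
  rw [← Finset.prod_filter_ne_one, Finset.prod_congr rfl (g := fun _ => one')
    (fun c hc => two_cases _ _ (Finset.mem_filter.1 hc).2 one'_ne), Finset.prod_const]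
  obtain ⟨m, hm⟩ := hodd
  rw [hm, pow_add, pow_mul, one'_sq, one_pow, one_mul, pow_one]

include e in
/-- A further commuting conjugate of `t` has six conjugates under the centralizer. -/
theorem seven_le_index {g : G} (hg : g * t * g⁻¹ ∈ centralizer ({t} : Set G))
    (hne : g * t * g⁻¹ ≠ t) :
    7 ≤ (centralizer ({t} : Set G)).index ∧ ((centralizer ({t} : Set G)).index = 7 →
      ∀ y : G, y * t * y⁻¹ ∈ centralizer ({t} : Set G)) := by
  classical
  set C := centralizer ({t} : Set G) with hC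
  obtain ⟨⟨a, s⟩, hp⟩ := exists_emb e hg
  have hss : s * s = 1 := by
    have h1 : emb e (a, s) * emb e (a, s) = 1 := by
      rw [hp]
      calc g * t * g⁻¹ * (g * t * g⁻¹) = g * (t * t) * g⁻¹ := by group
        _ = 1 := by rw [hyp.sq]; group
    rw [← map_mul] at h1
    exact congrArg Prod.snd (emb_injective e (h1.trans (map_one (emb e)).symm))
  have hs1 : s ≠ 1 := by
    rintro rfl
    by_cases ha : a = 1
    · subst ha
      have : g * t * g⁻¹ = 1 := hp.symm.trans (map_one (emb e))
      exact hyp.ne (conj_eq_one_iff.1 this)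
    · rw [two_cases a one' ha one'_ne, emb_one' e hyp.ne] at hp
      exact hne hp.symm
  have hconj : ∀ c : Perm (Fin 4), emb e (a, c * s * c⁻¹) =
      emb e (1, c) * g * t * (emb e (1, c) * g)⁻¹ := by
    intro c
    rw [show (a, c * s * c⁻¹) = ((1 : Multiplicative (ZMod 2)), c) * (a, s) * (1, c)⁻¹ by
      simp, map_mul, map_mul, map_inv, hp]
    group
  obtain ⟨S, hS, hSt, -⟩ := exists_sylow e hyp
  have hnd : ¬ ∃ c, c * s * c⁻¹ = d := by
    rintro ⟨c, hc⟩
    have h1 : emb e (1, c) * g * t * (emb e (1, c) * g)⁻¹ ∈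
        centralizer ((S : Subgroup G) : Set G) := by
      rw [← hconj, hc]
      refine mem_centralizer_iff.2 fun x hx => ?_
      have hx' : x ∈ (S : Subgroup G) := hx
      obtain ⟨q, rfl⟩ := exists_emb e (hSt hx')
      rw [hS, mem_cent_z] at hx'
      rw [← map_mul, ← map_mul]
      refine congrArg (emb e) (Prod.ext ?_ ?_)
      · exact mul_comm _ _
      · exact (show q.2 * d = d * q.2 from congrArg Prod.snd hx')
    have h2 := eq_of_central e hyp hS h1
    rw [← hconj, hc] at h2
    nth_rewrite 2 [← emb_one' e hyp.ne] at h2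
    exact (by decide : d ≠ 1) (congrArg Prod.snd (emb_injective e h2))
  have h6 := ((class_cases s hss).resolve_left hs1).resolve_left hnd
  set K := Finset.univ.image fun c : Perm (Fin 4) => c * s * c⁻¹ with hK
  have hsel : ∀ x : K, ∃ c, c * s * c⁻¹ = x.1 := fun x => by
    obtain ⟨c, -, hc⟩ := Finset.mem_image.1 x.2
    exact ⟨c, hc⟩
  choose sel hsel' using hsel
  let w : G ⧸ C → G := fun q => q.out * t * q.out⁻¹
  have hw : ∀ y : G, w (y : G ⧸ C) = y * t * y⁻¹ := by
    intro y
    obtain ⟨k, hk⟩ := QuotientGroup.mk_out_eq_mul C y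
    show (y : G ⧸ C).out * t * (y : G ⧸ C).out⁻¹ = _
    rw [hk, show y * (k : G) * t * (y * k)⁻¹ = y * ((k : G) * t) * (k : G)⁻¹ * y⁻¹ by group,
      mem_centralizer_singleton_iff.1 k.2]
    group
  let F : Option K → G ⧸ C := fun o => o.elim ((1 : G) : G ⧸ C)
    fun x => ((emb e (1, sel x) * g : G) : G ⧸ C)
  have hF : ∀ x, w (F (some x)) = emb e (a, x.1) := fun x => by
    show w ((emb e (1, sel x) * g : G) : G ⧸ C) = _
    rw [hw, ← hconj, hsel']
  have hFn : w (F none) = t := by
    show w ((1 : G) : G ⧸ C) = _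
    rw [hw]; group
  have hns : ∀ x : K, emb e (a, x.1) ≠ t := fun x h => by
    have h' : x.1 = 1 :=
      congrArg Prod.snd (emb_injective e (h.trans (emb_one' e hyp.ne).symm))
    rw [← hsel' x] at h'
    exact hs1 (conj_eq_one_iff.1 h')
  have hFi : Function.Injective F := by
    intro o o' h
    have h' := congrArg w h
    rcases o with _ | x <;> rcases o' with _ | x'
    · rfl
    · rw [hFn, hF] at h'; exact absurd h'.symm (hns x')
    · rw [hFn, hF] at h'; exact absurd h' (hns x)
    · rw [hF, hF] at h'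
      exact congrArg some (Subtype.ext (congrArg Prod.snd (emb_injective e h')))
  haveI := Fintype.ofFinite (G ⧸ C)
  have hcardF : Fintype.card (Option K) = 7 := by
    rw [Fintype.card_option, Fintype.card_coe, h6]
  have hidx : C.index = Fintype.card (G ⧸ C) := by
    rw [Subgroup.index_eq_card, Nat.card_eq_fintype_card]
  refine ⟨by rw [hidx, ← hcardF]; exact Fintype.card_le_of_injective F hFi, fun h7 y => ?_⟩
  obtain ⟨o, ho⟩ := ((Fintype.bijective_iff_injective_and_card F).2
    ⟨hFi, by rw [hcardF, ← hidx, h7]⟩).2 (y : G ⧸ C)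
  rw [← hw, ← ho]
  rcases o with _ | x
  · rw [hFn]; exact mem_centralizer_singleton_iff.2 rfl
  · rw [hF]; exact emb_mem e _

end CfsgLib.Characterizations.TwoTimesSymmetricFour
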