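import Cfsg.Agent.Lib.Involution.ZStar.Corollaries
import Cfsg.Agent.Lib.Involution.ZStar.Main

/-!
# A centraliser `(L ∘ Lⁿ)⟨n⟩` with `n² = j`

`L` behaves like `SL(2, q)`, `q` odd: `j` is its involution, the elements squaring to `j` are
conjugate and have abelian centralisers. Then `j` is isolated: a conjugate `t` of `j` in the
centraliser has fewer square roots in `C(j, t)` than `j`.
-/

set_option autoImplicit false

namespace CfsgLib.Characterizations.WreathedSLTwo

variable {G : Type*} [Group G]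

/-- The hypotheses on `L`, `j`, `n`. -/
structure Data (L : Subgroup G) (j n : G) : Prop where
  jL : j ∈ L
  j1 : j ≠ 1
  j2 : j * j = 1
  jc : ∀ x ∈ L, x * j = j * x
  inv : ∀ x ∈ L, x * x = 1 → x = 1 ∨ x = j
  conj : ∀ x ∈ L, ∀ y ∈ L, x * x = j → y * y = j → ∃ h ∈ L, h * x * h⁻¹ = y
  anti : ∀ a ∈ L, ∀ x ∈ L, a * a = j → x * a = a * x * j → x * x = j
  comm : ∀ a ∈ L, ∀ x ∈ L, ∀ y ∈ L, a * a = j → x * a = a * x → y * a = a * y → x * y = y * x
  hcomm : ∀ x ∈ L, ∀ y ∈ L, x * (n * y * n⁻¹) = n * y * n⁻¹ * x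
  inter : ∀ x ∈ L, ∀ y ∈ L, x = n * y * n⁻¹ → x = 1 ∨ x = j
  nn : n * n = j
  dec : ∀ c, c * j = j * c →
    ∃ x ∈ L, ∃ y ∈ L, c = x * (n * y * n⁻¹) ∨ c = n * (x * (n * y * n⁻¹))
  nout : ∀ x ∈ L, ∀ y ∈ L, n ≠ x * (n * y * n⁻¹)

variable {L : Subgroup G} {j n : G}

namespace Data

variable (D : Data L j n)
include D

theorem nj : n * j = j * n := by rw [← D.nn, mul_assoc]

theorem theta_j : n * j * n⁻¹ = j := by rw [D.nj, mul_inv_cancel_right]

theorem jinv : j⁻¹ = j := inv_eq_of_mul_eq_one_right D.j2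

theorem theta_theta {y : G} (hy : y ∈ L) : n * (n * y * n⁻¹) * n⁻¹ = y := by
  calc n * (n * y * n⁻¹) * n⁻¹ = (n * n) * y * (n * n)⁻¹ := by group
    _ = y := by rw [D.nn, ← D.jc y hy, mul_inv_cancel_right]

theorem pair_mul {x y x' y' : G} (hy : y ∈ L) (hx' : x' ∈ L) :
    x * (n * y * n⁻¹) * (x' * (n * y' * n⁻¹)) = x * x' * (n * (y * y') * n⁻¹) := by
  calc x * (n * y * n⁻¹) * (x' * (n * y' * n⁻¹))
      = x * ((n * y * n⁻¹) * x') * (n * y' * n⁻¹) := by group
    _ = x * (x' * (n * y * n⁻¹)) * (n * y' * n⁻¹) := by rw [D.hcomm x' hx' y hy]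
    _ = _ := by group

theorem mul_j {x y : G} (hy : y ∈ L) :
    x * (n * y * n⁻¹) * j = (x * j) * (n * y * n⁻¹) := by
  rw [mul_assoc, ← D.hcomm j D.jL y hy, ← mul_assoc]

/-- The representation of an element of `L θ(L)` is unique up to `(j, j)`. -/
theorem pair_eq {x y x' y' : G} (hx : x ∈ L) (hy : y ∈ L) (hx' : x' ∈ L) (hy' : y' ∈ L)
    (h : x * (n * y * n⁻¹) = x' * (n * y' * n⁻¹)) :
    (x' = x ∧ y' = y) ∨ (x' = x * j ∧ y' = y * j) := by
  have h1 : x⁻¹ * x' = n * (y * y'⁻¹) * n⁻¹ := by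
    calc x⁻¹ * x' = x⁻¹ * (x' * (n * y' * n⁻¹)) * (n * y' * n⁻¹)⁻¹ := by group
      _ = _ := by rw [← h]; group
  rcases D.inter _ (L.mul_mem (L.inv_mem hx) hx') _ (L.mul_mem hy (L.inv_mem hy')) h1 with e | e
  · left
    refine ⟨(inv_mul_eq_one.1 e).symm, ?_⟩
    rw [e] at h1
    exact (mul_inv_eq_one.1 (conj_eq_one_iff.1 h1.symm)).symm
  · right
    refine ⟨(inv_mul_eq_iff_eq_mul.1 e), ?_⟩
    rw [e] at h1
    have h2 : y * y'⁻¹ = j := by
      calc y * y'⁻¹ = n⁻¹ * (n * (y * y'⁻¹) * n⁻¹) * n := by group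
        _ = n⁻¹ * (n * j) := by rw [← h1, mul_assoc, ← D.nj]
        _ = j := inv_mul_cancel_left _ _
    calc y' = (y * y'⁻¹)⁻¹ * y := by group
      _ = y * j := by rw [h2, D.jinv, ← D.jc y hy]

/-- Squares in the coset of `n`. -/
theorem sq_out {x y : G} (hx : x ∈ L) (hy : y ∈ L) :
    n * (x * (n * y * n⁻¹)) * (n * (x * (n * y * n⁻¹))) =
      j * (y * x) * (n * (x * y) * n⁻¹) := by
  calc n * (x * (n * y * n⁻¹)) * (n * (x * (n * y * n⁻¹)))
      = (n * x * n⁻¹) * (n * (n * y * n⁻¹) * n⁻¹) * (n * n) * (x * (n * y * n⁻¹)) := by group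
    _ = (n * x * n⁻¹) * y * j * (x * (n * y * n⁻¹)) := by rw [D.theta_theta hy, D.nn]
    _ = j * ((y * (n * x * n⁻¹)) * (x * (n * y * n⁻¹))) := by
        rw [← D.hcomm y hy x hx]
        have h : y * (n * x * n⁻¹) * j = j * (y * (n * x * n⁻¹)) := by
          rw [mul_assoc, ← D.hcomm j D.jL x hx, ← mul_assoc, D.jc y hy, mul_assoc]
        rw [h, mul_assoc]
    _ = _ := by rw [D.pair_mul hx hx, ← mul_assoc]

theorem a_ne {a : G} (ha2 : a * a = j) : a ≠ 1 ∧ a ≠ j ∧ a * j ≠ j := by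
  refine ⟨fun h => ?_, fun h => ?_, fun h => ?_⟩
  · rw [h, one_mul] at ha2; exact D.j1 ha2.symm
  · rw [h, D.j2] at ha2; exact D.j1 ha2.symm
  · rw [mul_eq_right] at h; rw [h, one_mul] at ha2; exact D.j1 ha2.symm

/-- What commutes with `a θ(a)` commutes or anticommutes with `a` in both factors. -/
theorem comm_cases {a x y : G} (ha : a ∈ L) (hx : x ∈ L) (hy : y ∈ L)
    (h : x * (n * y * n⁻¹) * (a * (n * a * n⁻¹)) = a * (n * a * n⁻¹) * (x * (n * y * n⁻¹))) :
    (x * a = a * x ∧ y * a = a * y) ∨ (x * a = a * x * j ∧ y * a = a * y * j) := by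
  rw [D.pair_mul hy ha, D.pair_mul ha hx] at h
  exact D.pair_eq (L.mul_mem ha hx) (L.mul_mem ha hy) (L.mul_mem hx ha) (L.mul_mem hy ha) h.symm

theorem n_comm_t {a : G} (ha : a ∈ L) :
    n * (a * (n * a * n⁻¹)) = a * (n * a * n⁻¹) * n := by
  calc n * (a * (n * a * n⁻¹)) = (n * a * n⁻¹) * (n * (n * a * n⁻¹) * n⁻¹) * n := by group
    _ = _ := by rw [D.theta_theta ha, ← D.hcomm a ha a ha]

/-- The involutions of `C(j)` other than `j`. -/
theorem involution_form {c : G} (hcj : c * j = j * c) (hc2 : c * c = 1) (hc1 : c ≠ 1) (hne : c ≠ j) :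
    ∃ x ∈ L, ∃ y ∈ L, x * x = j ∧ y * y = j ∧ c = x * (n * y * n⁻¹) := by
  obtain ⟨x, hx, y, hy, rfl | rfl⟩ := D.dec c hcj
  · have h : (1 : G) * (n * 1 * n⁻¹) = x * x * (n * (y * y) * n⁻¹) := by
      rw [← D.pair_mul hy hx, hc2]; group
    rcases D.pair_eq L.one_mem L.one_mem (L.mul_mem hx hx) (L.mul_mem hy hy) h with
      ⟨e1, e2⟩ | ⟨e1, e2⟩
    · exfalso
      rcases D.inv x hx e1 with rfl | rfl <;> rcases D.inv y hy e2 with rfl | rfl
      · exact hc1 (by group)
      · exact hne (by rw [D.theta_j, one_mul])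
      · exact hne (by group)
      · exact hc1 (by rw [D.theta_j, D.j2])
    · exact ⟨x, hx, y, hy, e1.trans (one_mul j), e2.trans (one_mul j), rfl⟩
  · exfalso
    have h : (1 : G) * (n * 1 * n⁻¹) = j * (y * x) * (n * (x * y) * n⁻¹) := by
      rw [← D.sq_out hx hy, hc2]; group
    rcases D.pair_eq L.one_mem L.one_mem (L.mul_mem D.jL (L.mul_mem hy hx)) (L.mul_mem hx hy) h with
      ⟨e1, e2⟩ | ⟨e1, e2⟩
    · have : y * x = 1 := by rw [eq_inv_of_mul_eq_one_left e2]; exact mul_inv_cancel _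
      rw [this, mul_one] at e1
      exact D.j1 e1
    · have h1 : y * x = 1 := by rw [one_mul] at e1; exact mul_eq_left.1 e1
      have h2 : x * y = 1 := by rw [eq_inv_of_mul_eq_one_right h1]; exact inv_mul_cancel y
      rw [h2, one_mul] at e2
      exact D.j1 e2.symm

variable [Finite G]

/-- `j` is isolated. -/
theorem isolated : Cfsg.IsIsolatedInvolution j := by
  classical
  haveI := Fintype.ofFinite G
  refine ⟨orderOf_eq_prime (by rw [pow_two, D.j2]) D.j1, fun g hg => ?_⟩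
  by_contra hne
  set c := g * j * g⁻¹ with hc
  have hcj : c * j = j * c := hg.eq.symm
  have hc2 : c * c = 1 := by
    rw [hc, show g * j * g⁻¹ * (g * j * g⁻¹) = g * (j * j) * g⁻¹ by group, D.j2]; group
  have hc1 : c ≠ 1 := fun h => D.j1 (conj_eq_one_iff.1 h)
  obtain ⟨a, ha, y₀, hy₀, ha2, hy₀2, hceq⟩ := D.involution_form hcj hc2 hc1 hne
  set t := a * (n * a * n⁻¹) with ht
  have hnot : t ≠ j ∧ t * j = j * t := by
    refine ⟨fun h => ?_, ?_⟩
    · rcases D.pair_eq ha ha D.jL L.one_mem (by rw [← ht, h]; group) with ⟨e, -⟩ | ⟨e, -⟩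
      · exact (D.a_ne ha2).2.1 e.symm
      · exact (D.a_ne ha2).2.2 e.symm
    · rw [ht, D.mul_j ha, D.jc a ha, mul_assoc]
  -- every conjugate of `j` commuting with `j` is conjugate to `t` in `C(j)`
  have hto : ∀ d : G, d * j = j * d → d * d = 1 → d ≠ 1 → d ≠ j →
      ∃ h : G, h * j * h⁻¹ = j ∧ h * d * h⁻¹ = t := by
    intro d hdj hd2 hd1 hdne
    obtain ⟨x, hx, y, hy, hx2, hy2, rfl⟩ := D.involution_form hdj hd2 hd1 hdne
    obtain ⟨p, hp, hpx⟩ := D.conj x hx a ha hx2 ha2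
    obtain ⟨q, hq, hqy⟩ := D.conj y hy a ha hy2 ha2
    refine ⟨p * (n * q * n⁻¹), ?_, ?_⟩
    · rw [D.mul_j hq, D.jc p hp, mul_assoc j p, mul_inv_cancel_right]
    · calc p * (n * q * n⁻¹) * (x * (n * y * n⁻¹)) * (p * (n * q * n⁻¹))⁻¹
          = p * ((n * q * n⁻¹) * x) * (n * y * n⁻¹) * (n * q * n⁻¹)⁻¹ * p⁻¹ := by group
        _ = p * (x * (n * q * n⁻¹)) * (n * y * n⁻¹) * (n * q * n⁻¹)⁻¹ * p⁻¹ := by
            rw [← D.hcomm x hx q hq]
        _ = p * x * ((n * (q * y * q⁻¹) * n⁻¹) * p⁻¹) := by group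
        _ = p * x * (p⁻¹ * (n * (q * y * q⁻¹) * n⁻¹)) := by
            rw [D.hcomm p⁻¹ (L.inv_mem hp) _ (L.mul_mem (L.mul_mem hq hy) (L.inv_mem hq))]
        _ = (p * x * p⁻¹) * (n * (q * y * q⁻¹) * n⁻¹) := by group
        _ = t := by rw [hpx, hqy, ht]
  obtain ⟨h₀, hh₀j, hh₀c⟩ := hto c hcj hc2 hc1 hne
  -- an element interchanging `j` and `t`
  obtain ⟨g₂, hg₂j, hg₂t⟩ : ∃ g₂ : G, g₂ * j * g₂⁻¹ = t ∧ g₂ * t * g₂⁻¹ = j := by
    set g₁ := h₀ * g with hg₁
    have e1 : g₁ * j * g₁⁻¹ = t := by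
      rw [hg₁, ← hh₀c, hc]; group
    set d := g₁⁻¹ * j * g₁ with hd
    obtain ⟨h₁, h₁j, h₁d⟩ := hto d (by
        have : g₁ * (d * j) * g₁⁻¹ = g₁ * (j * d) * g₁⁻¹ := by
          calc g₁ * (d * j) * g₁⁻¹ = j * (g₁ * j * g₁⁻¹) := by rw [hd]; group
            _ = g₁ * j * g₁⁻¹ * j := by rw [e1]; exact hnot.2.symm
            _ = _ := by rw [hd]; group
        exact mul_left_cancel (mul_right_cancel this))
      (by rw [hd, show g₁⁻¹ * j * g₁ * (g₁⁻¹ * j * g₁) = g₁⁻¹ * (j * j) * g₁ by group, D.j2]; group)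
      (fun h => D.j1 (by
        calc j = g₁ * d * g₁⁻¹ := by rw [hd]; group
          _ = 1 := by rw [h]; group))
      (fun h => hnot.1 (by rw [← e1]; nth_rewrite 1 [← h]; rw [hd]; group))
    refine ⟨h₁ * g₁⁻¹, ?_, ?_⟩
    · rw [← h₁d, hd]; group
    · calc h₁ * g₁⁻¹ * t * (h₁ * g₁⁻¹)⁻¹ = h₁ * (g₁⁻¹ * t * g₁) * h₁⁻¹ := by group
        _ = h₁ * j * h₁⁻¹ := by rw [← e1]; group
        _ = j := h₁j
  -- the square roots in `C(j, t)`
  let R : G → Finset G := fun v =>
    Finset.univ.filter fun b => b * j = j * b ∧ b * t = t * b ∧ b * b = v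
  have hR : (R j).card ≤ (R t).card := by
    refine Finset.card_le_card_of_injOn (fun b => g₂ * b * g₂⁻¹) (fun b hb => ?_)
      (fun b _ b' _ h => mul_left_cancel (mul_right_cancel h))
    simp only [R, Finset.coe_filter, Finset.mem_univ, true_and, Set.mem_setOf_eq] at hb ⊢
    obtain ⟨h1, h2, h3⟩ := hb
    have k1 := congrArg (fun z => g₂ * z * g₂⁻¹) h1
    have k2 := congrArg (fun z => g₂ * z * g₂⁻¹) h2
    have k3 := congrArg (fun z => g₂ * z * g₂⁻¹) h3
    simp only [← conj_mul, hg₂j, hg₂t] at k1 k2 k3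
    exact ⟨k2, k1, k3⟩
  -- roots inside `L θ(L)` and outside
  let r : G → G := fun v => if h : ∃ x ∈ L, x * x = v then h.choose else 1
  have hr : ∀ v, ∀ x ∈ L, x * x = v → r v ∈ L ∧ r v * r v = v := fun v x hx hxv => by
    have h : ∃ x ∈ L, x * x = v := ⟨x, hx, hxv⟩
    simp only [r, dif_pos h]
    exact h.choose_spec
  let w : G → G := fun v => r v * (n * r v * n⁻¹)
  let P : Finset G := {w a, w a * j, w (a * j), w (a * j) * j}
  let E : Finset G := {a, n * a * n⁻¹, a * j, n * a * n⁻¹ * j, n}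
  let Q := (R t).filter fun b => b ∉ P
  have hout : ∀ b ∈ Q, ∃ x ∈ L, x * a = a * x * j ∧
      ∃ y ∈ L, b * (n * a * n⁻¹)⁻¹ = n * (x * (n * y * n⁻¹)) ∧ b * (n * a * n⁻¹)⁻¹ ∈ R j := by
    intro b hb
    simp only [Q, R, Finset.mem_filter, Finset.mem_univ, true_and] at hb
    obtain ⟨⟨hbj, hbt, hb2⟩, hbP⟩ := hb
    obtain ⟨x, hx, y, hy, rfl | rfl⟩ := D.dec b hbj
    · exfalso
      have h : a * (n * a * n⁻¹) = x * x * (n * (y * y) * n⁻¹) := by
        rw [← D.pair_mul hy hx, hb2]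
      rcases D.comm_cases ha hx hy hbt with ⟨hxa, hya⟩ | ⟨hxa, hya⟩
      · have key : ∀ v, x * x = v → y * y = v → x * (n * y * n⁻¹) = w v ∨
            x * (n * y * n⁻¹) = w v * j := by
          intro v hxv hyv
          obtain ⟨hrL, hr2⟩ := hr v x hx hxv
          have hra : r v * a = a * r v ∧ v * a = a * v := by
            have hv : v = a ∨ v = a * j := by
              rcases D.pair_eq ha ha (L.mul_mem hx hx) (L.mul_mem hy hy) h with ⟨e, -⟩ | ⟨e, -⟩
              · exact Or.inl (hxv.symm.trans e)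
              · exact Or.inr (hxv.symm.trans e)
            have hcom : Commute (r v) v := by
              have h3 := (Commute.refl (r v)).mul_right (Commute.refl (r v))
              rwa [hr2] at h3
            rcases hv with rfl | rfl
            · exact ⟨hcom.eq, rfl⟩
            · refine ⟨?_, by rw [mul_assoc, ← D.jc a ha]⟩
              have := hcom.mul_right (show Commute _ j from D.jc _ hrL)
              rw [mul_assoc a j j, D.j2, mul_one] at this
              exact this.eq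
          have key2 : ∀ z ∈ L, z * a = a * z → z * z = v → z = r v ∨ z = r v * j := by
            intro z hz hza hzv
            have hcom := D.comm a ha z hz (r v) hrL ha2 hza hra.1
            have : ((r v)⁻¹ * z) * ((r v)⁻¹ * z) = 1 := by
              have hc' : Commute (r v)⁻¹ z := (show Commute (r v) z from hcom.symm).inv_left
              rw [hc'.symm.mul_mul_mul_comm, hzv, ← mul_inv_rev, hr2, inv_mul_cancel]
            rcases D.inv _ (L.mul_mem (L.inv_mem hrL) hz) this with e | e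
            · exact Or.inl (inv_mul_eq_one.1 e).symm
            · exact Or.inr (inv_mul_eq_iff_eq_mul.1 e)
          have hθj : ∀ z, n * (z * j) * n⁻¹ = n * z * n⁻¹ * j := fun z => by
            calc n * (z * j) * n⁻¹ = n * z * n⁻¹ * (n * j * n⁻¹) := by group
              _ = _ := by rw [D.theta_j]
          rcases key2 x hx hxa hxv with rfl | rfl <;> rcases key2 y hy hya hyv with rfl | rfl
          · exact Or.inl rfl
          · exact Or.inr (by simp only [w, hθj, mul_assoc])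
          · exact Or.inr (by simp only [w]; rw [D.mul_j hrL])
          · refine Or.inl ?_
            simp only [w]
            rw [hθj, ← mul_assoc, ← D.mul_j hrL, mul_assoc _ j j, D.j2, mul_one]
        apply hbP
        simp only [P, Finset.mem_insert, Finset.mem_singleton]
        rcases D.pair_eq ha ha (L.mul_mem hx hx) (L.mul_mem hy hy) h with ⟨e1, e2⟩ | ⟨e1, e2⟩
        · rcases key a e1 e2 with e | e <;> tauto
        · rcases key (a * j) e1 e2 with e | e <;> tauto
      · rw [D.anti a ha x hx ha2 hxa, D.anti a ha y hy ha2 hya] at h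
        rcases D.pair_eq ha ha D.jL D.jL h with ⟨e, -⟩ | ⟨e, -⟩
        · exact (D.a_ne ha2).2.1 e.symm
        · exact (D.a_ne ha2).2.2 e.symm
    · have hbt' : x * (n * y * n⁻¹) * t = t * (x * (n * y * n⁻¹)) := by
        apply mul_left_cancel (a := n)
        rw [← mul_assoc, hbt, ← mul_assoc n t, D.n_comm_t ha]
        simp only [mul_assoc, ht]
      have h : a * (n * a * n⁻¹) = j * (y * x) * (n * (x * y) * n⁻¹) := by
        rw [← D.sq_out hx hy, hb2]
      have hcase := D.pair_eq ha ha (L.mul_mem D.jL (L.mul_mem hy hx)) (L.mul_mem hx hy) h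
      rcases D.comm_cases ha hx hy hbt' with ⟨hxa, hya⟩ | ⟨hxa, hya⟩
      · exfalso
        rw [D.comm a ha y hy x hx ha2 hya hxa] at hcase
        rcases hcase with ⟨e1, e2⟩ | ⟨e1, e2⟩ <;>
          exact D.j1 (mul_eq_right.1 (e1.trans e2.symm))
      · refine ⟨x, hx, hxa, y * a⁻¹, L.mul_mem hy (L.inv_mem ha), by group, ?_⟩
        have hθt : (n * a * n⁻¹)⁻¹ * t = t * (n * a * n⁻¹)⁻¹ := by
          have hc' : Commute (n * a * n⁻¹) t :=
            ((show Commute a (n * a * n⁻¹) from D.hcomm a ha a ha).symm).mul_right (Commute.refl _)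
          exact hc'.inv_left.eq
        have hθj : (n * a * n⁻¹)⁻¹ * j = j * (n * a * n⁻¹)⁻¹ :=
          ((show Commute j (n * a * n⁻¹) from D.hcomm j D.jL a ha).symm).inv_left.eq
        simp only [R, Finset.mem_filter, Finset.mem_univ, true_and]
        refine ⟨?_, ?_, ?_⟩
        · rw [mul_assoc, hθj, ← mul_assoc, hbj, mul_assoc]
        · rw [mul_assoc, hθt, ← mul_assoc, hbt, mul_assoc]
        · have hy' : y * a⁻¹ ∈ L := L.mul_mem hy (L.inv_mem ha)
          rw [show n * (x * (n * y * n⁻¹)) * (n * a * n⁻¹)⁻¹ = n * (x * (n * (y * a⁻¹) * n⁻¹)) by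
            group, D.sq_out hx hy', ← mul_assoc x y a⁻¹]
          rcases hcase with ⟨e1, e2⟩ | ⟨e1, e2⟩
          · have hy1 : y * a⁻¹ = x⁻¹ := by rw [← e2]; group
            rw [e2, hy1, inv_mul_cancel, mul_inv_cancel]; group
          · have hxy : x * y * a⁻¹ = j := by rw [e2, D.jc a ha, mul_inv_cancel_right]
            have hy1 : y * a⁻¹ = x⁻¹ * j := by rw [← hxy]; group
            rw [hxy, hy1, D.theta_j]
            calc j * (x⁻¹ * j * x) * j = j * (x⁻¹ * (j * x)) * j := by group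
              _ = j * j * j := by rw [← D.jc x hx, inv_mul_cancel_left]
              _ = j := by rw [D.j2, one_mul]
  have hQsub : Q.image (fun b => b * (n * a * n⁻¹)⁻¹) ∪ E ⊆ R j := by
    intro b hb
    rcases Finset.mem_union.1 hb with hb | hb
    · obtain ⟨b₀, hb₀, rfl⟩ := Finset.mem_image.1 hb
      obtain ⟨-, -, -, -, -, -, h⟩ := hout b₀ hb₀
      exact h
    · have c1 : Commute a j := D.jc a ha
      have c2 : Commute (n * a * n⁻¹) j := (D.hcomm j D.jL a ha).symm
      have c3 : Commute a (n * a * n⁻¹) := D.hcomm a ha a ha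
      have ct : Commute a t := (Commute.refl a).mul_right c3
      have ct2 : Commute (n * a * n⁻¹) t := c3.symm.mul_right (Commute.refl _)
      have cjt : Commute j t := hnot.2.symm
      have cn : Commute n t := D.n_comm_t ha
      have hθ2 : n * a * n⁻¹ * (n * a * n⁻¹) = j := by
        rw [show n * a * n⁻¹ * (n * a * n⁻¹) = n * (a * a) * n⁻¹ by group, ha2, D.theta_j]
      simp only [R, Finset.mem_filter, Finset.mem_univ, true_and]
      simp only [E, Finset.mem_insert, Finset.mem_singleton] at hb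
      rcases hb with rfl | rfl | rfl | rfl | rfl
      · exact ⟨c1, ct, ha2⟩
      · exact ⟨c2, ct2, hθ2⟩
      · exact ⟨(c1.mul_left (Commute.refl j)), ct.mul_left cjt, by
          rw [c1.symm.mul_mul_mul_comm, ha2, D.j2, mul_one]⟩
      · exact ⟨(c2.mul_left (Commute.refl j)), ct2.mul_left cjt, by
          rw [c2.symm.mul_mul_mul_comm, hθ2, D.j2, mul_one]⟩
      · exact ⟨D.nj, cn, D.nn⟩
  have hdisj : Disjoint (Q.image fun b => b * (n * a * n⁻¹)⁻¹) E := by
    rw [Finset.disjoint_left]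
    intro b hb hbE
    obtain ⟨b₀, hb₀, rfl⟩ := Finset.mem_image.1 hb
    obtain ⟨x, hx, hxa, y, hy, heq, -⟩ := hout b₀ hb₀
    rw [heq] at hbE
    have hin : ∀ u ∈ L, ∀ v ∈ L, n * (x * (n * y * n⁻¹)) ≠ u * (n * v * n⁻¹) := by
      intro u hu v hv h
      refine D.nout (u * x⁻¹) (L.mul_mem hu (L.inv_mem hx)) (v * y⁻¹) (L.mul_mem hv (L.inv_mem hy)) ?_
      calc n = n * (x * (n * y * n⁻¹)) * (n * y * n⁻¹)⁻¹ * x⁻¹ := by group
        _ = u * ((n * (v * y⁻¹) * n⁻¹) * x⁻¹) := by rw [h]; group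
        _ = _ := by rw [← D.hcomm x⁻¹ (L.inv_mem hx) _ (L.mul_mem hv (L.inv_mem hy)), ← mul_assoc]
    have hθj : n * a * n⁻¹ * j = n * (a * j) * n⁻¹ := by
      calc n * a * n⁻¹ * j = n * a * n⁻¹ * (n * j * n⁻¹) := by rw [D.theta_j]
        _ = _ := by group
    simp only [E, Finset.mem_insert, Finset.mem_singleton] at hbE
    rcases hbE with h | h | h | h | h
    · exact hin a ha 1 L.one_mem (by rw [h]; group)
    · exact hin 1 L.one_mem a ha (by rw [h]; group)
    · exact hin (a * j) (L.mul_mem ha D.jL) 1 L.one_mem (by rw [h]; group)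
    · exact hin 1 L.one_mem (a * j) (L.mul_mem ha D.jL) (by rw [h, hθj, one_mul])
    · have h' : x * (n * y * n⁻¹) = 1 * (n * 1 * n⁻¹) := by
        rw [mul_eq_left.1 h]; group
      have hx' : x = 1 ∨ x = j := by
        rcases D.pair_eq hx hy L.one_mem L.one_mem h' with ⟨e, -⟩ | ⟨e, -⟩
        · exact Or.inl e.symm
        · exact Or.inr (by rw [← mul_one x, ← D.j2, ← mul_assoc, ← e, one_mul])
      rcases hx' with rfl | rfl
      · rw [one_mul, mul_one] at hxa
        exact D.j1 (mul_eq_left.1 hxa.symm)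
      · rw [← D.jc a ha] at hxa
        exact D.j1 (mul_eq_left.1 hxa.symm)
  have hE : E.card = 5 := by
    have hn' : ∀ u ∈ L, ∀ v ∈ L, n ≠ u * (n * v * n⁻¹) := D.nout
    have haθ : ∀ z ∈ L, a ≠ n * z * n⁻¹ := fun z hz h => by
      rcases D.inter a ha z hz h with e | e
      · exact (D.a_ne ha2).1 e
      · exact (D.a_ne ha2).2.1 e
    have hθj : n * a * n⁻¹ * j = n * (a * j) * n⁻¹ := by
      calc n * a * n⁻¹ * j = n * a * n⁻¹ * (n * j * n⁻¹) := by rw [D.theta_j]
        _ = _ := by group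
    have n1 : a ≠ a * j := fun h => D.j1 (mul_eq_left.1 h.symm)
    have n2 : n * a * n⁻¹ ≠ n * a * n⁻¹ * j := fun h => D.j1 (mul_eq_left.1 h.symm)
    have n3 : a ≠ n * a * n⁻¹ * j := by rw [hθj]; exact haθ _ (L.mul_mem ha D.jL)
    have n4 : n * a * n⁻¹ ≠ a * j := fun h => n3 (by rw [h, mul_assoc, D.j2, mul_one])
    have n5 : a * j ≠ n * a * n⁻¹ * j := fun h => haθ a ha (mul_right_cancel h)
    have m1 : a ≠ n := fun h => hn' a ha 1 L.one_mem (by rw [← h]; group)
    have m2 : n * a * n⁻¹ ≠ n := fun h => hn' 1 L.one_mem a ha (by rw [h, one_mul])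
    have m3 : a * j ≠ n := fun h => hn' (a * j) (L.mul_mem ha D.jL) 1 L.one_mem (by rw [← h]; group)
    have m4 : n * a * n⁻¹ * j ≠ n := fun h =>
      hn' 1 L.one_mem (a * j) (L.mul_mem ha D.jL) (by rw [← hθj, h, one_mul])
    simp only [E]
    rw [Finset.card_insert_of_notMem (by simp [haθ a ha, n1, n3, m1]),
      Finset.card_insert_of_notMem (by simp [n4, n2, m2]),
      Finset.card_insert_of_notMem (by simp [n5, m3]),
      Finset.card_insert_of_notMem (by simp [m4]), Finset.card_singleton]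
  have h1 := Finset.card_le_card hQsub
  rw [Finset.card_union_of_disjoint hdisj, hE,
    Finset.card_image_of_injective _ (fun b b' h => mul_right_cancel h)] at h1
  have h2 : (R t).card ≤ Q.card + 4 := by
    have := Finset.card_filter_add_card_filter_not (s := R t) (fun b => b ∉ P)
    have h3 : ((R t).filter fun b => ¬ b ∉ P).card ≤ P.card :=
      Finset.card_le_card fun b hb => by simpa using (Finset.mem_filter.1 hb).2
    have h4 : P.card ≤ 4 := Finset.card_le_four
    have hQ : Q.card = ((R t).filter fun b => b ∉ P).card := by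
      apply congrArg Finset.card
      exact Finset.filter_congr_decidable _ _ _
    omega
  omega

/-- The factorisation by the odd core. -/
theorem sup_oddCore_eq_top : Subgroup.centralizer ({j} : Set G) ⊔ Cfsg.oddCore G = ⊤ := by
  refine eq_top_iff.2 fun g _ => ?_
  obtain ⟨o, ho, c, hc, rfl⟩ := Involution.ZStar.exists_oddCore_mul_centralizer
    (Involution.ZStar.starCentral G) D.isolated g
  exact Subgroup.mul_mem _ (Subgroup.mem_sup_right ho) (Subgroup.mem_sup_left hc)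

end Data

end CfsgLib.Characterizations.WreathedSLTwo
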